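import Mathlib
import Groth.Agent.OpenDim.EquidimCrit
import Groth.Agent.OpenDim.Indep
import Groth.Agent.CMFlatLib.Affine
import Groth.Agent.FlatDim.Trdeg

/-!
# Equidimensional morphisms and quasi-finite maps to affine spaces
-/

set_option autoImplicit false
set_option backward.isDefEq.respectTransparency false
set_option linter.style.haveILetI false

universe u

open CategoryTheory CategoryTheory.Limits AlgebraicGeometry TopologicalSpace Topology

namespace Groth.Agent.GenIrredLib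

open OpenDim DimFormulaLib CMFlatLib

variable {X Y : Scheme.{u}} {n : ℕ}

/-- The affine chart of affine space over an affine chart of the base. -/
theorem exists_chart_affineSpace (n : ℕ) (z : 𝔸(ULift.{u} (Fin n); Y)) :
    ∃ (A : Type u) (_ : CommRing A) (c : Chart (𝔸(ULift.{u} (Fin n); Y) ↘ Y) z) (e : c.B ≃+* MvPolynomial (Fin n) A)
      (e' : c.A ≃+* A), ∀ a, e (algebraMap c.A c.B a) = MvPolynomial.C (e' a) := by
  obtain ⟨R, i, hi, ⟨(p : PrimeSpectrum R), hp⟩, -⟩ := Scheme.exists_affine_mem_range_and_range_subset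
    (show (𝔸(ULift.{u} (Fin n); Y) ↘ Y) z ∈ (⊤ : Y.Opens) from trivial)
  haveI : IsOpenImmersion (show Spec (CommRingCat.of R) ⟶ Y from i) := hi
  obtain ⟨w, hw⟩ : z ∈ Set.range (theta (Y := Y) (A := R) i n) := by
    obtain ⟨a, -, ha⟩ := Scheme.exists_preimage_of_isPullback (AffineSpace.isPullback_map (n := ULift.{u} (Fin n)) i).flip
      p z hp
    let κ : Spec (CommRingCat.of (MvPolynomial (Fin n) R)) ⟶ 𝔸(ULift.{u} (Fin n); Spec (CommRingCat.of R)) :=
      Spec.map (CommRingCat.ofHom (MvPolynomial.renameEquiv R Equiv.ulift.{u}).toRingEquiv.toRingHom) ≫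
        (AffineSpace.SpecIso _ (CommRingCat.of R)).inv
    haveI : IsIso (CommRingCat.ofHom (MvPolynomial.renameEquiv R Equiv.ulift.{u}).toRingEquiv.toRingHom :
        CommRingCat.of (MvPolynomial (ULift.{u} (Fin n)) R) ⟶ CommRingCat.of (MvPolynomial (Fin n) R)) :=
      (MvPolynomial.renameEquiv R Equiv.ulift.{u}).toRingEquiv.toCommRingCatIso.isIso_hom
    obtain ⟨w, hw⟩ : ∃ w, κ w = a := κ.homeomorph.surjective a
    refine ⟨w, ?_⟩
    rw [← ha, ← hw]
    show _ = (κ ≫ AffineSpace.map (ULift.{u} (Fin n)) i) w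
    refine congrArg (fun m : Spec (CommRingCat.of (MvPolynomial (Fin n) R)) ⟶ 𝔸(ULift.{u} (Fin n); Y) => m w) ?_
    simp only [theta, κ, Category.assoc]
  exact ⟨R, inferInstance, ⟨R, MvPolynomial (Fin n) R, i, theta i n, theta_over i n, w, hw⟩, RingEquiv.refl _,
    RingEquiv.refl _, fun _ => rfl⟩

/-- Points of affine space have relative degree at most the dimension. -/
theorem trd_affineSpace_le (n : ℕ) (z : 𝔸(ULift.{u} (Fin n); Y)) :
    trd (𝔸(ULift.{u} (Fin n); Y) ↘ Y) z ≤ n := by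
  obtain ⟨A, _, c, e, e', he⟩ := exists_chart_affineSpace n z
  let φ : MvPolynomial (Fin n) c.A →ₐ[c.A] c.B := MvPolynomial.aeval fun i => e.symm (MvPolynomial.X i)
  have hφ : Function.Surjective φ := by
    intro b
    obtain ⟨F, hF⟩ := MvPolynomial.map_surjective (σ := Fin n) e'.toRingHom e'.surjective (e b)
    refine ⟨F, e.injective ?_⟩
    rw [← hF]
    have h : (e.toRingHom.comp φ.toRingHom) = MvPolynomial.map e'.toRingHom := by
      refine MvPolynomial.ringHom_ext (fun a => ?_) fun i => ?_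
      · simp [φ, he]
      · simp [φ]
    exact congrArg (fun m : MvPolynomial (Fin n) c.A →+* MvPolynomial (Fin n) A => m F) h
  letI := φ.toRingHom.toAlgebra
  haveI : Algebra.QuasiFinite (MvPolynomial (Fin n) c.A) c.B := by
    haveI : Module.Finite (MvPolynomial (Fin n) c.A) c.B :=
      Module.Finite.of_surjective (Algebra.linearMap _ _) hφ
    infer_instance
  have h := trdeg_le_of_quasiFiniteAt n φ c.q.asIdeal inferInstance
  have ht := resTrdegAt_eq_trd (𝔸(ULift.{u} (Fin n); Y) ↘ Y) z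
  rw [c.resTrdegAt_self] at ht
  exact_mod_cast ht.symm.le.trans h

/-- Over every generization of the image there is a generization of full degree. -/
theorem exists_fibre_generic (n : ℕ) (z : 𝔸(ULift.{u} (Fin n); Y)) {y' : Y}
    (hy : y' ⤳ (𝔸(ULift.{u} (Fin n); Y) ↘ Y) z) :
    ∃ g : 𝔸(ULift.{u} (Fin n); Y), g ⤳ z ∧ (𝔸(ULift.{u} (Fin n); Y) ↘ Y) g = y' ∧
      trd (𝔸(ULift.{u} (Fin n); Y) ↘ Y) g = n := by
  obtain ⟨A, _, c, e, e', he⟩ := exists_chart_affineSpace n z
  rw [← c.hp] at hy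
  obtain ⟨p', rfl⟩ : y' ∈ Set.range c.i := hy.mem_open c.i.isOpenEmbedding.isOpen_range ⟨c.p, rfl⟩
  have hp' : @LE.le (PrimeSpectrum c.A) _ p' c.p := c.le_of_specializes_base hy
  let κ : c.B →+* MvPolynomial (Fin n) (c.A ⧸ p'.asIdeal) :=
    (MvPolynomial.map ((Ideal.Quotient.mk p'.asIdeal).comp e'.symm.toRingHom)).comp e.toRingHom
  have hmem : ∀ b, b ∈ RingHom.ker κ ↔ ∀ m, e'.symm (MvPolynomial.coeff m (e b)) ∈ p'.asIdeal := by
    intro b
    rw [RingHom.mem_ker, MvPolynomial.ext_iff]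
    refine forall_congr' fun m => ?_
    simp [κ, MvPolynomial.coeff_map, Ideal.Quotient.eq_zero_iff_mem]
  haveI : (RingHom.ker κ).IsPrime := RingHom.ker_isPrime κ
  let R : PrimeSpectrum c.B := ⟨RingHom.ker κ, inferInstance⟩
  have hle : R ≤ c.q := by
    intro b hb
    have h1 : e b ∈ (p'.asIdeal.map e'.toRingHom).map (MvPolynomial.C : A →+* MvPolynomial (Fin n) A) := by
      rw [MvPolynomial.mem_map_C_iff]
      intro m
      have h := Ideal.mem_map_of_mem e'.toRingHom ((hmem b).1 hb m)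
      simpa using h
    have h2 : ((p'.asIdeal.map e'.toRingHom).map (MvPolynomial.C : A →+* MvPolynomial (Fin n) A)) ≤
        c.q.asIdeal.comap e.symm.toRingHom := by
      rw [Ideal.map_le_iff_le_comap, Ideal.map_le_iff_le_comap]
      intro a ha
      show e.symm (MvPolynomial.C (e' a)) ∈ c.q.asIdeal
      rw [← he, e.symm_apply_apply]
      exact hp' ha
    have h3 := h2 h1
    rwa [Ideal.mem_comap, RingEquiv.toRingHom_eq_coe, RingHom.coe_coe, e.symm_apply_apply] at h3
  have hover : PrimeSpectrum.comap (algebraMap c.A c.B) R = p' := by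
    refine le_antisymm (fun a ha => ?_) fun a ha => (hmem _).2 fun m => ?_
    · have h := (hmem _).1 ha 0
      simpa [he] using h
    · classical
      rw [he, MvPolynomial.coeff_C]
      split_ifs
      · rw [e'.symm_apply_apply]; exact ha
      · rw [map_zero]; exact zero_mem _
  refine ⟨c.j R, c.specializes hle, ?_, le_antisymm (trd_affineSpace_le n _) ?_⟩
  · rw [c.apply_j, hover]
  · refine le_trd_of_indepMod c R (fun i => e.symm (MvPolynomial.X i)) fun F hF m => ?_
    rw [hover]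
    have h := (hmem _).1 hF m
    have h2 : e (MvPolynomial.aeval (fun i => e.symm (MvPolynomial.X i)) F) = MvPolynomial.map e'.toRingHom F := by
      have h : (e.toRingHom.comp (MvPolynomial.aeval (R := c.A) fun i => e.symm (MvPolynomial.X i)).toRingHom) =
          MvPolynomial.map e'.toRingHom := by
        refine MvPolynomial.ringHom_ext (fun a => ?_) fun i => ?_
        · simp [he]
        · simp
      exact congrArg (fun l : MvPolynomial (Fin n) c.A →+* MvPolynomial (Fin n) A => l F) h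
    rw [h2, MvPolynomial.coeff_map] at h
    simpa using h

/-- A locally quasi-finite morphism is residually algebraic. -/
theorem resTrdegAt_locallyQuasiFinite (g : X ⟶ Y) [LocallyQuasiFinite g] [LocallyOfFiniteType g] (x : X) :
    resTrdegAt g x = 0 := by
  obtain ⟨c⟩ := exists_chart g x
  haveI : LocallyQuasiFinite (Spec.map (CommRingCat.ofHom (algebraMap c.A c.B))) := by
    haveI : LocallyQuasiFinite (Spec.map (CommRingCat.ofHom (algebraMap c.A c.B)) ≫ c.i) := by
      rw [← c.w]; infer_instance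
    exact LocallyQuasiFinite.of_comp (Spec.map (CommRingCat.ofHom (algebraMap c.A c.B))) c.i
  haveI : Algebra.QuasiFinite c.A c.B := RingHom.quasiFinite_algebraMap.1 (HasRingHomProperty.Spec_iff.1 ‹_›)
  rw [c.resTrdegAt_self]
  exact isAlgebraic_of_quasiFiniteAt (A := c.A) c.q.asIdeal

/-- A point of dimension at most `e` has a neighbourhood quasi-finite over affine space. -/
theorem exists_quasiFinite_chart (f : X ⟶ Y) [LocallyOfFiniteType f] (x : X) (n : ℕ)
    (hn : FlatMor.fibreDimAt f x = n) :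
    ∃ (U : X.Opens) (g : (U : Scheme.{u}) ⟶ 𝔸(ULift.{u} (Fin n); Y)), x ∈ U ∧
      g ≫ (𝔸(ULift.{u} (Fin n); Y) ↘ Y) = U.ι ≫ f ∧ LocallyQuasiFinite g := by
  obtain ⟨c⟩ := exists_chart f x
  obtain ⟨g, hg, φ, hqf⟩ := exists_quasiFinite_nhd c.q.asIdeal c.p.asIdeal c.Q c.comap_Q n
    (c.fibreDimAt_eq.symm.trans hn)
  letI := φ.toRingHom.toAlgebra
  haveI : IsScalarTower c.A (MvPolynomial (Fin n) c.A) c.B := .of_algebraMap_eq fun a => (φ.commutes a).symm
  haveI : Algebra.FiniteType (MvPolynomial (Fin n) c.A) c.B :=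
    Algebra.FiniteType.of_restrictScalars_finiteType c.A _ _
  haveI := quasiFinite_away (T := MvPolynomial (Fin n) c.A) g fun P _ hgP => hqf P hgP
  let a : Spec (CommRingCat.of (Localization.Away g)) ⟶ Spec (CommRingCat.of c.B) :=
    Spec.map (CommRingCat.ofHom (algebraMap c.B (Localization.Away g)))
  haveI : IsOpenImmersion a := IsOpenImmersion.of_isLocalization g
  let b := Spec.map (CommRingCat.ofHom (algebraMap (MvPolynomial (Fin n) c.A) (Localization.Away g)))
  haveI : LocallyQuasiFinite b := HasRingHomProperty.Spec_iff.2 (RingHom.quasiFinite_algebraMap.2 ‹_›)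
  let e := (a ≫ c.j).isoOpensRange
  refine ⟨(a ≫ c.j).opensRange, e.inv ≫ b ≫ theta c.i n, ?_, ?_, inferInstance⟩
  · obtain ⟨P, hP⟩ := (PrimeSpectrum.localization_away_comap_range (Localization.Away g) g).ge hg
    refine ⟨P, ?_⟩
    rw [Scheme.Hom.comp_apply]
    exact (congrArg c.j hP).trans c.hq
  · rw [Category.assoc, Category.assoc, theta_over, Iso.inv_comp_eq, ← Category.assoc e.hom,
      Scheme.Hom.isoOpensRange_hom_ι, Category.assoc, c.w, ← Spec.map_comp_assoc, ← Spec.map_comp_assoc,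
      ← CommRingCat.ofHom_comp, ← CommRingCat.ofHom_comp]
    congr 3
    refine RingHom.ext fun r => ?_
    show algebraMap (MvPolynomial (Fin n) c.A) _ (MvPolynomial.C r) = algebraMap c.B _ (algebraMap c.A c.B r)
    rw [IsScalarTower.algebraMap_apply (MvPolynomial (Fin n) c.A) c.B]
    exact congrArg _ (φ.commutes r)

/-- Equidimensional morphisms are locally quasi-finite over affine space, dominantly on components. -/
theorem exists_qf_of_isEquidimAt (f : X ⟶ Y) [LocallyOfFiniteType f] (x : X) (h : EGA43.IsEquidimAt f x) :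
    ∃ (e : ℕ) (U : X.Opens) (g : (U : Scheme.{u}) ⟶ 𝔸(ULift.{u} (Fin e); Y)),
      x ∈ U ∧ g ≫ (𝔸(ULift.{u} (Fin e); Y) ↘ Y) = U.ι ≫ f ∧ LocallyQuasiFinite g ∧
      ∀ Z ∈ irreducibleComponents (↥U : Type u),
        closure (g.base '' Z) ∈ irreducibleComponents (↥𝔸(ULift.{u} (Fin e); Y) : Type u) := by
  obtain ⟨e, U₀, hxU₀, hcomp, hfib⟩ := h
  have htrdι : ∀ (U : X.Opens) (w : U), trd (U.ι ≫ f) w = trd f (U.ι w) := fun U w => by
    have h := resTrdegAt_ι' f w
    rw [resTrdegAt_eq_trd, resTrdegAt_eq_trd] at h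
    exact_mod_cast h
  have hw : ∀ w ∈ U₀, MaxInFibre f w → trd f w = e := fun w hwU hwmax => by
    let v : U₀ := ⟨w, hwU⟩
    let F := (U₀.ι ≫ f).fiber ((U₀.ι ≫ f) v)
    let z : F := (U₀.ι ≫ f).asFiber v
    haveI : LocallyOfFiniteType ((U₀.ι ≫ f).fiberToSpecResidueField ((U₀.ι ≫ f) v)) :=
      MorphismProperty.pullback_snd _ _ inferInstance
    obtain ⟨t, ht, hdim⟩ := FlatDim.topologicalKrullDim_closure (Y.residueField ((U₀.ι ≫ f) v))
      ((U₀.ι ≫ f).fiberToSpecResidueField ((U₀.ι ≫ f) v)) z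
    have hz : (U₀.ι ≫ f).fiberι _ z = v := (U₀.ι ≫ f).fiberι_asFiber v
    have hzmax : ∀ z' : F, z' ⤳ z → z' = z := fun z' h' => by
      have h1 := h'.map ((U₀.ι ≫ f).fiberι _).continuous
      rw [hz] at h1
      have h2 := hwmax _ ((U₀.ι ≫ f).fiberHomeo _ z').2 (h1.map U₀.ι.continuous)
      exact ((U₀.ι ≫ f).fiberι _).isEmbedding.injective (hz.symm ▸ U₀.ι.isOpenEmbedding.injective h2)
    have h := hdim.symm.trans (hfib v _ (closure_mem_irreducibleComponents (F := F) hzmax))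
    rw [FlatDim.resTrdegAt_fibre, hz, resTrdegAt_eq_trd, htrdι] at ht
    rw [Nat.cast_inj] at ht
    have h' : t = e := by exact_mod_cast h
    exact ht.trans h'
  have hdim : FlatMor.fibreDimAt f x = e := by
    refine le_antisymm (fibreDimAt_le f fun z hz hzx => ?_) ?_
    · obtain ⟨ζ, hfζ, hζz, hmax⟩ := exists_max_in_fibre f z
      rw [← hw ζ ((hζz.trans hzx).mem_open U₀.isOpen hxU₀) hmax]
      exact_mod_cast trd_le f hζz hfζ
    · obtain ⟨ζ, hfζ, hζx, hmax⟩ := exists_max_in_fibre f x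
      rw [← hw ζ (hζx.mem_open U₀.isOpen hxU₀) hmax]
      exact trd_le_fibreDimAt f hfζ hζx
  obtain ⟨U₁, g₁, hxU₁, hg₁, hqf₁⟩ := exists_quasiFinite_chart f x e hdim
  let V := U₀ ⊓ U₁
  let g : (V : Scheme.{u}) ⟶ 𝔸(ULift.{u} (Fin e); Y) := X.homOfLE (inf_le_right (a := U₀)) ≫ g₁
  have hg : g ≫ (𝔸(ULift.{u} (Fin e); Y) ↘ Y) = V.ι ≫ f := by
    rw [Category.assoc, hg₁, Scheme.homOfLE_ι_assoc]
  haveI : LocallyQuasiFinite g := inferInstance
  haveI : LocallyOfFiniteType g := by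
    haveI : LocallyOfFiniteType (g ≫ (𝔸(ULift.{u} (Fin e); Y) ↘ Y)) := by rw [hg]; infer_instance
    exact locallyOfFiniteType_of_comp g (𝔸(ULift.{u} (Fin e); Y) ↘ Y)
  refine ⟨e, V, g, ⟨hxU₀, hxU₁⟩, hg, inferInstance, fun Z hZ => ?_⟩
  obtain ⟨ξ, hξ, hξmax⟩ := exists_generic_of_mem_irreducibleComponents (show Z ∈ irreducibleComponents ↥V.toScheme from hZ)
  have hmax : IsMaxPt (V.ι ξ) := fun x' hx' => by
    obtain ⟨w, rfl⟩ : x' ∈ Set.range V.ι := hx'.mem_open V.ι.isOpenEmbedding.isOpen_range ⟨ξ, rfl⟩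
    rw [hξmax w (V.ι.isOpenEmbedding.isInducing.specializes_iff.1 hx')]
  let v : U₀ := ⟨V.ι ξ, ξ.2.1⟩
  have hv : ∀ v' : U₀, v' ⤳ v → v' = v := fun v' hv' =>
    U₀.ι.isOpenEmbedding.injective (hmax _ (hv'.map U₀.ι.continuous))
  obtain ⟨W, hW, -, hcl⟩ := hcomp (closure ({v} : Set U₀.toScheme))
    (closure_mem_irreducibleComponents (F := U₀.toScheme) hv)
  rw [closure_image_closure (U₀.ι ≫ f).continuous, Set.image_singleton] at hcl
  replace hcl : closure ({f (V.ι ξ)} : Set Y) = W := hcl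
  have hη : IsMaxPt (f (V.ι ξ)) := isMaxPt_of_closure_mem (hcl.symm ▸ hW)
  have hπ : (𝔸(ULift.{u} (Fin e); Y) ↘ Y) (g ξ) = f (V.ι ξ) := by
    rw [← Scheme.Hom.comp_apply, hg, Scheme.Hom.comp_apply]
  have htg : trd (𝔸(ULift.{u} (Fin e); Y) ↘ Y) (g ξ) = e := by
    have h := FlatDim.resTrdegAt_congr hg ξ
    rw [FlatDim.resTrdegAt_comp, resTrdegAt_locallyQuasiFinite g, add_zero, resTrdegAt_eq_trd,
      resTrdegAt_eq_trd, htrdι] at h
    have h' := hw (V.ι ξ) ξ.2.1 fun x' _ hs => hmax x' hs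
    rw [h'] at h
    exact_mod_cast h
  have hgmax : ∀ z : 𝔸(ULift.{u} (Fin e); Y), z ⤳ g ξ → z = g ξ := fun z hz => by
    have hfz : (𝔸(ULift.{u} (Fin e); Y) ↘ Y) z = (𝔸(ULift.{u} (Fin e); Y) ↘ Y) (g ξ) := by
      rw [hπ]
      exact hη _ (hπ ▸ hz.map (𝔸(ULift.{u} (Fin e); Y) ↘ Y).continuous)
    by_contra hne
    have := trd_lt (𝔸(ULift.{u} (Fin e); Y) ↘ Y) hz hne hfz
    have := trd_affineSpace_le e z
    omega
  rw [show Z = closure ({ξ} : Set V.toScheme) from hξ.symm, closure_image_closure g.continuous,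
    Set.image_singleton]
  exact closure_mem_irreducibleComponents (F := 𝔸(ULift.{u} (Fin e); Y)) hgmax

/-- Conversely, over a locally Noetherian base. -/
theorem isEquidimAt_of_qf [IsLocallyNoetherian Y] (f : X ⟶ Y) [LocallyOfFiniteType f] (x : X) (e : ℕ) (U : X.Opens)
    (g : (U : Scheme.{u}) ⟶ 𝔸(ULift.{u} (Fin e); Y)) (hx : x ∈ U)
    (hg : g ≫ (𝔸(ULift.{u} (Fin e); Y) ↘ Y) = U.ι ≫ f) [LocallyQuasiFinite g]
    (hdom : ∀ Z ∈ irreducibleComponents (↥U : Type u),
      closure (g.base '' Z) ∈ irreducibleComponents (↥𝔸(ULift.{u} (Fin e); Y) : Type u)) :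
    EGA43.IsEquidimAt f x := by
  haveI : LocallyOfFiniteType g := by
    haveI : LocallyOfFiniteType (g ≫ (𝔸(ULift.{u} (Fin e); Y) ↘ Y)) := by rw [hg]; infer_instance
    exact locallyOfFiniteType_of_comp g (𝔸(ULift.{u} (Fin e); Y) ↘ Y)
  have hπ : ∀ w : U, (𝔸(ULift.{u} (Fin e); Y) ↘ Y) (g w) = f (U.ι w) := fun w => by
    rw [← Scheme.Hom.comp_apply, hg, Scheme.Hom.comp_apply]
  have htrd : ∀ w : U, trd f (U.ι w) = trd (𝔸(ULift.{u} (Fin e); Y) ↘ Y) (g w) := fun w => by
    have h := FlatDim.resTrdegAt_congr hg w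
    rw [FlatDim.resTrdegAt_comp, resTrdegAt_locallyQuasiFinite g, add_zero, resTrdegAt_eq_trd,
      resTrdegAt_ι', resTrdegAt_eq_trd] at h
    exact_mod_cast h.symm
  refine isEquidimAt_of_generic f x e (fun ξ hξ hξx => ?_) ?_
  · obtain ⟨v, rfl⟩ : ξ ∈ Set.range U.ι := by
      rw [Scheme.Opens.range_ι]; exact hξx.mem_open U.2 hx
    have hv : ∀ v' : U, v' ⤳ v → v' = v := fun v' hv' =>
      U.ι.isOpenEmbedding.injective (hξ _ (hv'.map U.ι.continuous))
    have hc := hdom _ (closure_mem_irreducibleComponents (F := U.toScheme) hv)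
    rw [closure_image_closure g.continuous, Set.image_singleton] at hc
    have hgmax : IsMaxPt (g v) := isMaxPt_of_closure_mem hc
    refine ⟨fun y' hy' => ?_, ?_⟩
    · rw [← hπ v] at hy' ⊢
      obtain ⟨a, ha, rfl, -⟩ := exists_fibre_generic e (g v) hy'
      rw [hgmax a ha]
    · obtain ⟨a, ha, -, hat⟩ := exists_fibre_generic e (g v) (specializes_refl _)
      rw [htrd, ← hgmax a ha, hat]
  · refine fibreDimAt_le f fun z _ hzx => ?_
    obtain ⟨v, rfl⟩ : z ∈ Set.range U.ι := by rw [Scheme.Opens.range_ι]; exact hzx.mem_open U.2 hx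
    rw [htrd]
    exact_mod_cast trd_affineSpace_le e _

end Groth.Agent.GenIrredLib
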