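import Mathlib
import Groth.Agent.OpenDim.Components
import Groth.Agent.UnivOpenAtLib.Immediate
import Groth.Agent.UnivOpenAtLib.Dvr
import Groth.Agent.NagataCompleteLib.Complete
import Groth.Agent.NormalTensor.Henselian
import Groth.Agent.DomDVR.FiniteExt
import Groth.Agent.DVRCrit.Scheme
import Groth.Agent.ResExt.Main
import Groth.Agent.Hensel.Basic

/-!
# Points with values in finite extensions of complete discrete valuation rings
-/

set_option autoImplicit false
set_option backward.isDefEq.respectTransparency false
set_option linter.style.haveILetI false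

universe u

open CategoryTheory CategoryTheory.Limits AlgebraicGeometry IsLocalRing TopologicalSpace Topology

namespace Groth.Agent.GenIrredLib

/-- A flat extension of a discrete valuation ring with prescribed algebraically closed residue field. -/
theorem exists_dvr_of_residue_ext (A : Type u) [CommRing A] [IsDomain A] [IsDiscreteValuationRing A]
    (K : Type u) [Field K] [Algebra (ResidueField A) K] [IsAlgClosed K] :
    ∃ (B : Type u) (_ : CommRing B) (_ : IsDomain B) (_ : IsDiscreteValuationRing B)
      (_ : IsAdicComplete (maximalIdeal B) B) (_ : IsAlgClosed (ResidueField B)) (φ : A →+* B)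
      (_ : IsLocalHom φ) (e : ResidueField B ≃+* K),
      Function.Injective φ ∧ ∀ a, e (residue B (φ a)) = algebraMap (ResidueField A) K (residue A a) := by
  obtain ⟨B, _, _, hN, hL, hloc, hflat, hcomp, e, he⟩ := ResExt.main_complete (A := A) K
  obtain ⟨ϖ, hϖ⟩ := IsDiscreteValuationRing.exists_irreducible A
  have hinj : Function.Injective (algebraMap A B) := by
    haveI := Module.FaithfullyFlat.of_flat_of_isLocalHom (A := A) (B := B)
    exact FaithfulSMul.algebraMap_injective A B
  haveI : Nontrivial (B ⧸ (maximalIdeal A).map (algebraMap A B)) := e.toEquiv.nontrivial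
  have hmax : (maximalIdeal A).map (algebraMap A B) = maximalIdeal B := by
    refine IsLocalRing.eq_maximalIdeal (Ideal.Quotient.maximal_of_isField _ ?_)
    exact MulEquiv.isField (Field.toIsField K) e.toMulEquiv
  let π := algebraMap A B ϖ
  have hspan : maximalIdeal B = Ideal.span {π} := by
    rw [← hmax, hϖ.maximalIdeal_eq, Ideal.map_span, Set.image_singleton]
  have hreg : ∀ b : B, π * b = 0 → b = 0 := fun b hb =>
    (Module.Flat.isSMulRegular_of_nonZeroDivisors (M := B) (mem_nonZeroDivisors_of_ne_zero hϖ.ne_zero))
      (show ϖ • b = ϖ • (0 : B) by rw [smul_zero, Algebra.smul_def]; exact hb)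
  have hdec : ∀ b : B, b ≠ 0 → ∃ (n : ℕ) (u : Bˣ), b = u * π ^ n := by
    intro b hb
    classical
    have hex : ∃ n : ℕ, b ∉ maximalIdeal B ^ n := by
      by_contra hh
      push Not at hh
      refine hb ?_
      have h1 := Ideal.iInf_pow_eq_bot_of_isLocalRing (maximalIdeal B) (IsLocalRing.maximalIdeal.isMaximal B).ne_top
      rw [← Ideal.mem_bot, ← h1]
      exact (Submodule.mem_iInf _).2 hh
    have hn := Nat.find_spec hex
    obtain ⟨m, hm⟩ : ∃ m, Nat.find hex = m + 1 := Nat.exists_eq_add_one_of_ne_zero fun h0 => by
      rw [h0, pow_zero, Ideal.one_eq_top] at hn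
      exact hn trivial
    have hmem : b ∈ maximalIdeal B ^ m := not_not.1 (Nat.find_min hex (by omega))
    rw [hspan, Ideal.span_singleton_pow] at hmem
    obtain ⟨c, rfl⟩ := Ideal.mem_span_singleton'.1 hmem
    have hc : IsUnit c := by
      by_contra hc
      refine hn ?_
      rw [hm, hspan, Ideal.span_singleton_pow, Ideal.mem_span_singleton']
      have hc' : c ∈ maximalIdeal B := hc
      rw [hspan, Ideal.mem_span_singleton'] at hc'
      obtain ⟨d, rfl⟩ := hc'
      exact ⟨d, by ring⟩
    exact ⟨m, hc.unit, rfl⟩
  haveI : Nontrivial B := inferInstance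
  haveI : IsDomain B := by
    refine @NoZeroDivisors.to_isDomain _ _ inferInstance ⟨fun {a b} hab => ?_⟩
    refine or_iff_not_imp_left.2 fun ha => ?_
    obtain ⟨n, v, rfl⟩ := hdec a ha
    rw [mul_assoc, v.mul_right_eq_zero] at hab
    clear ha
    induction n generalizing b with
    | zero => simpa using hab
    | succ n ih =>
      rw [pow_succ, mul_assoc] at hab
      exact hreg b (ih hab)
  have hπ0 : π ≠ 0 := fun h => hϖ.ne_zero (hinj (by rw [map_zero]; exact h))
  have hnf : ¬ IsField B := fun h => hπ0 (by
    have h1 := (IsLocalRing.isField_iff_maximalIdeal_eq).1 h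
    rw [hspan, Ideal.span_singleton_eq_bot] at h1
    exact h1)
  haveI : IsDiscreteValuationRing B :=
    ((IsDiscreteValuationRing.TFAE B hnf).out 0 4).2 (show (maximalIdeal B).IsPrincipal from ⟨⟨π, hspan⟩⟩)
  haveI : IsAdicComplete (maximalIdeal B) B := hmax ▸ hcomp
  let e' : ResidueField B ≃+* K := (Ideal.quotEquivOfEq hmax.symm).trans e
  haveI : IsAlgClosed (ResidueField B) := IsAlgClosed.of_ringEquiv _ _ e'.symm
  exact ⟨B, inferInstance, inferInstance, inferInstance, inferInstance, inferInstance, algebraMap A B, hloc, e',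
    hinj, fun a => he a⟩

/-- The residue field of a point of an affine scheme lying over the generic point is the fraction field. -/
theorem isFractionRing_residueField {A : CommRingCat.{u}} [IsDomain A] (p : Spec A) (hp : p.asIdeal = ⊥) :
    letI := ((Scheme.Spec.residueFieldIso A p).inv.hom.comp (algebraMap A p.asIdeal.ResidueField)).toAlgebra
    IsFractionRing A ((Spec A).residueField p) := by
  letI := ((Scheme.Spec.residueFieldIso A p).inv.hom.comp (algebraMap A p.asIdeal.ResidueField)).toAlgebra
  haveI : FaithfulSMul A ((Spec A).residueField p) := by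
    refine (faithfulSMul_iff_algebraMap_injective _ _).2 ((injective_iff_map_eq_zero _).2 fun a ha => ?_)
    have h1 : algebraMap A p.asIdeal.ResidueField a = 0 :=
      (Scheme.Spec.residueFieldIso A p).symm.commRingCatIsoToRingEquiv.injective (ha.trans (map_zero _).symm)
    rw [Ideal.algebraMap_residueField_eq_zero, hp] at h1
    exact h1
  refine IsFractionRing.of_field A _ fun z => ?_
  obtain ⟨w, rfl⟩ := (Scheme.Spec.residueFieldIso A p).symm.commRingCatIsoToRingEquiv.surjective z
  obtain ⟨a, b, -, rfl⟩ := IsFractionRing.div_surjective (A ⧸ p.asIdeal) w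
  obtain ⟨a, rfl⟩ := Ideal.Quotient.mk_surjective a
  obtain ⟨b, rfl⟩ := Ideal.Quotient.mk_surjective b
  exact ⟨a, b, by rw [map_div₀]; rfl⟩

/-- Two points with values in a field agree if they lie over a residually surjective point and have the same
image on the affine base. -/
theorem hom_ext_of_residue_surjective {A : CommRingCat.{u}} {T : Scheme.{u}} (π : T ⟶ Spec A) {x : T}
    (β : A ⟶ T.residueField x) (hβ : Spec.map β = T.fromSpecResidueField x ≫ π) (hsurj : Function.Surjective β)
    {K : Type u} [Field K] (a b : Spec (CommRingCat.of K) ⟶ T) (ha : a (closedPoint K) = x)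
    (hb : b (closedPoint K) = x) (h : a ≫ π = b ≫ π) : a = b := by
  obtain ⟨da, rfl⟩ : ∃ da : T.residueField x ⟶ CommRingCat.of K, Spec.map da ≫ T.fromSpecResidueField x = a := by
    refine ⟨(T.residueFieldCongr ha.symm).hom ≫ T.descResidueField (Scheme.stalkClosedPointTo a), ?_⟩
    rw [Spec.map_comp, Category.assoc, Scheme.residueFieldCongr_fromSpecResidueField,
      Scheme.descResidueField_stalkClosedPointTo_fromSpecResidueField]
  obtain ⟨db, rfl⟩ : ∃ db : T.residueField x ⟶ CommRingCat.of K, Spec.map db ≫ T.fromSpecResidueField x = b := by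
    refine ⟨(T.residueFieldCongr hb.symm).hom ≫ T.descResidueField (Scheme.stalkClosedPointTo b), ?_⟩
    rw [Spec.map_comp, Category.assoc, Scheme.residueFieldCongr_fromSpecResidueField,
      Scheme.descResidueField_stalkClosedPointTo_fromSpecResidueField]
  rw [Category.assoc, Category.assoc, ← hβ, ← Spec.map_comp, ← Spec.map_comp, Spec.map_inj] at h
  congr 2
  ext z
  obtain ⟨c, rfl⟩ := hsurj z
  exact congrArg (fun m : A ⟶ CommRingCat.of K => m.hom c) h

variable {A : Type u} [CommRing A] [IsDomain A] [IsDiscreteValuationRing A] [IsAdicComplete (maximalIdeal A) A]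

/-- A rational point of the special fibre with a generization in the generic fibre lifts to a point with values
in a finite extension. -/
theorem exists_finite_lift {T : Scheme.{u}} (π : T ⟶ Spec (CommRingCat.of A)) [LocallyOfFiniteType π]
    (u : Spec (CommRingCat.of (ResidueField A)) ⟶ T) (hu : u ≫ π = Spec.map (CommRingCat.ofHom (residue A)))
    {z : T} (hz : z ⤳ u (closedPoint (ResidueField A))) (hzπ : π z ≠ closedPoint A) :
    ∃ (B : CommRingCat.{u}) (_ : IsDomain B) (_ : IsDiscreteValuationRing B) (φ : A →+* B) (_ : IsLocalHom φ)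
      (v : Spec B ⟶ T), φ.Finite ∧ v ≫ π = Spec.map (CommRingCat.ofHom φ) ∧
      Spec.map (CommRingCat.ofHom (ResidueField.map φ)) ≫ u = Spec.map (CommRingCat.ofHom (residue B)) ≫ v := by
  haveI : IsLocallyNoetherian T := LocallyOfFiniteType.isLocallyNoetherian π
  generalize hx : u (closedPoint (ResidueField A)) = x at hz
  have hπx : π x = closedPoint A := by
    rw [← hx, ← Scheme.Hom.comp_apply, hu]
    exact IsLocalRing.comap_closedPoint (residue A)
  -- rationality
  obtain ⟨β, hβ⟩ : ∃ β : CommRingCat.of A ⟶ T.residueField x, Spec.map β = T.fromSpecResidueField x ≫ π :=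
    ⟨Spec.preimage _, Spec.map_preimage _⟩
  have hβs : Function.Surjective β := by
    obtain ⟨du, hdu⟩ : ∃ du : T.residueField x ⟶ CommRingCat.of (ResidueField A),
        Spec.map du ≫ T.fromSpecResidueField x = u := by
      refine ⟨(T.residueFieldCongr hx.symm).hom ≫ T.descResidueField (Scheme.stalkClosedPointTo u), ?_⟩
      rw [Spec.map_comp, Category.assoc, Scheme.residueFieldCongr_fromSpecResidueField,
        Scheme.descResidueField_stalkClosedPointTo_fromSpecResidueField]
    have h1 : β ≫ du = CommRingCat.ofHom (residue A) :=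
      Spec.map_injective (by rw [Spec.map_comp, hβ, ← Category.assoc, hdu, hu])
    intro z
    obtain ⟨a, ha⟩ := IsLocalRing.residue_surjective (du z)
    exact ⟨a, du.hom.injective ((congrArg (fun m : CommRingCat.of A ⟶ _ => m.hom a) h1).trans ha)⟩
  -- an immediate generization
  have hO : IsOpen (π.base ⁻¹' {closedPoint A}ᶜ) :=
    (IsLocalRing.isClosed_singleton_closedPoint A).isOpen_compl.preimage π.continuous
  obtain ⟨q, hqO, -, hqx, hq⟩ := UnivOpenAtLib.exists_immediate hz _ hO hzπ (fun h => h hπx)
  have hπq : π q ≠ closedPoint A := hqO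
  have hp : (π q).asIdeal = ⊥ := by
    by_contra h
    refine hπq (PrimeSpectrum.ext ?_)
    exact IsLocalRing.eq_maximalIdeal (((π q).2.isMaximal h))
  have htx : OpenDim.trd π x = 0 := by
    have h := OpenDim.resTrdegAt_eq_trd π x
    have h0 : DimFormulaLib.resTrdegAt π x = 0 := by
      letI := (π.residueFieldMap x).hom.toAlgebra
      have hs : Function.Surjective (π.residueFieldMap x) := by
        have e : β = CommRingCat.ofHom (algebraMap A (π x).asIdeal.ResidueField) ≫
            (Scheme.Spec.residueFieldIso _ (π x)).inv ≫ π.residueFieldMap x := Spec.map_injective (by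
          rw [hβ, Spec.map_comp, Spec.map_comp, Category.assoc,
            Scheme.Spec.map_residueFieldIso_inv_eq_fromSpecResidueField,
            Scheme.Hom.SpecMap_residueFieldMap_fromSpecResidueField])
        intro y
        obtain ⟨a, ha⟩ := hβs y
        rw [e, CommRingCat.comp_apply, CommRingCat.comp_apply] at ha
        exact ⟨_, ha⟩
      haveI : Algebra.IsAlgebraic ((Spec (CommRingCat.of A)).residueField (π x)) (T.residueField x) :=
        ⟨fun y => by obtain ⟨w, rfl⟩ := hs y; exact isAlgebraic_algebraMap w⟩
      exact trdeg_eq_zero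
    rw [h0] at h
    exact_mod_cast h.symm
  obtain ⟨w, hqw, hwx, hw, hle⟩ := OpenDim.exists_trd_ge π hqx
  have hwx' : w = x := (hq w hqw hwx).resolve_left fun e => hπq (by rw [← e, hw, hπx])
  rw [hwx', htx, Nat.le_zero] at hle
  -- the residue field at `q`
  let L := T.residueField q
  let κ := (Spec (CommRingCat.of A)).residueField (π q)
  let j := (Scheme.Spec.residueFieldIso (CommRingCat.of A) (π q)).inv.hom.comp
    (algebraMap A (π q).asIdeal.ResidueField)
  letI : Algebra A κ := j.toAlgebra
  haveI : IsFractionRing A κ := isFractionRing_residueField (π q) hp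
  letI : Algebra κ L := (π.residueFieldMap q).hom.toAlgebra
  letI : Algebra A L := ((π.residueFieldMap q).hom.comp j).toAlgebra
  haveI : IsScalarTower A κ L := IsScalarTower.of_algebraMap_eq fun _ => rfl
  haveI : FiniteDimensional κ L := by
    have h0 : DimFormulaLib.resTrdegAt π q = 0 := by rw [OpenDim.resTrdegAt_eq_trd, hle]; simp
    haveI : Algebra.IsAlgebraic κ L := trdeg_eq_zero_iff.1 h0
    haveI : Algebra.EssFiniteType κ L := IntermediateField.fg_top_iff.1 (DVRCrit.fg_residueField π q)
    exact Algebra.finite_of_essFiniteType_of_isAlgebraic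
  have hinj : Function.Injective (algebraMap A L) := by
    rw [IsScalarTower.algebraMap_eq A κ L, RingHom.coe_comp]
    exact (algebraMap κ L).injective.comp (IsFractionRing.injective A κ)
  haveI : Module.Finite A (integralClosure A L) := by
    let e : FractionRing A ≃ₐ[A] κ := IsLocalization.algEquiv (nonZeroDivisors A) _ _
    letI : Algebra (FractionRing A) κ := e.toAlgHom.toRingHom.toAlgebra
    letI : Algebra (FractionRing A) L := ((algebraMap κ L).comp (algebraMap (FractionRing A) κ)).toAlgebra
    haveI : IsScalarTower (FractionRing A) κ L := IsScalarTower.of_algebraMap_eq fun _ => rfl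
    haveI : IsScalarTower A (FractionRing A) L := IsScalarTower.of_algebraMap_eq fun a => by
      show _ = algebraMap κ L (e (algebraMap A (FractionRing A) a))
      rw [e.commutes]
      rfl
    haveI : Module.Finite (FractionRing A) κ := Module.Finite.of_surjective (Algebra.linearMap _ κ) e.surjective
    exact NagataCompleteLib.isN2_complete A L (Module.Finite.trans κ L)
  haveI : HenselianLocalRing A := Hensel.henselianRing_maximalIdeal_iff.1 inferInstance
  haveI : IsLocalRing (integralClosure A L) := NormalTensor.isLocalRing_of_finite_domain A _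
  haveI : IsDedekindDomain (integralClosure A L) := DomDVR.isDedekindDomain_integralClosure_finite A κ L
  have hloc : IsLocalHom (algebraMap A (integralClosure A L)) :=
    RingHom.IsIntegral.isLocalHom (algebraMap_isIntegral_iff.2 inferInstance) fun a b h =>
      hinj (congrArg Subtype.val h)
  obtain ⟨ϖ, hϖ⟩ := IsDiscreteValuationRing.exists_irreducible A
  have hϖB : algebraMap A (integralClosure A L) ϖ ∈ maximalIdeal (integralClosure A L) :=
    (map_mem_nonunits_iff _ _).2 hϖ.not_isUnit
  have hϖ0 : algebraMap A (integralClosure A L) ϖ ≠ 0 := fun h =>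
    hϖ.ne_zero (hinj ((congrArg Subtype.val h).trans (map_zero _).symm))
  have hBnf : ¬ IsField (integralClosure A L) := fun h => hϖ0 (by
    rw [IsLocalRing.isField_iff_maximalIdeal_eq.1 h, Submodule.mem_bot] at hϖB
    exact hϖB)
  haveI : IsDiscreteValuationRing (integralClosure A L) :=
    ((IsDiscreteValuationRing.TFAE (integralClosure A L) hBnf).out 0 2).2 ‹_›
  -- the local ring at `x` maps into the normalization
  let ψ : T.presheaf.stalk x →+* L := (T.presheaf.stalkSpecializes hqx ≫ T.residue q).hom
  obtain ⟨α, hα⟩ : ∃ α : CommRingCat.of A ⟶ T.presheaf.stalk x, Spec.map α = T.fromSpecStalk x ≫ π :=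
    ⟨Spec.preimage _, Spec.map_preimage _⟩
  have hψα : ∀ a, ψ (α a) = algebraMap A L a := by
    have e : α ≫ CommRingCat.ofHom ψ = CommRingCat.ofHom (algebraMap A L) := Spec.map_injective (by
      change Spec.map (α ≫ T.presheaf.stalkSpecializes hqx ≫ T.residue q) =
        Spec.map (CommRingCat.ofHom (algebraMap A (π q).asIdeal.ResidueField) ≫
            (Scheme.Spec.residueFieldIso _ (π q)).inv ≫ π.residueFieldMap q)
      rw [Spec.map_comp, Spec.map_comp, Category.assoc, hα, Scheme.SpecMap_stalkSpecializes_fromSpecStalk_assoc,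
        Spec.map_comp, Spec.map_comp, Category.assoc,
        Scheme.Spec.map_residueFieldIso_inv_eq_fromSpecResidueField,
        Scheme.Hom.SpecMap_residueFieldMap_fromSpecResidueField]
      rfl)
    exact fun a => congrArg (fun m : CommRingCat.of A ⟶ CommRingCat.of L => m.hom a) e
  have hαloc : IsLocalHom α.hom := by
    suffices h : PrimeSpectrum.comap α.hom (closedPoint (T.presheaf.stalk x)) = closedPoint A from
      ((IsLocalRing.local_hom_TFAE α.hom).out 0 4).2 (congrArg PrimeSpectrum.asIdeal h)
    show Spec.map α (closedPoint _) = _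
    rw [hα, Scheme.Hom.comp_apply, Scheme.fromSpecStalk_closedPoint, hπx]
  obtain ⟨V, hV⟩ := (LocalSubring.range ψ).exists_le_valuationSubring
  have hψV : ∀ o, ψ o ∈ V := fun o => hV.1 ⟨o, rfl⟩
  have hψm : ∀ (o) (ho : o ∈ maximalIdeal (T.presheaf.stalk x)),
      (⟨ψ o, hψV o⟩ : V) ∈ maximalIdeal V := by
    intro o ho hunit
    have h1 : IsUnit (⟨ψ o, o, rfl⟩ : ψ.range) := by
      haveI := hV.2
      exact (isUnit_map_iff (Subring.inclusion hV.1) (⟨ψ o, o, rfl⟩ : (LocalSubring.range ψ).toSubring)).1 hunit
    haveI : IsLocalHom ψ.rangeRestrict := IsLocalHom.of_surjective _ ψ.rangeRestrict_surjective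
    exact ho ((isUnit_map_iff ψ.rangeRestrict o).1 h1)
  have hBV : ∀ b : integralClosure A L, (b : L) ∈ V := by
    intro b
    letI : Algebra A V := ((algebraMap A L).codRestrict V.toSubring fun a => hψα a ▸ hψV _).toAlgebra
    haveI : IsScalarTower A V L := IsScalarTower.of_algebraMap_eq fun _ => rfl
    have hint : IsIntegral V (b : L) := IsIntegral.tower_top (R := A) b.2
    obtain ⟨y, hy⟩ := IsIntegrallyClosed.isIntegral_iff.1 hint
    exact hy ▸ y.2
  let ι : integralClosure A L →+* V := (integralClosure A L).val.toRingHom.codRestrict V.toSubring hBV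
  have hιm : ∀ c ∈ maximalIdeal (integralClosure A L), ι c ∈ maximalIdeal V := by
    intro c hc
    have hP : (maximalIdeal V).comap ι = maximalIdeal (integralClosure A L) := by
      refine IsLocalRing.eq_maximalIdeal (Ideal.IsPrime.isMaximal inferInstance fun h => hϖ0 ?_)
      rw [← Submodule.mem_bot (R := integralClosure A L), ← h, Ideal.mem_comap]
      have e : ι (algebraMap A (integralClosure A L) ϖ) = ⟨ψ (α ϖ), hψV _⟩ := Subtype.ext (hψα ϖ).symm
      rw [e]
      exact hψm _ ((map_mem_nonunits_iff α.hom ϖ).2 hϖ.not_isUnit)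
    exact Ideal.mem_comap.1 (hP.ge hc)
  haveI : IsFractionRing (integralClosure A L) L := integralClosure.isFractionRing_of_finite_extension κ L
  have hψB : ∀ o, ψ o ∈ integralClosure A L := by
    intro o
    rcases ValuationRing.isInteger_or_isInteger (integralClosure A L) (ψ o) with ⟨c, hc⟩ | ⟨c, hc⟩
    · exact hc ▸ c.2
    by_contra hn
    have h0 : ψ o ≠ 0 := fun h => hn (h ▸ zero_mem _)
    have hcu : ¬ IsUnit c := by
      rintro ⟨d, rfl⟩
      refine hn ?_
      have e : ((↑d⁻¹ : integralClosure A L) : L) = ψ o := by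
        have h1 : ((d : integralClosure A L) : L) * ((↑d⁻¹ : integralClosure A L) : L) = 1 := by
          rw [← MulMemClass.coe_mul, Units.mul_inv, OneMemClass.coe_one]
        rw [show ((d : integralClosure A L) : L) = (ψ o)⁻¹ from hc] at h1
        exact ((inv_mul_eq_one₀ h0).1 h1).symm
      exact e ▸ (↑d⁻¹ : integralClosure A L).2
    refine hιm c hcu (isUnit_iff_exists_inv.2 ⟨⟨ψ o, hψV o⟩, Subtype.ext ?_⟩)
    show (c : L) * ψ o = 1
    rw [show (c : L) = (ψ o)⁻¹ from hc, inv_mul_cancel₀ h0]
  let ψB : T.presheaf.stalk x →+* integralClosure A L := ψ.codRestrict (integralClosure A L).toSubring hψB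
  have hψBα : α ≫ CommRingCat.ofHom ψB = CommRingCat.ofHom (algebraMap A (integralClosure A L)) := by
    ext a
    exact hψα a
  have hψBl : IsLocalHom ψB := ⟨fun o ho => by
    by_contra hn
    refine hψm o hn ?_
    exact ho.map ι⟩
  let v : Spec (CommRingCat.of (integralClosure A L)) ⟶ T := Spec.map (CommRingCat.ofHom ψB) ≫ T.fromSpecStalk x
  have hvπ : v ≫ π = Spec.map (CommRingCat.ofHom (algebraMap A (integralClosure A L))) := by
    rw [Category.assoc, ← hα, ← Spec.map_comp, hψBα]
  haveI := hloc
  refine ⟨CommRingCat.of (integralClosure A L), inferInstance, inferInstance, algebraMap A (integralClosure A L),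
    hloc, v, RingHom.finite_algebraMap.2 inferInstance, hvπ, ?_⟩
  refine hom_ext_of_residue_surjective π β hβ hβs _ _ ?_ ?_ ?_
  · rw [Scheme.Hom.comp_apply, ← hx]
    exact congrArg u (Subsingleton.elim _ _)
  · rw [Scheme.Hom.comp_apply, Scheme.Hom.comp_apply]
    have h1 : (Spec.map (CommRingCat.ofHom (residue (integralClosure A L))))
        (closedPoint _) = closedPoint (integralClosure A L) := by
      haveI : IsLocalHom (residue (integralClosure A L)) := inferInstance
      exact IsLocalRing.comap_closedPoint (residue (integralClosure A L))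
    have h2 : (Spec.map (CommRingCat.ofHom ψB)) (closedPoint (integralClosure A L)) =
        closedPoint (T.presheaf.stalk x) := IsLocalRing.comap_closedPoint ψB
    rw [h1, h2]
    exact Scheme.fromSpecStalk_closedPoint
  · rw [Category.assoc, Category.assoc, hu, hvπ, ← Spec.map_comp, ← Spec.map_comp]
    rfl

end Groth.Agent.GenIrredLib
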