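import Mathlib
import Groth.Agent.DVRCrit.Local
import Groth.Agent.GenIrredLib.DvrPoints
import Groth.Agent.CurveLib.Components

/-!
# Properness of the closure of a set at a point
-/

set_option autoImplicit false
set_option backward.isDefEq.respectTransparency false
set_option backward.defeqAttrib.useBackward true
set_option linter.style.haveILetI false

universe u

open CategoryTheory CategoryTheory.Limits AlgebraicGeometry IsLocalRing TopologicalSpace Topology

namespace Groth.Agent.GenIrredLib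

open DVRCrit

variable {X Y : Scheme.{u}}

/-- Points with values in a field agree at a residually surjective point. -/
theorem hom_ext_of_rational {T S : Scheme.{u}} (π : T ⟶ S) {x : T}
    (hsurj : Function.Surjective (π.residueFieldMap x)) {K : Type u} [Field K]
    (a b : Spec (CommRingCat.of K) ⟶ T) (ha : a (closedPoint K) = x)
    (hb : b (closedPoint K) = x) (h : a ≫ π = b ≫ π) : a = b := by
  obtain ⟨da, rfl⟩ : ∃ da : T.residueField x ⟶ CommRingCat.of K, Spec.map da ≫ T.fromSpecResidueField x = a := by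
    refine ⟨(T.residueFieldCongr ha.symm).hom ≫ T.descResidueField (Scheme.stalkClosedPointTo a), ?_⟩
    rw [Spec.map_comp, Category.assoc, Scheme.residueFieldCongr_fromSpecResidueField,
      Scheme.descResidueField_stalkClosedPointTo_fromSpecResidueField]
  obtain ⟨db, rfl⟩ : ∃ db : T.residueField x ⟶ CommRingCat.of K, Spec.map db ≫ T.fromSpecResidueField x = b := by
    refine ⟨(T.residueFieldCongr hb.symm).hom ≫ T.descResidueField (Scheme.stalkClosedPointTo b), ?_⟩
    rw [Spec.map_comp, Category.assoc, Scheme.residueFieldCongr_fromSpecResidueField,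
      Scheme.descResidueField_stalkClosedPointTo_fromSpecResidueField]
  rw [Category.assoc, Category.assoc, ← Scheme.Hom.SpecMap_residueFieldMap_fromSpecResidueField,
    ← Spec.map_comp_assoc, ← Spec.map_comp_assoc, cancel_mono, Spec.map_inj] at h
  congr 2
  ext z
  obtain ⟨c, rfl⟩ := hsurj z
  exact congrArg (fun m : S.residueField (π x) ⟶ CommRingCat.of K => m.hom c) h

/-- A point with values in the fraction field over the generic point is rational. -/
theorem residueFieldMap_surjective_of_fractionRing {A : Type u} [CommRing A] [IsDomain A] {T : Scheme.{u}}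
    (π : T ⟶ Spec (CommRingCat.of A)) (σ : Spec (CommRingCat.of (FractionRing A)) ⟶ T)
    (hσ : σ ≫ π = Spec.map (CommRingCat.ofHom (algebraMap A (FractionRing A)))) {x : T}
    (hx : σ (closedPoint _) = x) : Function.Surjective (π.residueFieldMap x) := by
  obtain ⟨d, hd⟩ : ∃ d : T.residueField x ⟶ CommRingCat.of (FractionRing A),
      Spec.map d ≫ T.fromSpecResidueField x = σ := by
    refine ⟨(T.residueFieldCongr hx.symm).hom ≫ T.descResidueField (Scheme.stalkClosedPointTo σ), ?_⟩
    rw [Spec.map_comp, Category.assoc, Scheme.residueFieldCongr_fromSpecResidueField,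
      Scheme.descResidueField_stalkClosedPointTo_fromSpecResidueField]
  let β : CommRingCat.of A ⟶ (Spec (CommRingCat.of A)).residueField (π x) :=
    CommRingCat.ofHom (algebraMap A (π x).asIdeal.ResidueField) ≫ (Scheme.Spec.residueFieldIso _ (π x)).inv
  have he : β ≫ π.residueFieldMap x ≫ d = CommRingCat.ofHom (algebraMap A (FractionRing A)) :=
    Spec.map_injective (by
      rw [Spec.map_comp, Spec.map_comp, Spec.map_comp, Category.assoc,
        Scheme.Spec.map_residueFieldIso_inv_eq_fromSpecResidueField,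
        Scheme.Hom.SpecMap_residueFieldMap_fromSpecResidueField, reassoc_of% hd, hσ])
  intro y
  obtain ⟨a, b, -, hab⟩ := IsFractionRing.div_surjective A (d y)
  refine ⟨β a / β b, d.hom.injective ?_⟩
  have hh : ∀ c, algebraMap A (FractionRing A) c = d.hom ((π.residueFieldMap x).hom (β c)) := fun c =>
    (congrArg (fun m : CommRingCat.of A ⟶ CommRingCat.of (FractionRing A) => m.hom c) he).symm
  refine Eq.trans ?_ hab
  rw [hh, hh]
  show d.hom ((π.residueFieldMap x).hom (β a / β b)) = _
  rw [map_div₀, map_div₀]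

/-- The valuative criterion at a point for lifts of the generic point gives centres. -/
theorem centreAt_of_liftGen [IsIntegral X] {f : X ⟶ Y} {y : Y}
    (hf : ∀ (A : Type u) [CommRing A] [IsDomain A] [IsDiscreteValuationRing A]
      (σ : Spec (CommRingCat.of (FractionRing A)) ⟶ X) (g : Spec (CommRingCat.of A) ⟶ Y),
      g (closedPoint A) = y → σ ≫ f = Spec.map (CommRingCat.ofHom (algebraMap A (FractionRing A))) ≫ g →
      (∀ s, σ s = genericPoint X) →
      ∃ l : Spec (CommRingCat.of A) ⟶ X, l ≫ f = g ∧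
        Spec.map (CommRingCat.ofHom (algebraMap A (FractionRing A))) ≫ l = σ) : CentreAt f y := by
  intro V hV hy h R hR hC hn
  let χ : Γ(Y, V) ⟶ CommRingCat.of R :=
    CommRingCat.ofHom ((toFF f V h).codRestrict R.toSubring hC)
  let g := Spec.map χ ≫ hV.fromSpec
  have hg : g (closedPoint R) = y := by
    have e : Spec.map χ (closedPoint R) = hV.primeIdealOf ⟨y, hy⟩ := by
      refine PrimeSpectrum.ext (Ideal.ext fun c => ?_)
      exact (ValuationSubring.coe_mem_nonunits_iff (a := χ c)).symm.trans (hn c)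
    rw [Scheme.Hom.comp_apply, e]
    exact hV.fromSpec_primeIdealOf ⟨y, hy⟩
  let e := (FractionRing.algEquiv R X.functionField).symm
  let ι := Spec.map (CommRingCat.ofHom e.toRingEquiv.toRingHom)
  have hι : Spec.map (CommRingCat.ofHom e.symm.toRingEquiv.toRingHom) ≫ ι = 𝟙 _ := by
    rw [← Spec.map_comp, ← Spec.map_id]
    congr 1
    ext a
    exact e.symm_apply_apply a
  have hgen : X.fromSpecStalk (genericPoint X) ≫ f = incl R ≫ g := by
    rw [← Scheme.SpecMap_stalkMap_fromSpecStalk, ← hV.fromSpecStalk_eq_fromSpecStalk h,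
      IsAffineOpen.fromSpecStalk]
    simp only [incl, g, ← Spec.map_comp_assoc]
    rfl
  have hinc : Spec.map (CommRingCat.ofHom (algebraMap R (FractionRing R))) =
      ι ≫ incl R := by
    rw [← Spec.map_comp]
    congr 1
    ext a
    exact (e.commutes a).symm
  obtain ⟨l, hl, hl'⟩ := hf R (ι ≫ X.fromSpecStalk (genericPoint X)) g hg
    (by rw [Category.assoc, hgen, hinc, Category.assoc]) (fun s => by
      have hs : ι s = closedPoint X.functionField := Subsingleton.elim (α := PrimeSpectrum X.functionField) _ _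
      rw [Scheme.Hom.comp_apply, hs]
      exact Scheme.fromSpecStalk_closedPoint)
  have hm : incl R ≫ l = X.fromSpecStalk (genericPoint X) := by
    have h1 := congrArg (Spec.map (CommRingCat.ofHom e.symm.toRingEquiv.toRingHom) ≫ ·) hl'
    simp only [hinc, Category.assoc, reassoc_of% hι] at h1
    exact h1
  refine ⟨l (closedPoint R), ?_, fun a => ?_⟩
  · have h2 : f (l (closedPoint R)) = g (closedPoint R) := by rw [← Scheme.Hom.comp_apply, hl]
    rw [h2, hg]; exact hy
  · rw [stalk_of_morphism R l hm a]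
    exact (Scheme.stalkClosedPointTo l a).2

/-- Valuative lifts through the points of `Z` give properness of the closure near the point. -/
theorem exists_proper_closure [IsLocallyNoetherian Y] (f : X ⟶ Y) [IsSeparated f]
    [LocallyOfFiniteType f] [QuasiCompact f] (Z : Set X)
    (hZ : ∀ z ∈ closure Z, (∀ z' ∈ closure Z, z ∈ closure {z'} → z' = z) → z ∈ Z) (y : Y)
    (H : ∀ (A : Type u) [CommRing A] [IsDomain A] [IsDiscreteValuationRing A]
        (g : Spec (CommRingCat.of A) ⟶ Y), g (closedPoint A) = y →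
        ∀ x' : ↥(pullback f g), pullback.fst f g x' ∈ Z →
          pullback.snd f g x' = genericPoint (Spec (CommRingCat.of A)) →
          Function.Bijective ((pullback.snd f g).residueFieldMap x').hom →
          ∃ s : Spec (CommRingCat.of A) ⟶ pullback f g, s ≫ pullback.snd f g = 𝟙 _ ∧ x' ∈ Set.range s) :
    ∃ U : Y.Opens, y ∈ U ∧ ∃ hC : IsClosed ((f ⁻¹ᵁ U).ι ⁻¹' closure Z),
      IsProper ((Scheme.IdealSheafData.vanishingIdeal
        (⟨(f ⁻¹ᵁ U).ι ⁻¹' closure Z, hC⟩ : Closeds ↥(f ⁻¹ᵁ U))).subschemeι ≫ (f ∣_ U)) := by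
  classical
  haveI : IsLocallyNoetherian X := LocallyOfFiniteType.isLocallyNoetherian f
  obtain ⟨V₀, hV₀, hyV₀, -⟩ := exists_isAffineOpen_mem_and_subset (x := y) (U := ⊤) (Opens.mem_top y)
  let W := (Scheme.IdealSheafData.vanishingIdeal (⟨closure Z, isClosed_closure⟩ : Closeds X))
  have hrW : Set.range W.subschemeι = closure Z := by
    rw [Scheme.IdealSheafData.range_subschemeι, Scheme.IdealSheafData.coe_support_vanishingIdeal]; rfl
  haveI : CompactSpace (f ⁻¹ᵁ V₀).toScheme :=
    isCompact_iff_compactSpace.1 (f.isCompact_preimage hV₀.isCompact)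
  haveI : IsNoetherian (f ⁻¹ᵁ V₀).toScheme := ⟨⟩
  let O : W.subscheme.Opens := W.subschemeι ⁻¹ᵁ (f ⁻¹ᵁ V₀)
  let k : O.toScheme ⟶ X := O.ι ≫ W.subschemeι
  have hk : IsEmbedding k := W.subschemeι.isClosedEmbedding.isEmbedding.comp O.ι.isOpenEmbedding.isEmbedding
  haveI : NoetherianSpace O.toScheme :=
    (W.subschemeι ∣_ (f ⁻¹ᵁ V₀)).isClosedEmbedding.isEmbedding.isInducing.noetherianSpace
  have hrk : Set.range k = closure Z ∩ f ⁻¹' V₀ := by
    rw [← hrW]
    ext x
    constructor
    · rintro ⟨o, rfl⟩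
      exact ⟨⟨O.ι o, rfl⟩, o.2⟩
    · rintro ⟨⟨w, rfl⟩, hw⟩
      exact ⟨⟨w, hw⟩, rfl⟩
  have hfin := NoetherianSpace.finite_irreducibleComponents (α := O.toScheme)
  have hgen : ∀ C : irreducibleComponents O.toScheme, ∃ η, IsGenericPoint η C.1 := fun C =>
    QuasiSober.sober C.2.1 (isClosed_of_mem_irreducibleComponents _ C.2)
  choose η hη using hgen
  let pt : irreducibleComponents O.toScheme → X := fun C => k (η C)
  have hptZ : ∀ C, pt C ∈ Z := fun C => by
    have hp := hrk.le ⟨η C, rfl⟩
    refine hZ _ hp.1 fun z' hz' hsp => ?_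
    obtain ⟨w, rfl⟩ := hrk.ge ⟨hz', ((specializes_iff_mem_closure.2 hsp).map f.continuous).mem_open V₀.2 hp.2⟩
    have h1 : w ⤳ η C := hk.isInducing.specializes_iff.1 (specializes_iff_mem_closure.2 hsp)
    have h2 : (closure {η C} : Set O.toScheme) ⊆ closure {w} := h1.closure_subset
    have h3 : closure {w} ⊆ (C : Set O.toScheme) := C.2.2 isIrreducible_singleton.closure
      ((hη C).def.symm.le.trans h2)
    exact congrArg k (h1.antisymm ((hη C).specializes (h3 (subset_closure rfl)))).eq
  let Zc : irreducibleComponents O.toScheme → Closeds X := fun C => ⟨closure {pt C}, isClosed_closure⟩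
  have hU : ∀ C, ∃ U : Y.Opens, y ∈ U ∧ ∀ S : ValuativeCommSq f,
      S.i₂ (closedPoint S.R) ∈ U → S.i₁ (closedPoint S.K) ∈ Zc C → S.commSq.HasLift := by
    intro C
    let I := Scheme.IdealSheafData.vanishingIdeal (Zc C)
    let ι := I.subschemeι
    have hrange : Set.range ι = closure {pt C} := by
      rw [Scheme.IdealSheafData.range_subschemeι, Scheme.IdealSheafData.coe_support_vanishingIdeal]
      rfl
    haveI : IsIntegral I.subscheme := CurveLib.isIntegral_vanishingIdeal isClosed_closure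
      isIrreducible_singleton.closure
    have hξ : ι (genericPoint I.subscheme) = pt C := by
      refine (show IsGenericPoint (ι (genericPoint I.subscheme)) (closure {pt C}) from ?_).eq rfl
      show closure {ι (genericPoint I.subscheme)} = _
      rw [← Set.image_singleton, ι.isClosedEmbedding.closure_image_eq, (genericPoint_spec I.subscheme).def,
        Set.image_univ, hrange]
    obtain ⟨U, hyU, hUlift⟩ := exists_nhd_lift (ι ≫ f) y (centreAt_of_liftGen (f := ι ≫ f) (by
      intro A _ _ _ σ g hg w hσgen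
      let σ' : Spec (CommRingCat.of (FractionRing A)) ⟶ pullback f g :=
        pullback.lift (σ ≫ ι) (Spec.map (CommRingCat.ofHom (algebraMap A (FractionRing A))))
          (by rw [Category.assoc]; exact w)
      have hσ' : σ' ≫ pullback.snd f g = Spec.map (CommRingCat.ofHom (algebraMap A (FractionRing A))) :=
        pullback.lift_snd _ _ _
      have hx1 : pullback.fst f g (σ' (closedPoint _)) = pt C := by
        rw [← Scheme.Hom.comp_apply, pullback.lift_fst, Scheme.Hom.comp_apply, hσgen, hξ]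
      have hx2 : pullback.snd f g (σ' (closedPoint _)) = genericPoint (Spec (CommRingCat.of A)) := by
        rw [← Scheme.Hom.comp_apply, hσ', genericPoint_eq_bot_of_affine]
        apply PrimeSpectrum.ext
        show Ideal.comap (algebraMap A (FractionRing A)) (maximalIdeal (FractionRing A)) = ⊥
        rw [IsLocalRing.maximalIdeal_eq_bot]
        exact Ideal.comap_bot_of_injective _ (IsFractionRing.injective A (FractionRing A))
      have hsurj := residueFieldMap_surjective_of_fractionRing (pullback.snd f g) σ' hσ' rfl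
      obtain ⟨s, hs, t, ht⟩ := H A g hg _ (hx1 ▸ hptZ C) hx2 ⟨RingHom.injective _, hsurj⟩
      have hse : Spec.map (CommRingCat.ofHom (algebraMap A (FractionRing A))) ≫ s = σ' := by
        refine hom_ext_of_rational (pullback.snd f g) hsurj _ _ ?_ rfl (by rw [Category.assoc, hs, Category.comp_id, hσ'])
        have ht' : t = Spec.map (CommRingCat.ofHom (algebraMap A (FractionRing A))) (closedPoint _) := by
          have h1 := congrArg (pullback.snd f g) ht
          rw [← Scheme.Hom.comp_apply, hs] at h1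
          rw [← hσ', Scheme.Hom.comp_apply]
          exact h1
        rw [Scheme.Hom.comp_apply, ← ht', ht]
      have hfst : Spec.map (CommRingCat.ofHom (algebraMap A (FractionRing A))) ≫ (s ≫ pullback.fst f g) = σ ≫ ι := by
        rw [← Category.assoc, hse, pullback.lift_fst]
      have hsub : Set.range (s ≫ pullback.fst f g) ⊆ Set.range ι := by
        have hd : IsDominant (Spec.map (CommRingCat.ofHom (algebraMap A (FractionRing A)))) := by
          rw [isDominant_iff]
          exact PrimeSpectrum.denseRange_comap_iff_ker_le_nilRadical _ |>.mpr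
            (((RingHom.injective_iff_ker_eq_bot _).mp
              (IsFractionRing.injective A (FractionRing A))).le.trans bot_le)
        refine (s ≫ pullback.fst f g).continuous.range_subset_closure_image_dense hd.denseRange |>.trans ?_
        refine closure_minimal ?_ ι.isClosedEmbedding.isClosed_range
        rintro _ ⟨_, ⟨r, rfl⟩, rfl⟩
        exact ⟨σ r, by rw [← Scheme.Hom.comp_apply, ← Scheme.Hom.comp_apply, hfst]⟩
      obtain ⟨l', hl''⟩ := exists_factor_closed ι _ hsub
      refine ⟨l', ?_, ?_⟩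
      · rw [← Category.assoc, hl'', Category.assoc, pullback.condition, reassoc_of% hs]
      · rw [← cancel_mono ι, Category.assoc, hl'', hfst]))
    refine ⟨U, hyU, fun S hS hSZ => ?_⟩
    obtain ⟨R, K, i₁, i₂, ⟨w⟩⟩ := S
    obtain ⟨j, hj⟩ := exists_factor_closed ι i₁ (by
      rintro _ ⟨s, rfl⟩
      rw [hrange, Subsingleton.elim s (closedPoint K)]
      exact hSZ)
    obtain ⟨l, hl₁, hl₂⟩ := (hUlift (mkSq (ι ≫ f) R K j i₂
      (by rw [← Category.assoc, hj, w])) hS).exists_lift
    refine ⟨⟨⟨l ≫ ι, ?_, by rw [Category.assoc]; exact hl₂⟩⟩⟩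
    exact ((Category.assoc _ _ _).symm.trans (congrArg (· ≫ ι) hl₁)).trans hj
  choose U hyU hlift using hU
  haveI := hfin.to_subtype
  haveI := Fintype.ofFinite (irreducibleComponents O.toScheme)
  let U₀ : Y.Opens := ⟨(V₀ : Set Y) ∩ ⋂ C, (U C : Set Y),
    V₀.2.inter (isOpen_iInter_of_finite fun C => (U C).2)⟩
  have hU₀ : y ∈ U₀ := ⟨hyV₀, Set.mem_iInter.2 hyU⟩
  refine ⟨U₀, hU₀, isClosed_closure.preimage (f ⁻¹ᵁ U₀).ι.continuous, ?_⟩
  let J : (f ⁻¹ᵁ U₀).toScheme.IdealSheafData := Scheme.IdealSheafData.vanishingIdeal (⟨(f ⁻¹ᵁ U₀).ι ⁻¹' closure Z,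
    isClosed_closure.preimage (f ⁻¹ᵁ U₀).ι.continuous⟩ : Closeds ↥(f ⁻¹ᵁ U₀))
  let j := J.subschemeι
  have hrJ : Set.range j = (f ⁻¹ᵁ U₀).ι ⁻¹' closure Z := by
    rw [Scheme.IdealSheafData.range_subschemeι, Scheme.IdealSheafData.coe_support_vanishingIdeal]; rfl
  show IsProper (j ≫ f ∣_ U₀)
  haveI : UniversallyClosed (j ≫ f ∣_ U₀) := by
    refine UniversallyClosed.of_valuativeCriterion _ ?_
    rintro ⟨R, K, i₁, i₂, ⟨w⟩⟩
    have hmem : i₁ ≫ j ≫ (f ⁻¹ᵁ U₀).ι = (i₁ ≫ j) ≫ (f ⁻¹ᵁ U₀).ι := (Category.assoc _ _ _).symm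
    have hin : ((i₁ ≫ j) ≫ (f ⁻¹ᵁ U₀).ι) (closedPoint K) ∈ closure Z := by
      rw [Scheme.Hom.comp_apply, Scheme.Hom.comp_apply]
      exact hrJ.le ⟨_, rfl⟩
    obtain ⟨z, hz⟩ := hrk.ge ⟨hin, by
      rw [Scheme.Hom.comp_apply]
      exact (show f ((f ⁻¹ᵁ U₀).ι ((i₁ ≫ j) (closedPoint K))) ∈ (U₀ : Set Y) from
        ((i₁ ≫ j) (closedPoint K)).2).1⟩
    have hzC : ((i₁ ≫ j) ≫ (f ⁻¹ᵁ U₀).ι) (closedPoint K) ∈
        Zc ⟨_, irreducibleComponent_mem_irreducibleComponents z⟩ := by
      rw [← hz]
      exact specializes_iff_mem_closure.1 (((hη ⟨_, irreducibleComponent_mem_irreducibleComponents z⟩).specializes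
        mem_irreducibleComponent).map k.continuous)
    have hi₂ : (i₂ ≫ U₀.ι) (closedPoint R) ∈ U₀ := U₀.range_ι.le ⟨i₂ (closedPoint R), (Scheme.Hom.comp_apply _ _ _).symm⟩
    obtain ⟨l, hl₁, hl₂⟩ := (hlift _ (mkSq f R K ((i₁ ≫ j) ≫ (f ⁻¹ᵁ U₀).ι) (i₂ ≫ U₀.ι)
      (by rw [Category.assoc, ← morphismRestrict_ι, Category.assoc, reassoc_of% w]))
      (Set.mem_iInter.1 hi₂.2 _) hzC).exists_lift
    have hl₁' : Spec.map (CommRingCat.ofHom (algebraMap R K)) ≫ l = (i₁ ≫ j) ≫ (f ⁻¹ᵁ U₀).ι := hl₁
    have hl₂' : l ≫ f = i₂ ≫ U₀.ι := hl₂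
    have hp := (isPullback_morphismRestrict f U₀).flip
    let m : Spec (CommRingCat.of R) ⟶ (f ⁻¹ᵁ U₀) := hp.lift l i₂ hl₂'
    have hm₁ : Spec.map (CommRingCat.ofHom (algebraMap R K)) ≫ m = i₁ ≫ j := by
      apply hp.hom_ext
      · rw [Category.assoc, hp.lift_fst, hl₁']
      · rw [Category.assoc, hp.lift_snd, Category.assoc]
        exact w.symm
    have hsub : Set.range m ⊆ Set.range j := by
      have hd : IsDominant (Spec.map (CommRingCat.ofHom (algebraMap R K))) := by
        rw [isDominant_iff]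
        exact PrimeSpectrum.denseRange_comap_iff_ker_le_nilRadical _ |>.mpr
          (((RingHom.injective_iff_ker_eq_bot _).mp (IsFractionRing.injective R K)).le.trans bot_le)
      refine m.continuous.range_subset_closure_image_dense hd.denseRange |>.trans ?_
      refine closure_minimal ?_ j.isClosedEmbedding.isClosed_range
      rintro _ ⟨_, ⟨r, rfl⟩, rfl⟩
      exact ⟨i₁ r, by rw [← Scheme.Hom.comp_apply, ← Scheme.Hom.comp_apply, hm₁]⟩
    obtain ⟨m', hm'⟩ := exists_factor_closed j m hsub
    refine ⟨⟨⟨m', ?_, ?_⟩⟩⟩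
    · rw [← cancel_mono j, Category.assoc, hm']; exact hm₁
    · rw [← Category.assoc, hm']; exact hp.lift_snd _ _ _
  exact { }

/-- Properness of the closure gives the sections. -/
theorem exists_section_of_proper_closure (f : X ⟶ Y) (Z : Set X) (U : Y.Opens)
    (hC : IsClosed ((f ⁻¹ᵁ U).ι ⁻¹' closure Z))
    (hP : IsProper ((Scheme.IdealSheafData.vanishingIdeal
        (⟨(f ⁻¹ᵁ U).ι ⁻¹' closure Z, hC⟩ : Closeds ↥(f ⁻¹ᵁ U))).subschemeι ≫ (f ∣_ U)))
    {A : Type u} [CommRing A] [IsDomain A] [IsDiscreteValuationRing A] (g : Spec (CommRingCat.of A) ⟶ Y)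
    (hg : g (closedPoint A) ∈ U) (x' : ↥(pullback f g)) (hx'Z : pullback.fst f g x' ∈ Z)
    (hx'η : pullback.snd f g x' = genericPoint (Spec (CommRingCat.of A)))
    (hbij : Function.Bijective ((pullback.snd f g).residueFieldMap x').hom) :
    ∃ s : Spec (CommRingCat.of A) ⟶ pullback f g, s ≫ pullback.snd f g = 𝟙 _ ∧ x' ∈ Set.range s := by
  let π := pullback.snd f g
  let J : (f ⁻¹ᵁ U).toScheme.IdealSheafData := Scheme.IdealSheafData.vanishingIdeal (⟨(f ⁻¹ᵁ U).ι ⁻¹' closure Z, hC⟩ : Closeds ↥(f ⁻¹ᵁ U))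
  let j := J.subschemeι
  have hrJ : Set.range j = (f ⁻¹ᵁ U).ι ⁻¹' closure Z := by
    rw [Scheme.IdealSheafData.range_subschemeι, Scheme.IdealSheafData.coe_support_vanishingIdeal]; rfl
  let K := (Spec (CommRingCat.of A)).residueField (π x')
  letI : Algebra A K := ((Scheme.Spec.residueFieldIso (CommRingCat.of A) (π x')).inv.hom.comp
    (algebraMap A (π x').asIdeal.ResidueField)).toAlgebra
  haveI : IsFractionRing A K := isFractionRing_residueField (π x') (by
    rw [show π x' = genericPoint (Spec (CommRingCat.of A)) from hx'η, genericPoint_eq_bot_of_affine]; rfl)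
  haveI : IsIso (π.residueFieldMap x') := (ConcreteCategory.isIso_iff_bijective _).2 hbij
  let σ : Spec (CommRingCat.of K) ⟶ pullback f g := Spec.map (inv (π.residueFieldMap x')) ≫
    (pullback f g).fromSpecResidueField x'
  have hσπ : σ ≫ π = Spec.map (CommRingCat.ofHom (algebraMap A K)) := by
    rw [Category.assoc, ← Scheme.Hom.SpecMap_residueFieldMap_fromSpecResidueField, ← Spec.map_comp_assoc,
      IsIso.hom_inv_id, Spec.map_id]
    erw [Category.id_comp]
    rw [← Scheme.Spec.map_residueFieldIso_inv_eq_fromSpecResidueField, ← Spec.map_comp]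
    rfl
  have hσ : ∀ r, σ r = x' := fun r => by
    rw [Scheme.Hom.comp_apply]
    exact Scheme.fromSpecResidueField_apply _ _
  have hgU : Set.range g ⊆ (U : Set Y) := by
    rintro _ ⟨t, rfl⟩
    exact ((specializes_closedPoint t).map g.continuous).mem_open U.2 hg
  let g' : Spec (CommRingCat.of A) ⟶ U := IsOpenImmersion.lift U.ι g (by rw [U.range_ι]; exact hgU)
  have hp := (isPullback_morphismRestrict f U).flip
  let a : Spec (CommRingCat.of K) ⟶ (f ⁻¹ᵁ U) :=
    hp.lift (σ ≫ pullback.fst f g) (Spec.map (CommRingCat.ofHom (algebraMap A K)) ≫ g') (by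
      rw [Category.assoc, pullback.condition, reassoc_of% hσπ, Category.assoc, IsOpenImmersion.lift_fac])
  have hsub : Set.range a ⊆ Set.range j := by
    rintro _ ⟨r, rfl⟩
    rw [hrJ, Set.mem_preimage, ← Scheme.Hom.comp_apply, hp.lift_fst, Scheme.Hom.comp_apply, hσ]
    exact subset_closure hx'Z
  obtain ⟨a', ha'⟩ := exists_factor_closed j a hsub
  have hw : a' ≫ j ≫ f ∣_ U = Spec.map (CommRingCat.ofHom (algebraMap A K)) ≫ g' := by
    rw [reassoc_of% ha', hp.lift_snd]
  haveI := hP
  have hex : ValuativeCriterion.Existence (j ≫ f ∣_ U) :=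
    ((congrArg (fun P : MorphismProperty Scheme.{u} => P (j ≫ f ∣_ U))
      UniversallyClosed.eq_valuativeCriterion).mp inferInstance).1
  obtain ⟨l, hl₁, hl₂⟩ := (hex (mkSq (j ≫ f ∣_ U) A K a' g' hw)).exists_lift
  have hl₁' : Spec.map (CommRingCat.ofHom (algebraMap A K)) ≫ l = a' := hl₁
  have hl₂' : l ≫ j ≫ f ∣_ U = g' := hl₂
  let s : Spec (CommRingCat.of A) ⟶ pullback f g :=
    pullback.lift (l ≫ j ≫ (f ⁻¹ᵁ U).ι) (𝟙 _) (by
      rw [Category.assoc, Category.assoc, ← morphismRestrict_ι, Category.id_comp, reassoc_of% hl₂',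
        IsOpenImmersion.lift_fac])
  refine ⟨s, pullback.lift_snd _ _ _, Spec.map (CommRingCat.ofHom (algebraMap A K)) (closedPoint K), ?_⟩
  have he : Spec.map (CommRingCat.ofHom (algebraMap A K)) ≫ s = σ := by
    apply pullback.hom_ext
    · rw [Category.assoc, pullback.lift_fst, reassoc_of% hl₁', reassoc_of% ha', hp.lift_fst]
    · rw [Category.assoc, pullback.lift_snd, Category.comp_id]
      exact hσπ.symm
  rw [← Scheme.Hom.comp_apply, he, hσ]

end Groth.Agent.GenIrredLib
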