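import Mathlib

/-!
# Affine charts of a base change of a scheme over an affine base
-/

set_option autoImplicit false
set_option linter.style.haveILetI false

universe u

open CategoryTheory CategoryTheory.Limits AlgebraicGeometry TensorProduct

namespace Groth.Agent.GenIrredLib

variable {A : Type u} [CommRing A] {X : Scheme.{u}} (f : X ⟶ Spec (CommRingCat.of A))
  {B : Type u} [CommRing B] [Algebra A B] (ι : Spec (CommRingCat.of B) ⟶ X) [IsOpenImmersion ι]
  (hι : ι ≫ f = Spec.map (CommRingCat.ofHom (algebraMap A B))) (R : Type u) [CommRing R] [Algebra A R]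

include hι in
/-- The chart of a base change over an affine chart. -/
theorem exists_chart :
    ∃ c : Spec (CommRingCat.of (R ⊗[A] B)) ⟶ pullback f (Spec.map (CommRingCat.ofHom (algebraMap A R))),
      IsOpenImmersion c ∧
      c ≫ pullback.fst _ _ = Spec.map (CommRingCat.ofHom
        (Algebra.TensorProduct.includeRight : B →ₐ[A] R ⊗[A] B).toRingHom) ≫ ι ∧
      c ≫ pullback.snd _ _ = Spec.map (CommRingCat.ofHom (algebraMap R (R ⊗[A] B))) ∧
      Set.range c = pullback.fst f (Spec.map (CommRingCat.ofHom (algebraMap A R))) ⁻¹' Set.range ι := by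
  let P := pullbackSpecIso A B R
  let cm : Spec (CommRingCat.of (R ⊗[A] B)) ⟶ Spec (CommRingCat.of (B ⊗[A] R)) :=
    Spec.map (CommRingCat.ofHom (Algebra.TensorProduct.comm A B R).toRingHom)
  haveI : IsIso cm := by
    haveI : IsIso (CommRingCat.ofHom (Algebra.TensorProduct.comm A B R).toRingHom) :=
      (Algebra.TensorProduct.comm A B R).toRingEquiv.toCommRingCatIso.isIso_hom
    infer_instance
  let S := Spec.map (CommRingCat.ofHom (algebraMap A R))
  let m := pullback.map (Spec.map (CommRingCat.ofHom (algebraMap A B))) S f S ι (𝟙 _) (𝟙 _)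
    (by rw [Category.comp_id]; exact hι.symm) (by simp)
  haveI : IsOpenImmersion m := inferInstanceAs (IsOpenImmersion (pullback.map _ _ _ _ _ _ _ _ _))
  refine ⟨cm ≫ P.inv ≫ m, inferInstance, ?_, ?_, ?_⟩
  · simp only [m, S, pullback.map, Category.assoc, pullback.lift_fst]
    show cm ≫ P.inv ≫ pullback.fst _ _ ≫ ι = _
    rw [pullbackSpecIso_inv_fst_assoc, ← Spec.map_comp_assoc]
    congr 2
  · simp only [m, S, pullback.map, Category.assoc, pullback.lift_snd, Category.comp_id]
    show cm ≫ P.inv ≫ pullback.snd _ _ = _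
    rw [pullbackSpecIso_inv_snd, ← Spec.map_comp]
    congr 2
  · have h1 : Set.range (cm ≫ P.inv ≫ m) = Set.range m := by
      rw [← Category.assoc, Scheme.Hom.comp_base, TopCat.coe_comp, Set.range_comp,
        Set.range_eq_univ.2 (cm ≫ P.inv).surjective, Set.image_univ]
    rw [h1, Scheme.Pullback.range_map, Scheme.Hom.id_base, TopCat.coe_id, Set.range_id, Set.preimage_univ,
      Set.inter_univ]

end Groth.Agent.GenIrredLib
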