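import Mathlib

/-!
# An affine variety over an algebraically closed field is birational to a hypersurface
-/

set_option autoImplicit false
set_option linter.style.haveILetI false

universe u

namespace Groth.Agent.GenIrredLib

/-- A domain of finite type over an algebraically closed field becomes, after inverting an element, a
localised hypersurface with irreducible monic equation. -/
theorem exists_birational_hypersurface (k : Type u) [Field k] [IsAlgClosed k] (D : Type u) [CommRing D]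
    [IsDomain D] [Algebra k D] [Algebra.FiniteType k D] :
    ∃ (σ : Type u) (_ : Finite σ) (f : Polynomial (MvPolynomial σ k)) (c : AdjoinRoot f) (g : D),
      f.Monic ∧ Irreducible f ∧ c ≠ 0 ∧ g ≠ 0 ∧ Nonempty (Localization.Away c ≃ₐ[k] Localization.Away g) := by
  classical
  let L := FractionRing D
  haveI : Algebra.EssFiniteType k D := inferInstance
  haveI : Algebra.EssFiniteType k L :=
    haveI : Algebra.EssFiniteType D L := Algebra.EssFiniteType.of_isLocalization L (nonZeroDivisors D)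
    Algebra.EssFiniteType.comp k D L
  haveI : PerfectField k := inferInstance
  obtain ⟨s, hs, hsep⟩ := exists_isTranscendenceBasis_and_isSeparable_of_perfectField k L
  let P := MvPolynomial s k
  let xv : s → L := (↑)
  letI : Algebra P L := (MvPolynomial.aeval (R := k) xv).toRingHom.toAlgebra
  haveI : IsScalarTower k P L := .of_algebraMap_eq fun a => ((MvPolynomial.aeval (R := k) xv).commutes a).symm
  have hPinj : Function.Injective (algebraMap P L) := hs.1
  haveI : FaithfulSMul P L := (faithfulSMul_iff_algebraMap_injective _ _).2 hPinj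
  haveI : Algebra.IsAlgebraic P L := by
    haveI : Algebra.IsAlgebraic (Algebra.adjoin k (Set.range xv)) L := hs.isAlgebraic
    exact Algebra.IsAlgebraic.ringHom_of_comp_eq (R := Algebra.adjoin k (Set.range xv)) (A := L)
      (hs.1.aevalEquiv.symm : Algebra.adjoin k (Set.range xv) →+* P) (RingHom.id L)
      hs.1.aevalEquiv.symm.injective Function.surjective_id (by
        ext x
        obtain ⟨y, rfl⟩ := hs.1.aevalEquiv.surjective x
        show algebraMap P L (hs.1.aevalEquiv.symm (hs.1.aevalEquiv y)) = _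
        rw [AlgEquiv.symm_apply_apply]
        rfl)
  let F := IntermediateField.adjoin k (s : Set L)
  haveI : Algebra.IsSeparable F L := hsep
  haveI : Algebra.EssFiniteType F L := Algebra.EssFiniteType.of_comp k F L
  haveI : FiniteDimensional F L := Algebra.finite_of_essFiniteType_of_isAlgebraic
  obtain ⟨θ₀, hθ₀⟩ := Field.exists_primitive_element F L
  obtain ⟨q, hq0, hint⟩ := (Algebra.IsAlgebraic.isAlgebraic (R := P) θ₀).exists_integral_multiple
  let θ := q • θ₀
  let f := minpoly P θ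
  have hmon : f.Monic := minpoly.monic hint
  have hirr : Irreducible f := minpoly.irreducible hint
  have hfθ : Polynomial.aeval θ f = 0 := minpoly.aeval P θ
  let R := AdjoinRoot f
  let φ : R →ₐ[P] L := AdjoinRoot.liftAlgHom f (Algebra.ofId P L) θ (by rw [← hfθ]; rfl)
  have hφinj : Function.Injective φ := by
    rw [injective_iff_map_eq_zero]
    intro x hx
    obtain ⟨p, rfl⟩ := AdjoinRoot.mk_surjective x
    have hp : Polynomial.aeval θ p = 0 := by
      rw [← hx]
      simp only [φ]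
      rw [AdjoinRoot.liftAlgHom_mk]
      rfl
    exact AdjoinRoot.mk_eq_zero.2 (minpoly.isIntegrallyClosed_dvd hint hp)
  let φk : R →ₐ[k] L := φ.restrictScalars k
  let ι : D →ₐ[k] L := IsScalarTower.toAlgHom k D L
  have hι : Function.Injective ι := IsFractionRing.injective D L
  -- both rings have fraction field `L`
  have hgen : IntermediateField.adjoin k (Set.range φk) = ⊤ := by
    have hx : ∀ x ∈ (s : Set L), x ∈ Set.range φk := fun x hx =>
      ⟨algebraMap P R (MvPolynomial.X (⟨x, hx⟩ : s)), by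
        show φ (algebraMap P R _) = x
        rw [φ.commutes]
        exact MvPolynomial.aeval_X xv _⟩
    have hF : F ≤ IntermediateField.adjoin k (Set.range φk) := IntermediateField.adjoin.mono k _ _ hx
    have hθ : θ ∈ Set.range φk := ⟨AdjoinRoot.root f, by
      show φ (AdjoinRoot.root f) = θ
      simp only [φ]
      exact AdjoinRoot.liftAlgHom_root _ _ _ _⟩
    have hq : algebraMap P L q ∈ IntermediateField.adjoin k (Set.range φk) :=
      IntermediateField.subset_adjoin k _ ⟨algebraMap P R q, φ.commutes q⟩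
    have hθ₀mem : θ₀ ∈ IntermediateField.adjoin k (Set.range φk) := by
      have hne : algebraMap P L q ≠ 0 := fun h => hq0 (hPinj (h.trans (map_zero _).symm))
      have e : θ₀ = θ / algebraMap P L q := by
        rw [eq_div_iff hne, mul_comm]
        exact (Algebra.smul_def q θ₀).symm
      rw [e]
      exact div_mem (IntermediateField.subset_adjoin k _ hθ) hq
    rw [eq_top_iff]
    intro x _
    have hxmem : x ∈ IntermediateField.adjoin F {θ₀} := hθ₀ ▸ IntermediateField.mem_top
    rw [← IntermediateField.mem_restrictScalars k, IntermediateField.adjoin_adjoin_left] at hxmem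
    refine IntermediateField.adjoin_le_iff.2 ?_ hxmem
    rintro y (hy | hy)
    · exact IntermediateField.subset_adjoin k _ (hx y hy)
    · rw [Set.mem_singleton_iff] at hy
      rw [hy]
      exact hθ₀mem
  have hdiv : ∀ x : L, ∃ a b : R, φk b ≠ 0 ∧ x * φk b = φk a := by
    intro x
    have hx : x ∈ IntermediateField.adjoin k (Set.range φk) := hgen ▸ IntermediateField.mem_top
    rw [IntermediateField.mem_adjoin_iff_div, ← AlgHom.coe_range, Algebra.adjoin_eq] at hx
    obtain ⟨_, ⟨a, rfl⟩, _, ⟨b, rfl⟩, rfl⟩ := hx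
    by_cases hb : φk b = 0
    · exact ⟨0, 1, by simp, by simp [hb]⟩
    · exact ⟨a, b, hb, div_mul_cancel₀ _ hb⟩
  have hdivD : ∀ x : L, ∃ a b : D, ι b ≠ 0 ∧ x * ι b = ι a := by
    intro x
    obtain ⟨a, b, hb, e⟩ := IsFractionRing.div_surjective (A := D) x
    have hb' : ι b ≠ 0 := fun h => nonZeroDivisors.ne_zero hb (hι (h.trans (map_zero ι).symm))
    exact ⟨a, b, hb', by rw [← e]; exact div_mul_cancel₀ _ hb'⟩
  -- common denominators
  have common : ∀ (S : Subalgebra k L), S.FG → ∀ (R' : Type u) [CommRing R'] [Algebra k R'] (ψ : R' →ₐ[k] L),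
      (∀ x : L, ∃ a b : R', ψ b ≠ 0 ∧ x * ψ b = ψ a) →
      ∃ b : R', ψ b ≠ 0 ∧ ∀ x ∈ S, ∃ (a : R') (N : ℕ), x * ψ b ^ N = ψ a := by
    intro S ⟨G, hG⟩ R' _ _ ψ hψ
    choose num den hden he using hψ
    refine ⟨∏ x ∈ G, den x, ?_, fun x hx => ?_⟩
    · rw [map_prod, Finset.prod_ne_zero_iff]
      exact fun x _ => hden x
    rw [← hG] at hx
    induction hx using Algebra.adjoin_induction with
    | mem y hy =>
      refine ⟨num y * ∏ x ∈ G.erase y, den x, 1, ?_⟩
      rw [pow_one, map_prod, ← Finset.mul_prod_erase _ _ hy, ← mul_assoc, he, map_mul, map_prod]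
    | algebraMap r => exact ⟨algebraMap k R' r, 0, by rw [pow_zero, mul_one, AlgHom.commutes]⟩
    | add y z _ _ hy hz =>
      obtain ⟨a, N, ha⟩ := hy
      obtain ⟨a', N', ha'⟩ := hz
      refine ⟨a * (∏ x ∈ G, den x) ^ N' + a' * (∏ x ∈ G, den x) ^ N, N + N', ?_⟩
      rw [map_add, map_mul, map_mul, map_pow, map_pow, ← ha, ← ha']
      ring
    | mul y z _ _ hy hz =>
      obtain ⟨a, N, ha⟩ := hy
      obtain ⟨a', N', ha'⟩ := hz
      refine ⟨a * a', N + N', ?_⟩
      rw [map_mul, ← ha, ← ha']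
      ring
  haveI : Algebra.FiniteType k R :=
    Algebra.FiniteType.of_surjective (Ideal.Quotient.mkₐ k (Ideal.span {f})) Ideal.Quotient.mk_surjective
  have hDfg : ι.range.FG := by
    rw [← Algebra.map_top]
    exact Subalgebra.FG.map _ Algebra.FiniteType.out
  have hRfg : φk.range.FG := by
    rw [← Algebra.map_top]
    exact Subalgebra.FG.map _ Algebra.FiniteType.out
  obtain ⟨c₀, hc₀, hc₀D⟩ := common _ hDfg R φk hdiv
  obtain ⟨g₀, hg₀, hg₀R⟩ := common _ hRfg D ι hdivD
  obtain ⟨r', m, hr'⟩ := hc₀D _ ⟨g₀, rfl⟩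
  obtain ⟨δ, m', hδ⟩ := hg₀R _ ⟨c₀, rfl⟩
  have hr'0 : φk r' ≠ 0 := by rw [← hr']; exact mul_ne_zero hg₀ (pow_ne_zero _ hc₀)
  have hδ0 : ι δ ≠ 0 := by rw [← hδ]; exact mul_ne_zero hc₀ (pow_ne_zero _ hg₀)
  let c := c₀ * r'
  let g := g₀ * δ
  have hc : φk c ≠ 0 := by rw [map_mul]; exact mul_ne_zero hc₀ hr'0
  have hg : ι g ≠ 0 := by rw [map_mul]; exact mul_ne_zero hg₀ hδ0
  let u : Localization.Away c →ₐ[k] L :=
    IsLocalization.liftAlgHom (M := Submonoid.powers c) (f := φk) (by
      rintro ⟨_, n, rfl⟩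
      exact (IsUnit.mk0 _ (by simp only [map_pow]; exact pow_ne_zero n hc)))
  let v : Localization.Away g →ₐ[k] L :=
    IsLocalization.liftAlgHom (M := Submonoid.powers g) (f := ι) (by
      rintro ⟨_, n, rfl⟩
      exact (IsUnit.mk0 _ (by simp only [map_pow]; exact pow_ne_zero n hg)))
  have hu : ∀ x, u (algebraMap R (Localization.Away c) x) = φk x := fun x => IsLocalization.lift_eq _ x
  have hv : ∀ x, v (algebraMap D (Localization.Away g) x) = ι x := fun x => IsLocalization.lift_eq _ x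
  have hinj : ∀ {Q : Type u} [CommRing Q] [Algebra k Q] (e : Q) (ψ : Q →ₐ[k] L) (w : Localization.Away e →ₐ[k] L),
      Function.Injective ψ → (∀ x, w (algebraMap Q (Localization.Away e) x) = ψ x) → ψ e ≠ 0 →
      Function.Injective w := by
    intro Q _ _ e ψ w hψ hw he
    rw [injective_iff_map_eq_zero]
    intro z hz
    obtain ⟨⟨x, t⟩, hx⟩ := IsLocalization.surj (Submonoid.powers e) z
    have h1 := congrArg w hx
    rw [map_mul, hz, zero_mul, hw] at h1
    have h2 : x = 0 := hψ (h1.symm.trans (map_zero ψ).symm)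
    rw [h2, map_zero] at hx
    exact (IsUnit.mul_left_eq_zero (IsLocalization.map_units _ t)).1 hx
  have hui := hinj c φk u hφinj hu hc
  have hvi := hinj g ι v hι hv hg
  have hmem : ∀ {Q : Type u} [CommRing Q] [Algebra k Q] (e : Q) (ψ : Q →ₐ[k] L) (w : Localization.Away e →ₐ[k] L)
      (S : Subalgebra k L), (∀ x, w (algebraMap Q (Localization.Away e) x) = ψ x) → ψ e ≠ 0 →
      (∀ x, ψ x ∈ S) → (ψ e)⁻¹ ∈ S → w.range ≤ S := by
    intro Q _ _ e ψ w S hw he hS hinv
    rintro _ ⟨z, rfl⟩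
    obtain ⟨⟨x, ⟨_, n, rfl⟩⟩, hx⟩ := IsLocalization.surj (Submonoid.powers e) z
    have h1 := congrArg w hx
    simp only [map_mul, hw, map_pow] at h1
    have h2 : w z = ψ x * (ψ e)⁻¹ ^ n := by
      rw [← h1, inv_pow, mul_assoc, mul_inv_cancel₀ (pow_ne_zero n he), mul_one]
    show w z ∈ S
    rw [h2]
    exact mul_mem (hS x) (pow_mem hinv n)
  have hinvc : (φk c)⁻¹ ∈ u.range := ⟨IsLocalization.Away.invSelf c, by
    show u _ = _
    refine eq_inv_of_mul_eq_one_left ?_
    rw [← hu, ← map_mul, mul_comm, IsLocalization.Away.mul_invSelf, map_one]⟩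
  have hinvg : (ι g)⁻¹ ∈ v.range := ⟨IsLocalization.Away.invSelf g, by
    show v _ = _
    refine eq_inv_of_mul_eq_one_left ?_
    rw [← hv, ← map_mul, mul_comm, IsLocalization.Away.mul_invSelf, map_one]⟩
  have hR : ∀ x, φk x ∈ u.range := fun x => ⟨_, hu x⟩
  have hD : ∀ x, ι x ∈ v.range := fun x => ⟨_, hv x⟩
  -- inverses of the two denominators
  have hinvc₀ : (φk c₀)⁻¹ ∈ u.range := by
    have : (φk c₀)⁻¹ = φk r' * (φk c)⁻¹ := by
      rw [map_mul, mul_inv, mul_left_comm, mul_inv_cancel₀ hr'0, mul_one]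
    rw [this]; exact mul_mem (hR _) hinvc
  have hinvr' : (φk r')⁻¹ ∈ u.range := by
    have : (φk r')⁻¹ = φk c₀ * (φk c)⁻¹ := by
      rw [map_mul, mul_inv, ← mul_assoc, mul_inv_cancel₀ hc₀, one_mul]
    rw [this]; exact mul_mem (hR _) hinvc
  have hinvg₀ : (ι g₀)⁻¹ ∈ v.range := by
    have : (ι g₀)⁻¹ = ι δ * (ι g)⁻¹ := by
      rw [map_mul, mul_inv, mul_left_comm, mul_inv_cancel₀ hδ0, mul_one]
    rw [this]; exact mul_mem (hD _) hinvg
  have hinvδ : (ι δ)⁻¹ ∈ v.range := by
    have : (ι δ)⁻¹ = ι g₀ * (ι g)⁻¹ := by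
      rw [map_mul, mul_inv, ← mul_assoc, mul_inv_cancel₀ hg₀, one_mul]
    rw [this]; exact mul_mem (hD _) hinvg
  have hDu : ∀ x, ι x ∈ u.range := fun x => by
    obtain ⟨a, N, ha⟩ := hc₀D (ι x) ⟨x, rfl⟩
    have : ι x = φk a * (φk c₀)⁻¹ ^ N := by
      rw [← ha, inv_pow, mul_assoc, mul_inv_cancel₀ (pow_ne_zero N hc₀), mul_one]
    rw [this]; exact mul_mem (hR _) (pow_mem hinvc₀ N)
  have hRv : ∀ x, φk x ∈ v.range := fun x => by
    obtain ⟨a, N, ha⟩ := hg₀R (φk x) ⟨x, rfl⟩
    have : φk x = ι a * (ι g₀)⁻¹ ^ N := by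
      rw [← ha, inv_pow, mul_assoc, mul_inv_cancel₀ (pow_ne_zero N hg₀), mul_one]
    rw [this]; exact mul_mem (hD _) (pow_mem hinvg₀ N)
  have hinvg₀u : (ι g₀)⁻¹ ∈ u.range := by
    have : (ι g₀)⁻¹ = φk c₀ ^ m * (φk r')⁻¹ := by
      rw [← hr', mul_inv, mul_left_comm, mul_inv_cancel₀ (pow_ne_zero m hc₀), mul_one]
      rfl
    rw [this]; exact mul_mem (pow_mem (hR _) m) hinvr'
  have hinvc₀v : (φk c₀)⁻¹ ∈ v.range := by
    have : (φk c₀)⁻¹ = ι g₀ ^ m' * (ι δ)⁻¹ := by
      rw [← hδ, mul_inv, mul_left_comm, mul_inv_cancel₀ (pow_ne_zero m' hg₀), mul_one]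
      rfl
    rw [this]; exact mul_mem (pow_mem (hD _) m') hinvδ
  have h1 : u.range ≤ v.range := by
    refine hmem c φk u v.range hu hc hRv ?_
    rw [map_mul, mul_inv]
    refine mul_mem hinvc₀v ?_
    rw [← hr', mul_inv, ← inv_pow]
    exact mul_mem hinvg₀ (pow_mem hinvc₀v m)
  have h2 : v.range ≤ u.range := by
    refine hmem g ι v u.range hv hg hDu ?_
    rw [map_mul, mul_inv]
    refine mul_mem hinvg₀u ?_
    rw [← hδ, mul_inv, ← inv_pow]
    exact mul_mem hinvc₀ (pow_mem hinvg₀u m')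
  refine ⟨s, inferInstance, f, c, g, hmon, hirr, fun h => hc ?_, fun h => hg ?_,
    ⟨((AlgEquiv.ofInjective u hui).trans (Subalgebra.equivOfEq _ _ (le_antisymm h1 h2))).trans
      (AlgEquiv.ofInjective v hvi).symm⟩⟩
  · rw [h, map_zero]
  · rw [h, map_zero]

end Groth.Agent.GenIrredLib
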