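import Mathlib
import Groth.Agent.GenFree.Algebra

/-!
# Tools for spreading out: points of finitely generated subalgebras and universal injectivity
-/

set_option autoImplicit false
set_option linter.style.haveILetI false

open TensorProduct

universe u

namespace Groth.Agent.GenIrredLib

variable (A : Type u) [CommRing A] [IsDomain A]

/-- The map on geometric points of a finitely generated subalgebra of a field hits a dense open. -/
theorem exists_point {k : Type u} [Field k] [Algebra A k] (A' : Subalgebra A k) (hA' : A'.FG)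
    (b : A') (hb : b ≠ 0) :
    ∃ a : A, a ≠ 0 ∧ ∀ (Ω : Type u) [Field Ω] [IsAlgClosed Ω] [Algebra A Ω], algebraMap A Ω a ≠ 0 →
      FaithfulSMul A k → ∃ ψ : A' →ₐ[A] Ω, ψ b ≠ 0 := by
  classical
  let bi : k := (b : k)⁻¹
  let B := A' ⊔ Algebra.adjoin A {bi}
  have hB : B.FG := hA'.sup (Subalgebra.fg_adjoin_finset (R := A) {bi} |> fun h => by simpa using h)
  haveI : Algebra.FiniteType A B := (Subalgebra.fg_iff_finiteType B).1 hB
  obtain ⟨a, -, ha, hfree, -⟩ := GenFree.exists_algebra (R := A) (S := B) (g := 1) one_ne_zero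
  refine ⟨a, ha, fun Ω _ _ _ haΩ hf => ?_⟩
  haveI := hf
  haveI := hfree.free Ω (Ne.isUnit haΩ)
  let Af := Localization.Away a
  haveI : Module.Free Af (Af ⊗[A] B) := hfree
  letI : Algebra Af Ω := (IsLocalization.Away.lift a (Ne.isUnit haΩ)).toAlgebra
  haveI : IsScalarTower A Af Ω := .of_algebraMap_eq fun r => (IsLocalization.Away.lift_eq a _ r).symm
  have hak : algebraMap A k a ≠ 0 := fun h => ha (FaithfulSMul.algebraMap_injective A k (h.trans (map_zero _).symm))
  let ρ : Af ⊗[A] B →ₐ[A] k := Algebra.TensorProduct.lift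
    ({ IsLocalization.Away.lift a (Ne.isUnit hak) with
        commutes' := IsLocalization.Away.lift_eq a _ } : Af →ₐ[A] k) B.val fun _ _ => Commute.all _ _
  haveI : Nontrivial (Af ⊗[A] B) := ρ.toRingHom.domain_nontrivial
  haveI : Nontrivial (Ω ⊗[A] B) := by
    let e := AlgebraTensorModule.cancelBaseChange A Af Ω Ω B
    haveI : Nontrivial (Ω ⊗[Af] (Af ⊗[A] B)) := by
      obtain ⟨⟨I, bb⟩⟩ := (inferInstance : Module.Free Af (Af ⊗[A] B)).exists_basis
      haveI : Nonempty I := bb.index_nonempty
      exact (bb.baseChange Ω).repr.nontrivial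
    exact e.symm.nontrivial
  obtain ⟨m, hm⟩ := Ideal.exists_maximal (Ω ⊗[A] B)
  letI := Ideal.Quotient.field m
  let L := (Ω ⊗[A] B) ⧸ m
  haveI : Module.Finite Ω L := finite_of_finite_type_of_isJacobsonRing Ω L
  haveI : Algebra.IsAlgebraic Ω L := Algebra.IsAlgebraic.of_finite Ω L
  let e : L →ₐ[Ω] Ω := IsAlgClosed.lift
  let ψB : B →ₐ[A] Ω := (e.restrictScalars A).comp
    (((Ideal.Quotient.mkₐ Ω m).restrictScalars A).comp Algebra.TensorProduct.includeRight)
  refine ⟨ψB.comp (Subalgebra.inclusion le_sup_left), fun h => ?_⟩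
  have h1 : ψB (Subalgebra.inclusion le_sup_left b * ⟨bi, le_sup_right (a := A') (Algebra.self_mem_adjoin_singleton A bi)⟩) = 1 := by
    rw [show (Subalgebra.inclusion le_sup_left b * ⟨bi, _⟩ : B) = 1 from Subtype.ext
      (mul_inv_cancel₀ fun h => hb (Subtype.ext h)), map_one]
  rw [map_mul, show ψB (Subalgebra.inclusion le_sup_left b) = 0 from h, zero_mul] at h1
  exact zero_ne_one h1

variable {A}

/-- An element regular on the generic fibre is regular on nearby fibres, which are nonzero. -/
theorem exists_regular_spread (k : Type u) [Field k] [Algebra A k] [FaithfulSMul A k]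
    (B : Type u) [CommRing B] [Algebra A B] [Algebra.FiniteType A B] (x : B)
    (hx : ∀ z : k ⊗[A] B, ((1 : k) ⊗ₜ[A] x) * z = 0 → z = 0) :
    ∃ a : A, a ≠ 0 ∧ ∀ (Ω : Type u) [Field Ω] [Algebra A Ω], algebraMap A Ω a ≠ 0 →
      (∀ z : Ω ⊗[A] B, ((1 : Ω) ⊗ₜ[A] x) * z = 0 → z = 0) ∧
        (Nontrivial (k ⊗[A] B) → Nontrivial (Ω ⊗[A] B)) := by
  obtain ⟨a₁, -, ha₁, hf₁, -⟩ := GenFree.exists_algebra (R := A) (S := B) (g := 1) one_ne_zero
  obtain ⟨a₂, -, ha₂, hf₂, -⟩ :=
    GenFree.exists_algebra (R := A) (S := B ⧸ Ideal.span {x}) (g := 1) one_ne_zero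
  refine ⟨a₁ * a₂, mul_ne_zero ha₁ ha₂, fun Ω _ _ ha => ?_⟩
  let Af := Localization.Away (a₁ * a₂)
  have hu : IsUnit (algebraMap A Af (a₁ * a₂)) := IsLocalization.Away.algebraMap_isUnit _
  rw [map_mul] at hu
  haveI := hf₁.free Af (isUnit_of_mul_isUnit_left hu)
  haveI := hf₂.free Af (isUnit_of_mul_isUnit_right hu)
  letI : Algebra Af Ω := (IsLocalization.Away.lift (a₁ * a₂) (Ne.isUnit ha)).toAlgebra
  haveI : IsScalarTower A Af Ω := .of_algebraMap_eq fun r => (IsLocalization.Away.lift_eq _ _ r).symm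
  have hak : algebraMap A k (a₁ * a₂) ≠ 0 := fun h =>
    mul_ne_zero ha₁ ha₂ (FaithfulSMul.algebraMap_injective A k (h.trans (map_zero _).symm))
  let ι : Af →ₐ[A] k :=
    { IsLocalization.Away.lift (a₁ * a₂) (Ne.isUnit hak) with commutes' := IsLocalization.Away.lift_eq _ _ }
  have hι : Function.Injective ι := by
    rw [injective_iff_map_eq_zero]
    intro z hz
    obtain ⟨⟨b, t⟩, hb⟩ := IsLocalization.surj (Submonoid.powers (a₁ * a₂)) z
    have h1 := congrArg ι hb
    rw [map_mul, hz, zero_mul, AlgHom.commutes] at h1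
    have hb0 : b = 0 := FaithfulSMul.algebraMap_injective A k (h1.symm.trans (map_zero _).symm)
    rw [hb0, map_zero] at hb
    exact (IsUnit.mul_left_eq_zero (IsLocalization.map_units _ t)).1 hb
  let μ : B →ₗ[A] B := LinearMap.mulLeft A x
  have hμ : ∀ {R : Type u} [CommRing R] [Algebra A R] (z : R ⊗[A] B),
      μ.lTensor R z = ((1 : R) ⊗ₜ[A] x) * z := fun {R} _ _ z => by
    induction z using TensorProduct.induction_on with
    | zero => simp
    | add u v hu hv => rw [map_add, hu, hv, mul_add]
    | tmul r b => simp [μ]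
  letI : Algebra Af k := ι.toRingHom.toAlgebra
  haveI : IsScalarTower A Af k := .of_algebraMap_eq fun r => (ι.commutes r).symm
  let μf : Af ⊗[A] B →ₗ[Af] Af ⊗[A] B := μ.baseChange Af
  haveI : FaithfulSMul Af k := (faithfulSMul_iff_algebraMap_injective _ _).2 hι
  have hinjk : Function.Injective
      (fun z : Af ⊗[A] B => (AlgebraTensorModule.cancelBaseChange A Af k k B) ((1 : k) ⊗ₜ[Af] z)) := by
    refine (AlgebraTensorModule.cancelBaseChange A Af k k B).injective.comp ?_
    exact Module.Flat.tensorProduct_mk_injective (R := Af) (S := k) (M := Af ⊗[A] B)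
  have hμf : Function.Injective μf := by
    rw [injective_iff_map_eq_zero]
    intro z hz
    apply hinjk
    simp only [TensorProduct.tmul_zero, map_zero]
    refine hx _ ?_
    have key : ∀ z : Af ⊗[A] B, ((1 : k) ⊗ₜ[A] x) *
        (AlgebraTensorModule.cancelBaseChange A Af k k B) ((1 : k) ⊗ₜ[Af] z) =
        (AlgebraTensorModule.cancelBaseChange A Af k k B) ((1 : k) ⊗ₜ[Af] μf z) := fun z => by
      induction z using TensorProduct.induction_on with
      | zero => simp
      | add u v hu hv => simp only [TensorProduct.tmul_add, map_add, mul_add, hu, hv]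
      | tmul r b => simp [μf, μ]
    rw [key, hz, TensorProduct.tmul_zero, map_zero]
  let q : Af ⊗[A] B →ₗ[Af] Af ⊗[A] (B ⧸ Ideal.span {x}) :=
    ((Ideal.Quotient.mkₐ A (Ideal.span {x})).toLinearMap).baseChange Af
  have hexact : Function.Exact μf q := by
    refine _root_.lTensor_exact Af (fun b => ⟨fun hb => ?_, ?_⟩) Ideal.Quotient.mk_surjective
    · obtain ⟨c, hc⟩ := Ideal.mem_span_singleton'.1 (Ideal.Quotient.eq_zero_iff_mem.1 hb)
      exact ⟨c, by simp [μ, ← hc, mul_comm]⟩
    · rintro ⟨c, rfl⟩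
      exact Ideal.Quotient.eq_zero_iff_mem.2 (Ideal.mul_mem_right _ _ (Ideal.mem_span_singleton_self x))
  have hq : Function.Surjective q := LinearMap.lTensor_surjective Af Ideal.Quotient.mk_surjective
  have hinjΩ : Function.Injective (μf.lTensor Ω) :=
    LinearMap.lTensor_injective_of_exact_of_flat q hq μf hμf hexact Ω
  refine ⟨fun z hz => ?_, fun hk => ?_⟩
  · let e := AlgebraTensorModule.cancelBaseChange A Af Ω Ω B
    obtain ⟨w, rfl⟩ := e.surjective z
    have key : ∀ w : Ω ⊗[Af] (Af ⊗[A] B), e (μf.lTensor Ω w) = ((1 : Ω) ⊗ₜ[A] x) * e w := fun w => by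
      induction w using TensorProduct.induction_on with
      | zero => simp
      | add u v hu hv => simp only [map_add, mul_add, hu, hv]
      | tmul r z =>
        induction z using TensorProduct.induction_on with
        | zero => simp
        | add u v hu hv => simp only [TensorProduct.tmul_add, map_add, mul_add, hu, hv]
        | tmul s b => simp [μf, μ, e]
    rw [← key] at hz
    rw [hinjΩ ((e.injective (hz.trans (map_zero e).symm)).trans (map_zero (μf.lTensor Ω)).symm), map_zero]
  · haveI : Nontrivial (Ω ⊗[Af] (Af ⊗[A] B)) := by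
      obtain ⟨⟨I, bb⟩⟩ := (inferInstance : Module.Free Af (Af ⊗[A] B)).exists_basis
      haveI : Nontrivial (Af ⊗[A] B) := by
        by_contra hn
        rw [not_nontrivial_iff_subsingleton] at hn
        haveI : Nontrivial (k ⊗[Af] (Af ⊗[A] B)) := (AlgebraTensorModule.cancelBaseChange A Af k k B).nontrivial
        exact not_subsingleton (k ⊗[Af] (Af ⊗[A] B)) inferInstance
      haveI : Nonempty I := bb.index_nonempty
      exact (bb.baseChange Ω).repr.nontrivial
    exact (AlgebraTensorModule.cancelBaseChange A Af Ω Ω B).symm.nontrivial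

section Iso

variable (k : Type u) [Field k] [Algebra A k]

/-- Every element of `k ⊗ B` comes from a finitely generated subalgebra. -/
theorem exists_fg_forall {B : Type u} [CommRing B] [Algebra A B] {ι : Type*} [Finite ι] (z : ι → k ⊗[A] B) :
    ∃ A' : Subalgebra A k, A'.FG ∧ ∀ i, ∃ w : A' ⊗[A] B,
      Algebra.TensorProduct.map A'.val (AlgHom.id A B) w = z i := by
  classical
  choose P hP hz using fun i => TensorProduct.Algebra.exists_of_fg (z i)
  cases nonempty_fintype ι
  refine ⟨Finset.univ.sup P, ?_, fun i => ?_⟩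
  · exact Finset.sup_induction (p := Subalgebra.FG) Subalgebra.fg_bot (fun a ha b hb => ha.sup hb)
      fun i _ => hP i
  · obtain ⟨w, hw⟩ := hz i
    refine ⟨Algebra.TensorProduct.map (Subalgebra.inclusion (Finset.le_sup (f := P) (Finset.mem_univ i)))
      (AlgHom.id A B) w, ?_⟩
    rw [← hw]
    clear hw
    induction w using TensorProduct.induction_on with
    | zero => simp only [map_zero]
    | add u v hu hv => simp only [map_add, hu, hv]
    | tmul r b => rfl

/-- The lift of a ring homomorphism through a finitely generated subalgebra. -/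
theorem exists_fg_lift {P B : Type u} [CommRing P] [Algebra A P] [Algebra.FiniteType A P] [CommRing B]
    [Algebra A B] (e : P →ₐ[A] k ⊗[A] B) :
    ∃ A' : Subalgebra A k, A'.FG ∧
      e.range ≤ (Algebra.TensorProduct.map A'.val (AlgHom.id A B)).range := by
  obtain ⟨G, hG⟩ := (inferInstance : Algebra.FiniteType A P).out
  obtain ⟨A', hA', h⟩ := exists_fg_forall k fun x : G => e x.1
  refine ⟨A', hA', ?_⟩
  rw [← Algebra.map_top, ← hG, AlgHom.map_adjoin, Algebra.adjoin_le_iff]
  rintro _ ⟨x, hx, rfl⟩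
  obtain ⟨w, hw⟩ := h ⟨x, hx⟩
  exact ⟨w, hw⟩

variable [FaithfulSMul A k]

/-- An isomorphism of base changes of flat algebras of finite type descends. -/
theorem exists_iso_spread {P Q : Type u} [CommRing P] [CommRing Q] [Algebra A P] [Algebra A Q]
    [Algebra.FiniteType A P] [Algebra.FiniteType A Q] [Module.Flat A P] [Module.Flat A Q]
    (e : k ⊗[A] P ≃ₐ[k] k ⊗[A] Q) :
    ∃ A' : Subalgebra A k, A'.FG ∧ ∀ (Ω : Type u) [Field Ω] [Algebra A Ω] (ψ : A' →ₐ[A] Ω),
      Nonempty (Ω ⊗[A] P ≃+* Ω ⊗[A] Q) := by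
  obtain ⟨A₁, hA₁, h₁⟩ := exists_fg_lift k
    ((e.toAlgHom.restrictScalars A).comp (Algebra.TensorProduct.includeRight : P →ₐ[A] k ⊗[A] P))
  obtain ⟨A₂, hA₂, h₂⟩ := exists_fg_lift k
    ((e.symm.toAlgHom.restrictScalars A).comp (Algebra.TensorProduct.includeRight : Q →ₐ[A] k ⊗[A] Q))
  refine ⟨A₁ ⊔ A₂, hA₁.sup hA₂, fun Ω _ _ ψ => ?_⟩
  let A' := A₁ ⊔ A₂
  let mP := Algebra.TensorProduct.map A'.val (AlgHom.id A P)
  let mQ := Algebra.TensorProduct.map A'.val (AlgHom.id A Q)
  have hmP : Function.Injective mP :=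
    Module.Flat.rTensor_preserves_injective_linearMap (M := P) A'.val.toLinearMap Subtype.val_injective
  have hmQ : Function.Injective mQ :=
    Module.Flat.rTensor_preserves_injective_linearMap (M := Q) A'.val.toLinearMap Subtype.val_injective
  have key : ∀ {R S : Type u} [CommRing R] [CommRing S] [Algebra A R] [Algebra A S]
      (u : k ⊗[A] R →ₐ[k] k ⊗[A] S) (A₀ : Subalgebra A k), A₀ ≤ A' →
      ((u.restrictScalars A).comp (Algebra.TensorProduct.includeRight : R →ₐ[A] k ⊗[A] R)).range ≤
        (Algebra.TensorProduct.map A₀.val (AlgHom.id A S)).range →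
      ∀ z : A' ⊗[A] R, ∃ w : A' ⊗[A] S, Algebra.TensorProduct.map A'.val (AlgHom.id A S) w =
        u (Algebra.TensorProduct.map A'.val (AlgHom.id A R) z) := by
    intro R S _ _ _ _ u A₀ hle hu z
    induction z using TensorProduct.induction_on with
    | zero => exact ⟨0, by simp only [map_zero]⟩
    | add a b ha hb =>
      obtain ⟨wa, hwa⟩ := ha
      obtain ⟨wb, hwb⟩ := hb
      exact ⟨wa + wb, by simp only [map_add, hwa, hwb]⟩
    | tmul a r =>
      obtain ⟨w, hw⟩ := hu ⟨r, rfl⟩
      refine ⟨(a ⊗ₜ[A] (1 : S)) * Algebra.TensorProduct.map (Subalgebra.inclusion hle) (AlgHom.id A S) w, ?_⟩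
      have hinc : Algebra.TensorProduct.map A'.val (AlgHom.id A S)
          (Algebra.TensorProduct.map (Subalgebra.inclusion hle) (AlgHom.id A S) w) =
          Algebra.TensorProduct.map A₀.val (AlgHom.id A S) w := by
        clear hw
        induction w using TensorProduct.induction_on with
        | zero => simp only [map_zero]
        | add u v hu hv => simp only [map_add, hu, hv]
        | tmul x y => rfl
      rw [map_mul, hinc, show Algebra.TensorProduct.map A₀.val (AlgHom.id A S) w = u ((1 : k) ⊗ₜ[A] r) from hw]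
      have hsplit : Algebra.TensorProduct.map A'.val (AlgHom.id A R) (a ⊗ₜ[A] r) =
          (a : k) • ((1 : k) ⊗ₜ[A] r) := by
        rw [TensorProduct.smul_tmul', smul_eq_mul, mul_one]
        rfl
      rw [hsplit, map_smul, Algebra.smul_def, Algebra.TensorProduct.algebraMap_apply]
      rfl
  have hPQ := key (R := P) (S := Q) e.toAlgHom A₁ le_sup_left h₁
  have hQP := key (R := Q) (S := P) e.symm.toAlgHom A₂ le_sup_right h₂
  choose u hu using hPQ
  choose v hv using hQP
  let ε : A' ⊗[A] P ≃ₐ[A'] A' ⊗[A] Q :=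
    { toFun := u
      invFun := v
      left_inv := fun z => hmP (by rw [hv, hu]; exact e.symm_apply_apply _)
      right_inv := fun z => hmQ (by rw [hu, hv]; exact e.apply_symm_apply _)
      map_mul' := fun x y => hmQ (by rw [map_mul, hu, hu, hu, map_mul, map_mul])
      map_add' := fun x y => hmQ (by rw [map_add, hu, hu, hu, map_add, map_add])
      commutes' := fun a => hmQ (by
        rw [hu]
        show e (Algebra.TensorProduct.map A'.val (AlgHom.id A P) ((a : A') ⊗ₜ[A] (1 : P))) =
          Algebra.TensorProduct.map A'.val (AlgHom.id A Q) ((a : A') ⊗ₜ[A] (1 : Q))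
        simp only [Algebra.TensorProduct.map_tmul, map_one]
        exact e.commutes (a : k)) }
  letI : Algebra A' Ω := ψ.toRingHom.toAlgebra
  haveI : IsScalarTower A A' Ω := .of_algebraMap_eq fun r => (ψ.commutes r).symm
  exact ⟨((Algebra.TensorProduct.cancelBaseChange A A' Ω Ω P).symm.trans
    ((Algebra.TensorProduct.congr AlgEquiv.refl ε).trans
      (Algebra.TensorProduct.cancelBaseChange A A' Ω Ω Q))).toRingEquiv⟩

end Iso

end Groth.Agent.GenIrredLib
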