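import Mathlib

/-!
# Absolute irreducibility of polynomials spreads out (EGA IV 9.7.4)
-/

set_option autoImplicit false
set_option linter.style.haveILetI false

open TensorProduct

universe u

namespace Groth.Agent.GenIrredLib

open MvPolynomial

variable {A : Type u} [CommRing A] [IsDomain A] (k : Type u) [Field k] [IsAlgClosed k] [Algebra A k]

/-- A finitely generated algebra whose ideal does not meet `A` has a point in `k`. -/
theorem exists_eval_eq_zero [FaithfulSMul A k] {τ : Type u} [Finite τ] (I : Ideal (MvPolynomial τ A))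
    (hI : ∀ a : A, MvPolynomial.C a ∈ I → a = 0) :
    ∃ x : τ → k, ∀ p ∈ I, MvPolynomial.aeval x p = 0 := by
  let K := FractionRing A
  let ι := MvPolynomial.map (σ := τ) (algebraMap A K)
  have hne : I.map ι ≠ ⊤ := by
    intro htop
    obtain ⟨a, ha, hC⟩ : ∃ a : A, a ≠ 0 ∧ MvPolynomial.C a ∈ I := by
      letI : Algebra (MvPolynomial τ A) (MvPolynomial τ K) := MvPolynomial.algebraMvPolynomial
      haveI : IsLocalization ((nonZeroDivisors A).map (MvPolynomial.C (σ := τ))) (MvPolynomial τ K) :=
        inferInstanceAs (IsLocalization _ _)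
      have h1 : (algebraMap (MvPolynomial τ A) (MvPolynomial τ K)) 1 ∈ I.map (algebraMap _ _) := by
        rw [show I.map (algebraMap (MvPolynomial τ A) (MvPolynomial τ K)) = I.map ι from rfl, htop]
        trivial
      rw [IsLocalization.algebraMap_mem_map_algebraMap_iff ((nonZeroDivisors A).map (MvPolynomial.C (σ := τ)))] at h1
      obtain ⟨s, ⟨a, ha, rfl⟩, hs⟩ := h1
      exact ⟨a, nonZeroDivisors.ne_zero ha, by simpa using hs⟩
    exact ha (hI a hC)
  obtain ⟨m, hm, hIm⟩ := Ideal.exists_le_maximal _ hne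
  let L := MvPolynomial τ K ⧸ m
  letI := Ideal.Quotient.field m
  haveI : Module.Finite K L := finite_of_finite_type_of_isJacobsonRing K L
  letI : Algebra K k := FractionRing.liftAlgebra A k
  haveI : Algebra.IsAlgebraic K L := Algebra.IsAlgebraic.of_finite K L
  let e : L →ₐ[K] k := IsAlgClosed.lift
  refine ⟨fun i => e (Ideal.Quotient.mk m (MvPolynomial.X i)), fun p hp => ?_⟩
  have h1 : ((e.toRingHom.comp (Ideal.Quotient.mk m)).comp ι) =
      (MvPolynomial.aeval (R := A) fun i => e (Ideal.Quotient.mk m (MvPolynomial.X i))).toRingHom := by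
    refine MvPolynomial.ringHom_ext (fun a => ?_) fun i => ?_
    · simp only [ι, RingHom.comp_apply, MvPolynomial.map_C, AlgHom.toRingHom_eq_coe, RingHom.coe_coe,
        MvPolynomial.aeval_C]
      rw [show Ideal.Quotient.mk m (MvPolynomial.C (algebraMap A K a)) = algebraMap K L (algebraMap A K a) from rfl,
        e.commutes, ← IsScalarTower.algebraMap_apply]
    · simp [ι]
  have := congrArg (fun φ : MvPolynomial τ A →+* k => φ p) h1
  simp only [RingHom.comp_apply, AlgHom.toRingHom_eq_coe, RingHom.coe_coe] at this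
  rw [← this, Ideal.Quotient.eq_zero_iff_mem.2 (hIm (Ideal.mem_map_of_mem _ hp)), map_zero]

variable {σ : Type u} [Finite σ]

omit [IsDomain A] in
/-- The generic polynomial on a finite set of monomials. -/
theorem exists_generic {R : Type u} [CommRing R] (S : Finset (σ →₀ ℕ)) {τ : Type u} (v : S → τ) [Algebra A R]
    (x : τ → R) :
    MvPolynomial.map (MvPolynomial.aeval x : MvPolynomial τ A →ₐ[A] R).toRingHom
        (∑ m : S, MvPolynomial.monomial (R := MvPolynomial τ A) m.1 (MvPolynomial.X (v m))) =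
      ∑ m : S, MvPolynomial.monomial m.1 (x (v m)) := by
  rw [map_sum]
  exact Finset.sum_congr rfl fun m _ => by simp [MvPolynomial.map_monomial]

/-- Absolute irreducibility spreads out. -/
theorem exists_irreducible_spread [FaithfulSMul A k] (f : MvPolynomial σ A)
    (hf : Irreducible (MvPolynomial.map (algebraMap A k) f)) :
    ∃ a : A, a ≠ 0 ∧ ∀ (Ω : Type u) [Field Ω] [Algebra A Ω], algebraMap A Ω a ≠ 0 →
      Irreducible (MvPolynomial.map (algebraMap A Ω) f) := by
  classical
  let d := f.totalDegree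
  have hinj : Function.Injective (algebraMap A k) := FaithfulSMul.algebraMap_injective A k
  have hdk : (MvPolynomial.map (algebraMap A k) f).totalDegree = d := by
    simp only [MvPolynomial.totalDegree, d, MvPolynomial.support_map_of_injective _ hinj]
  have hf0 : f ≠ 0 := fun h => hf.ne_zero (by rw [h, map_zero])
  have hd : 1 ≤ d := by
    by_contra h
    have h0 : (MvPolynomial.map (algebraMap A k) f).totalDegree = 0 := by omega
    refine hf.not_isUnit (MvPolynomial.isUnit_iff_totalDegree_of_isReduced.2 ⟨?_, h0⟩)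
    refine isUnit_iff_ne_zero.2 fun hc => hf.ne_zero ?_
    rw [MvPolynomial.totalDegree_eq_zero_iff_eq_C.1 h0, hc, map_zero]
  obtain ⟨m₀, hm₀, hm₀d⟩ := Finset.exists_mem_eq_sup f.support (MvPolynomial.support_nonempty.2 hf0)
    fun m => m.sum fun _ e => e
  let S := (Finsupp.finite_of_degree_le (σ := σ) (d - 1)).toFinset
  let τ := S ⊕ S
  let G : MvPolynomial σ (MvPolynomial τ A) := ∑ m : S, MvPolynomial.monomial m.1 (MvPolynomial.X (.inl m))
  let H : MvPolynomial σ (MvPolynomial τ A) := ∑ m : S, MvPolynomial.monomial m.1 (MvPolynomial.X (.inr m))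
  let I : Ideal (MvPolynomial τ A) :=
    Ideal.span (Set.range fun m => MvPolynomial.coeff m (G * H - MvPolynomial.map MvPolynomial.C f))
  have hG : ∀ {R : Type u} [CommRing R] [Algebra A R] (x : τ → R), (∀ p ∈ I, MvPolynomial.aeval x p = 0) →
      (∑ m : S, MvPolynomial.monomial m.1 (x (.inl m))) * (∑ m : S, MvPolynomial.monomial m.1 (x (.inr m))) =
        MvPolynomial.map (algebraMap A R) f := by
    intro R _ _ x hx
    let ψ := (MvPolynomial.aeval x : MvPolynomial τ A →ₐ[A] R).toRingHom
    rw [← exists_generic (A := A) S (fun m => (Sum.inl m : τ)) x, ← exists_generic (A := A) S (fun m => (Sum.inr m : τ)) x,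
      ← map_mul, ← sub_eq_zero]
    have h1 : MvPolynomial.map (algebraMap A R) f = MvPolynomial.map ψ (MvPolynomial.map MvPolynomial.C f) := by
      rw [MvPolynomial.map_map]
      exact congrArg (fun φ : A →+* R => MvPolynomial.map φ f) (RingHom.ext fun a => by simp [ψ])
    rw [h1, ← map_sub]
    ext m
    rw [MvPolynomial.coeff_map, MvPolynomial.coeff_zero]
    exact hx _ (Ideal.subset_span ⟨m, rfl⟩)
  have hdeg : ∀ {R : Type u} [CommRing R] (x : S → R),
      (∑ m : S, MvPolynomial.monomial m.1 (x m)).totalDegree ≤ d - 1 := by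
    intro R _ x
    refine (MvPolynomial.totalDegree_finset_sum _ _).trans (Finset.sup_le fun m _ => ?_)
    refine (MvPolynomial.totalDegree_monomial_le _ _).trans ?_
    exact ((Finsupp.finite_of_degree_le (σ := σ) (d - 1)).mem_toFinset.1 m.2)
  obtain ⟨a₀, ha₀, ha₀I⟩ : ∃ a₀ : A, a₀ ≠ 0 ∧ MvPolynomial.C a₀ ∈ I := by
    by_contra! h
    obtain ⟨x, hx⟩ := exists_eval_eq_zero k I fun a ha => by
      by_contra ha0
      exact h a ha0 ha
    have h1 := hG x hx
    have hne : MvPolynomial.map (algebraMap A k) f ≠ 0 := hf.ne_zero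
    rw [← h1] at hne
    obtain ⟨hg, hh⟩ := mul_ne_zero_iff.1 hne
    have h2 := MvPolynomial.totalDegree_mul_of_isDomain hg hh
    rw [h1, hdk] at h2
    have hb1 := hdeg (fun m => x (.inl m))
    have hb2 := hdeg (fun m => x (.inr m))
    rcases hf.isUnit_or_isUnit h1.symm with hu | hu
    · have := (MvPolynomial.isUnit_iff_totalDegree_of_isReduced.1 hu).2
      omega
    · have := (MvPolynomial.isUnit_iff_totalDegree_of_isReduced.1 hu).2
      omega
  refine ⟨a₀ * f.coeff m₀, mul_ne_zero ha₀ (MvPolynomial.mem_support_iff.1 hm₀), fun Ω _ _ ha => ?_⟩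
  rw [map_mul, mul_ne_zero_iff] at ha
  let fΩ := MvPolynomial.map (algebraMap A Ω) f
  have hsupp : m₀ ∈ fΩ.support := by
    rw [MvPolynomial.mem_support_iff, MvPolynomial.coeff_map]
    exact ha.2
  have hdΩ : fΩ.totalDegree = d := by
    refine le_antisymm (Finset.sup_mono (MvPolynomial.support_map_subset _ f)) ?_
    show f.totalDegree ≤ _
    rw [MvPolynomial.totalDegree, hm₀d]
    exact Finset.le_sup (f := fun m : σ →₀ ℕ => m.sum fun _ e => e) hsupp
  refine ⟨fun hu => ?_, fun g h hgh => ?_⟩
  · have : fΩ.totalDegree = 0 := (MvPolynomial.isUnit_iff_totalDegree_of_isReduced.1 hu).2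
    omega
  by_contra! hc
  have hne : g * h ≠ 0 := by
    rw [← hgh]
    intro h0
    simp [fΩ, h0] at hsupp
  obtain ⟨hg, hh⟩ := mul_ne_zero_iff.1 hne
  have h2 := MvPolynomial.totalDegree_mul_of_isDomain hg hh
  rw [← hgh, hdΩ] at h2
  have hpos : ∀ p : MvPolynomial σ Ω, p ≠ 0 → ¬IsUnit p → 1 ≤ p.totalDegree := by
    intro p hp hu
    by_contra h0
    refine hu (MvPolynomial.isUnit_iff_totalDegree_of_isReduced.2 ⟨?_, by omega⟩)
    refine isUnit_iff_ne_zero.2 fun hc => hp ?_
    rw [MvPolynomial.totalDegree_eq_zero_iff_eq_C.1 (by omega : p.totalDegree = 0), hc, map_zero]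
  have hg1 := hpos g hg hc.1
  have hh1 := hpos h hh hc.2
  have hrep : ∀ p : MvPolynomial σ Ω, p.totalDegree ≤ d - 1 →
      ∑ m : S, MvPolynomial.monomial m.1 (p.coeff m.1) = p := by
    intro p hp
    rw [Finset.sum_coe_sort S fun m => MvPolynomial.monomial m (p.coeff m)]
    conv_rhs => rw [p.as_sum]
    refine (Finset.sum_subset (fun m hm => ?_) fun m _ hm => ?_).symm
    · exact (Finsupp.finite_of_degree_le (σ := σ) (d - 1)).mem_toFinset.2
        ((MvPolynomial.le_totalDegree hm).trans hp)
    · rw [MvPolynomial.notMem_support_iff.1 hm, map_zero]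
  let x : τ → Ω := Sum.elim (fun m => g.coeff m.1) (fun m => h.coeff m.1)
  have hzero : ∀ p ∈ I, MvPolynomial.aeval x p = 0 := fun p hp => by
    refine RingHom.mem_ker.1 ((Ideal.span_le (I := RingHom.ker (MvPolynomial.aeval (R := A) x).toRingHom)).2 ?_ hp)
    rintro _ ⟨m, rfl⟩
    rw [SetLike.mem_coe, RingHom.mem_ker, ← MvPolynomial.coeff_map, map_sub, map_mul,
      exists_generic (A := A) S (fun m => (Sum.inl m : τ)) x, exists_generic (A := A) S (fun m => (Sum.inr m : τ)) x,
      MvPolynomial.map_map]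
    simp only [x, Sum.elim_inl, Sum.elim_inr]
    rw [hrep g (by omega), hrep h (by omega), show ((MvPolynomial.aeval (R := A) x).toRingHom.comp MvPolynomial.C) =
      algebraMap A Ω from by ext a; simp, ← hgh, sub_self, MvPolynomial.coeff_zero]
  have h0 := hzero _ ha₀I
  rw [MvPolynomial.aeval_C] at h0
  exact ha.1 h0

end Groth.Agent.GenIrredLib
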