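import Mathlib
import Groth.Agent.GenIrredLib.Poly
import Groth.Agent.GenIrredLib.Birational
import Groth.Agent.GenIrredLib.Descend

/-!
# Geometric integrality of the generic fibre of an algebra spreads out (EGA IV 9.7.7)
-/

set_option autoImplicit false
set_option linter.style.haveILetI false

open TensorProduct

universe u

namespace Groth.Agent.GenIrredLib

section BaseChange

variable {R : Type u} [CommRing R] (k : Type u) [CommRing k] [Algebra R k]

/-- Base change of a hypersurface. -/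
theorem exists_tensor_adjoinRoot {σ : Type u} (p : Polynomial (MvPolynomial σ R)) :
    ∃ u : k ⊗[R] AdjoinRoot p ≃ₐ[k] AdjoinRoot (p.map (MvPolynomial.map (algebraMap R k))),
      ∀ h : Polynomial (MvPolynomial σ R), u ((1 : k) ⊗ₜ[R] AdjoinRoot.mk p h) =
        AdjoinRoot.mk _ (h.map (MvPolynomial.map (algebraMap R k))) := by
  let ι : MvPolynomial σ R →ₐ[R] k ⊗[R] MvPolynomial σ R := Algebra.TensorProduct.includeRight
  let α : k ⊗[R] MvPolynomial σ R ≃ₐ[k] MvPolynomial σ k := MvPolynomial.algebraTensorAlgEquiv R k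
  have hα : ∀ x, α (ι x) = MvPolynomial.map (algebraMap R k) x := fun x => by
    simp [α, ι]
  have hq : Associated ((p.map ι.toRingHom).map (α : k ⊗[R] MvPolynomial σ R →+* MvPolynomial σ k))
      (p.map (MvPolynomial.map (algebraMap R k))) := by
    rw [Polynomial.map_map, show ((α : k ⊗[R] MvPolynomial σ R →+* MvPolynomial σ k).comp ι.toRingHom) =
      MvPolynomial.map (algebraMap R k) from RingHom.ext hα]
  let u := (AdjoinRoot.tensorAlgEquiv (T := k) (R := R) p (p.map ι.toRingHom) rfl).trans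
    (AdjoinRoot.mapAlgEquiv α _ _ hq)
  refine ⟨u, fun h => ?_⟩
  induction h using Polynomial.induction_on' with
  | add a b ha hb => simp only [map_add, TensorProduct.tmul_add, Polynomial.map_add, ha, hb]
  | monomial n a =>
    rw [← Polynomial.C_mul_X_pow_eq_monomial, Polynomial.map_mul, Polynomial.map_pow, Polynomial.map_C,
      Polynomial.map_X, map_mul, map_mul, map_pow, map_pow, AdjoinRoot.mk_C, AdjoinRoot.mk_C,
      AdjoinRoot.mk_X, AdjoinRoot.mk_X]
    have hmul : ∀ (x y : AdjoinRoot p), (1 : k) ⊗ₜ[R] (x * y) = ((1 : k) ⊗ₜ[R] x) * ((1 : k) ⊗ₜ[R] y) :=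
      fun x y => by simp
    have hpow : ∀ (x : AdjoinRoot p), (1 : k) ⊗ₜ[R] (x ^ n) = ((1 : k) ⊗ₜ[R] x) ^ n :=
      fun x => by simp
    rw [hmul, hpow, map_mul, map_pow]
    simp only [u, AlgEquiv.trans_apply]
    erw [AdjoinRoot.tensorAlgEquiv_of, AdjoinRoot.tensorAlgEquiv_root, AdjoinRoot.coe_mapAlgEquiv]
    rw [AdjoinRoot.map_of, AdjoinRoot.map_root]
    exact congrArg (fun t => AdjoinRoot.of _ t * AdjoinRoot.root _ ^ n) (hα a)

/-- Base change of a localization. -/
theorem nonempty_tensor_away {B : Type u} [CommRing B] [Algebra R B] (x : B) {B' : Type u} [CommRing B']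
    [Algebra k B'] (u : k ⊗[R] B ≃ₐ[k] B') (y : B') (hy : u ((1 : k) ⊗ₜ[R] x) = y) :
    Nonempty (k ⊗[R] Localization.Away x ≃ₐ[k] Localization.Away y) :=
  ⟨(IsLocalization.Away.tensorProductEquivTMulRight R k x (Localization.Away x)).trans
    (IsLocalization.algEquivOfAlgEquiv (M := Submonoid.powers ((1 : k) ⊗ₜ[R] x)) (T := Submonoid.powers y)
      (Localization.Away ((1 : k) ⊗ₜ[R] x)) (Localization.Away y) u (by
        rw [Submonoid.map_powers]
        exact congrArg Submonoid.powers hy))⟩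

end BaseChange

theorem optionEquivLeft_map {R R' : Type u} [CommRing R] [CommRing R'] (g : R →+* R') {σ : Type u}
    (F : MvPolynomial (Option σ) R) :
    MvPolynomial.optionEquivLeft R' σ (MvPolynomial.map g F) =
      (MvPolynomial.optionEquivLeft R σ F).map (MvPolynomial.map g) := by
  induction F using MvPolynomial.induction_on with
  | C r => simp [MvPolynomial.optionEquivLeft_C]
  | add a b ha hb => simp only [map_add, Polynomial.map_add, ha, hb]
  | mul_X a i ha =>
    cases i <;> simp [map_mul, ha, MvPolynomial.optionEquivLeft_X_some, MvPolynomial.optionEquivLeft_X_none]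

variable {A : Type u} [CommRing A] [IsDomain A]

/-- Integrality of the geometric generic fibre of a flat algebra spreads out. -/
theorem exists_integral_spread_flat (k : Type u) [Field k] [IsAlgClosed k] [Algebra A k] [FaithfulSMul A k]
    (S : Type u) [CommRing S] [Algebra A S] [Algebra.FiniteType A S] [Module.Flat A S]
    [IsDomain (k ⊗[A] S)] :
    ∃ a : A, a ≠ 0 ∧ ∀ (Ω : Type u) [Field Ω] [IsAlgClosed Ω] [Algebra A Ω], algebraMap A Ω a ≠ 0 →
      IsDomain (Ω ⊗[A] S) := by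
  classical
  obtain ⟨σ, hσ, f, c, g, hf, hfirr, hc, hg, ⟨e⟩⟩ := exists_birational_hypersurface k (k ⊗[A] S)
  obtain ⟨p, rfl⟩ := AdjoinRoot.mk_surjective c
  -- coefficients and the lift of `g` live in a finitely generated subalgebra
  obtain ⟨Ag, hAg, hgw⟩ := exists_fg_forall k (fun _ : Unit => g)
  let F : Finset k := f.support.biUnion (fun i => (f.coeff i).coeffs) ∪
    p.support.biUnion (fun i => (p.coeff i).coeffs)
  let A₁ : Subalgebra A k := Algebra.adjoin A (F : Set k) ⊔ Ag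
  have hA₁ : A₁.FG := (Subalgebra.fg_adjoin_finset (R := A) F).sup hAg
  have hlift : ∀ q : Polynomial (MvPolynomial σ k), (∀ i ∈ q.support, (q.coeff i).coeffs ⊆ F) →
      q ∈ Polynomial.lifts (MvPolynomial.map (σ := σ) (algebraMap A₁ k)) := by
    intro q hq
    rw [Polynomial.lifts_iff_coeff_lifts]
    intro i
    by_cases hi : i ∈ q.support
    · refine MvPolynomial.mem_range_map_iff_coeffs_subset.2 fun x hx => ?_
      exact ⟨⟨x, le_sup_left (b := Ag) (Algebra.subset_adjoin (hq i hi hx))⟩, rfl⟩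
    · rw [Polynomial.notMem_support_iff.1 hi]
      exact ⟨0, map_zero _⟩
  have hmem : ∀ (q : Polynomial (MvPolynomial σ k)), q = f ∨ q = p →
      q ∈ Polynomial.lifts (MvPolynomial.map (σ := σ) (algebraMap A₁ k)) := by
    intro q hq
    refine hlift q fun i hi x hx => ?_
    rcases hq with rfl | rfl
    · exact Finset.mem_union_left _ (Finset.mem_biUnion.2 ⟨i, hi, hx⟩)
    · exact Finset.mem_union_right _ (Finset.mem_biUnion.2 ⟨i, hi, hx⟩)
  obtain ⟨f', hf'⟩ := hmem f (.inl rfl)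
  obtain ⟨p', hp'⟩ := hmem p (.inr rfl)
  rw [Polynomial.coe_mapRingHom] at hf' hp'
  clear_value F
  clear hlift hmem
  subst hf'
  haveI : FaithfulSMul A₁ k := (faithfulSMul_iff_algebraMap_injective _ _).2 Subtype.val_injective
  have hinj : Function.Injective (MvPolynomial.map (σ := σ) (algebraMap A₁ k)) :=
    MvPolynomial.map_injective _ Subtype.val_injective
  have hf'mon : f'.Monic := Polynomial.monic_of_injective hinj hf
  haveI : Algebra.FiniteType A A₁ := (Subalgebra.fg_iff_finiteType A₁).1 hA₁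
  -- the two models over `A₁`
  haveI := hσ
  haveI : Module.Free (MvPolynomial σ A₁) (AdjoinRoot f') := hf'mon.free_adjoinRoot
  haveI : Module.Free A₁ (AdjoinRoot f') := Module.Free.trans (S := MvPolynomial σ A₁)
  let c' := AdjoinRoot.mk f' p'
  let Pc := Localization.Away c'
  haveI : Module.Flat (AdjoinRoot f') Pc := IsLocalization.flat Pc (Submonoid.powers c')
  haveI : Module.Flat A₁ Pc := Module.Flat.trans A₁ (AdjoinRoot f') Pc
  haveI : Algebra.FiniteType A₁ (AdjoinRoot f') :=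
    Algebra.FiniteType.trans (S := MvPolynomial σ A₁) inferInstance inferInstance
  haveI : Algebra.FinitePresentation (AdjoinRoot f') Pc := IsLocalization.Away.finitePresentation c'
  haveI : Algebra.FiniteType A₁ Pc := Algebra.FiniteType.trans (S := AdjoinRoot f') inferInstance inferInstance
  obtain ⟨wg, hwg⟩ := hgw ()
  let g' : A₁ ⊗[A] S := Algebra.TensorProduct.map (Subalgebra.inclusion (le_sup_right : Ag ≤ A₁)) (AlgHom.id A S) wg
  let Qg := Localization.Away g'
  haveI : Module.Flat (A₁ ⊗[A] S) Qg := IsLocalization.flat Qg (Submonoid.powers g')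
  haveI : Module.Flat A₁ Qg := Module.Flat.trans A₁ (A₁ ⊗[A] S) Qg
  haveI : Algebra.FinitePresentation (A₁ ⊗[A] S) Qg := IsLocalization.Away.finitePresentation g'
  haveI : Algebra.FiniteType A₁ Qg := Algebra.FiniteType.trans (S := A₁ ⊗[A] S) inferInstance inferInstance
  let u₂ : k ⊗[A₁] (A₁ ⊗[A] S) ≃ₐ[k] k ⊗[A] S := Algebra.TensorProduct.cancelBaseChange A A₁ k k S
  have hu₂ : u₂ ((1 : k) ⊗ₜ[A₁] g') = g := by
    rw [← hwg]
    show u₂ ((1 : k) ⊗ₜ[A₁] Algebra.TensorProduct.map _ _ wg) = _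
    clear hwg
    induction wg using TensorProduct.induction_on with
    | zero => simp
    | add x y hx hy => simp only [map_add, TensorProduct.tmul_add, hx, hy]
    | tmul r s => simp [u₂, Algebra.smul_def]
  obtain ⟨u₁, hu₁⟩ := exists_tensor_adjoinRoot k f'
  obtain ⟨e₁⟩ := nonempty_tensor_away k c' u₁ (AdjoinRoot.mk _ p) (by rw [hu₁, hp'])
  obtain ⟨e₂⟩ := nonempty_tensor_away k g' u₂ g hu₂
  obtain ⟨A₂, hA₂, hiso⟩ := exists_iso_spread (A := A₁) k (P := Pc) (Q := Qg) ((e₁.trans e).trans e₂.symm)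
  -- irreducibility of the equation and regularity of `g`
  let F' := (MvPolynomial.optionEquivLeft A₁ σ).symm f'
  have hFk : Irreducible (MvPolynomial.map (algebraMap A₁ k) F') := by
    rw [← MulEquiv.irreducible_iff (MvPolynomial.optionEquivLeft k σ), optionEquivLeft_map,
      AlgEquiv.apply_symm_apply]
    exact hfirr
  obtain ⟨a₁, ha₁, hF⟩ := exists_irreducible_spread k F' hFk
  have hg0 : ∀ z : k ⊗[A₁] (A₁ ⊗[A] S), ((1 : k) ⊗ₜ[A₁] g') * z = 0 → z = 0 := fun z hz => by
    have h1 := congrArg u₂ hz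
    rw [map_mul, hu₂, map_zero, mul_eq_zero] at h1
    exact u₂.injective ((h1.resolve_left hg).trans (map_zero u₂).symm)
  obtain ⟨a₂, ha₂, hreg⟩ := exists_regular_spread (A := A₁) k (A₁ ⊗[A] S) g' hg0
  haveI : Nontrivial (k ⊗[A₁] (A₁ ⊗[A] S)) := u₂.toRingEquiv.nontrivial
  -- a point of `A₂`
  haveI : Algebra.FiniteType A₁ A₂ := (Subalgebra.fg_iff_finiteType A₂).1 hA₂
  haveI : Algebra.FiniteType A A₂ := Algebra.FiniteType.trans (S := A₁) inferInstance inferInstance
  let A₂' : Subalgebra A k := A₂.restrictScalars A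
  have hA₂' : A₂'.FG := (Subalgebra.fg_iff_finiteType _).2 (inferInstanceAs (Algebra.FiniteType A A₂))
  let b : A₂' := (algebraMap A₁ A₂ (a₁ * a₂) : A₂)
  have hb : b ≠ 0 := fun h => mul_ne_zero ha₁ ha₂
    (Subtype.ext (congrArg (fun x : A₂' => (x : k)) h))
  obtain ⟨a, ha, hpt⟩ := exists_point A A₂' hA₂' b hb
  refine ⟨a, ha, fun Ω _ _ _ haΩ => ?_⟩
  obtain ⟨ψ, hψ⟩ := hpt Ω haΩ inferInstance
  let ψ₁ : A₁ →ₐ[A] Ω := ψ.comp (IsScalarTower.toAlgHom A A₁ A₂)
  letI : Algebra A₁ Ω := ψ₁.toRingHom.toAlgebra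
  haveI : IsScalarTower A A₁ Ω := .of_algebraMap_eq fun r => (ψ₁.commutes r).symm
  let ψ₂ : A₂ →ₐ[A₁] Ω := { toRingHom := ψ.toRingHom, commutes' := fun _ => rfl }
  have ha12 : algebraMap A₁ Ω (a₁ * a₂) ≠ 0 := hψ
  rw [map_mul, mul_ne_zero_iff] at ha12
  obtain ⟨eiso⟩ := hiso Ω ψ₂
  obtain ⟨hregΩ, hnt⟩ := hreg Ω ha12.2
  haveI : Nontrivial (Ω ⊗[A₁] (A₁ ⊗[A] S)) := hnt inferInstance
  obtain ⟨v₁, hv₁⟩ := exists_tensor_adjoinRoot Ω f'
  obtain ⟨d₁⟩ := nonempty_tensor_away Ω c' v₁ _ rfl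
  obtain ⟨d₂⟩ := nonempty_tensor_away (R := A₁) Ω g' (B' := Ω ⊗[A₁] (A₁ ⊗[A] S)) AlgEquiv.refl _ rfl
  let fΩ := f'.map (MvPolynomial.map (algebraMap A₁ Ω))
  have hfΩ : Irreducible fΩ := by
    have h1 := hF Ω ha12.1
    rw [← MulEquiv.irreducible_iff (MvPolynomial.optionEquivLeft Ω σ), optionEquivLeft_map,
      AlgEquiv.apply_symm_apply] at h1
    exact h1
  haveI : IsDomain (AdjoinRoot fΩ) :=
    AdjoinRoot.isDomain_of_prime (UniqueFactorizationMonoid.irreducible_iff_prime.1 hfΩ)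
  let gΩ : Ω ⊗[A₁] (A₁ ⊗[A] S) := (1 : Ω) ⊗ₜ[A₁] g'
  have hgnzd : Submonoid.powers gΩ ≤ nonZeroDivisors (Ω ⊗[A₁] (A₁ ⊗[A] S)) :=
    (Submonoid.powers_le (n := gΩ) (P := nonZeroDivisors (Ω ⊗[A₁] (A₁ ⊗[A] S)))).2 (mem_nonZeroDivisors_iff.2 ⟨fun z hz => hregΩ z hz, fun z hz => hregΩ z ((mul_comm _ _).trans hz)⟩)
  have hinjg : Function.Injective (algebraMap (Ω ⊗[A₁] (A₁ ⊗[A] S)) (Localization.Away gΩ)) :=
    IsLocalization.injective (Localization.Away gΩ) hgnzd
  haveI : Nontrivial (Localization.Away gΩ) := hinjg.nontrivial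
  let cΩ := v₁ ((1 : Ω) ⊗ₜ[A₁] c')
  let E : Localization.Away gΩ ≃+* Localization.Away cΩ :=
    d₂.symm.toRingEquiv.trans (eiso.symm.trans d₁.toRingEquiv)
  haveI : Nontrivial (Localization.Away cΩ) := E.symm.nontrivial
  have hc0 : cΩ ≠ 0 := fun h => by
    haveI := IsLocalization.subsingleton (S := Localization.Away cΩ) (M := Submonoid.powers cΩ)
      ⟨1, (pow_one cΩ).trans h⟩
    exact not_subsingleton (Localization.Away cΩ) inferInstance
  haveI : IsDomain (Localization.Away cΩ) :=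
    IsLocalization.isDomain_localization (powers_le_nonZeroDivisors_of_noZeroDivisors hc0)
  haveI : IsDomain (Localization.Away gΩ) := E.toMulEquiv.isDomain _
  haveI : IsDomain (Ω ⊗[A₁] (A₁ ⊗[A] S)) := hinjg.isDomain _
  exact (Algebra.TensorProduct.cancelBaseChange A A₁ Ω Ω S).symm.toRingEquiv.toMulEquiv.isDomain _

/-- Integrality of the geometric generic fibre of an algebra of finite type spreads out. -/
theorem exists_integral_spread (k : Type u) [Field k] [IsAlgClosed k] [Algebra A k] [FaithfulSMul A k]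
    (S : Type u) [CommRing S] [Algebra A S] [Algebra.FiniteType A S] [IsDomain (k ⊗[A] S)] :
    ∃ a : A, a ≠ 0 ∧ ∀ (Ω : Type u) [Field Ω] [IsAlgClosed Ω] [Algebra A Ω], algebraMap A Ω a ≠ 0 →
      IsDomain (Ω ⊗[A] S) := by
  obtain ⟨a₀, -, ha₀, hfree, -⟩ := GenFree.exists_algebra (R := A) (S := S) (g := 1) one_ne_zero
  let Af := Localization.Away a₀
  haveI : Module.Free Af (Af ⊗[A] S) := hfree
  have hpow : Submonoid.powers a₀ ≤ nonZeroDivisors A := powers_le_nonZeroDivisors_of_noZeroDivisors ha₀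
  haveI : IsDomain Af := IsLocalization.isDomain_localization hpow
  have hak : algebraMap A k a₀ ≠ 0 := fun h =>
    ha₀ (FaithfulSMul.algebraMap_injective A k (h.trans (map_zero _).symm))
  letI : Algebra Af k := (IsLocalization.Away.lift a₀ (Ne.isUnit hak)).toAlgebra
  haveI : IsScalarTower A Af k := .of_algebraMap_eq fun r => (IsLocalization.Away.lift_eq _ _ r).symm
  haveI : FaithfulSMul Af k := by
    refine (faithfulSMul_iff_algebraMap_injective _ _).2 ((injective_iff_map_eq_zero _).2 fun z hz => ?_)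
    obtain ⟨⟨b, t⟩, hb⟩ := IsLocalization.surj (Submonoid.powers a₀) z
    have h1 := congrArg (algebraMap Af k) hb
    rw [map_mul, hz, zero_mul, ← IsScalarTower.algebraMap_apply] at h1
    rw [show b = 0 from FaithfulSMul.algebraMap_injective A k (h1.symm.trans (map_zero _).symm), map_zero] at hb
    exact (IsUnit.mul_left_eq_zero (IsLocalization.map_units _ t)).1 hb
  haveI : IsDomain (k ⊗[Af] (Af ⊗[A] S)) :=
    (Algebra.TensorProduct.cancelBaseChange A Af k k S).toRingEquiv.toMulEquiv.isDomain _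
  obtain ⟨a', ha', H⟩ := exists_integral_spread_flat (A := Af) k (Af ⊗[A] S)
  obtain ⟨⟨b, t⟩, hb⟩ := IsLocalization.surj (Submonoid.powers a₀) a'
  have hb0 : b ≠ 0 := fun h => ha' (by
    rw [h, map_zero] at hb
    exact (IsUnit.mul_left_eq_zero (IsLocalization.map_units _ t)).1 hb)
  refine ⟨a₀ * b, mul_ne_zero ha₀ hb0, fun Ω _ _ _ haΩ => ?_⟩
  rw [map_mul, mul_ne_zero_iff] at haΩ
  letI : Algebra Af Ω := (IsLocalization.Away.lift a₀ (Ne.isUnit haΩ.1)).toAlgebra
  haveI : IsScalarTower A Af Ω := .of_algebraMap_eq fun r => (IsLocalization.Away.lift_eq _ _ r).symm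
  have h1 : algebraMap Af Ω a' ≠ 0 := fun h => by
    have h2 := congrArg (algebraMap Af Ω) hb
    rw [map_mul, h, zero_mul, ← IsScalarTower.algebraMap_apply] at h2
    exact haΩ.2 h2.symm
  haveI := H Ω h1
  exact (Algebra.TensorProduct.cancelBaseChange A Af Ω Ω S).symm.toRingEquiv.toMulEquiv.isDomain _

end Groth.Agent.GenIrredLib
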