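import Mathlib
import Groth.Prelude.Def_MoreMor
import Groth.Agent.GeomIrred.Scheme

/-!
# Numbers of geometric components
-/

set_option autoImplicit false
set_option linter.style.haveILetI false

universe u

open CategoryTheory CategoryTheory.Limits AlgebraicGeometry

namespace Groth.Agent.GenIrredLib

/-- The number of irreducible components and the number of connected components. -/
noncomputable def counts (T : Type*) [TopologicalSpace T] : ℕ∞ × ℕ∞ :=
  ((irreducibleComponents T).encard, ENat.card (ConnectedComponents T))

theorem counts_congr {S T : Type u} [TopologicalSpace S] [TopologicalSpace T] (e : S ≃ₜ T) :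
    counts S = counts T := by
  refine Prod.ext ?_ ?_
  · exact ENat.card_congr
      (irreducibleComponentsEquivOfIsPreirreducibleFiber e e.continuous e.isOpenMap
        (fun x => (Set.subsingleton_singleton.preimage e.injective).isPreirreducible) e.surjective).symm.toEquiv
  · exact ENat.card_congr (e.isQuotientMap.isCoinducing.connectedComponentsHomeomorph fun x => by
      rw [← e.apply_symm_apply x, ← Set.image_singleton, e.injective.preimage_image]
      exact isConnected_singleton).toEquiv

/-- An extension of a separably closed field does not change the numbers of components. -/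
theorem counts_pullback_field (K L : Type u) [Field K] [Field L] [Algebra K L] [IsSepClosed K]
    {X : Scheme.{u}} (p : X ⟶ Spec (CommRingCat.of K)) :
    counts ↥(pullback p (Spec.map (CommRingCat.ofHom (algebraMap K L)))) = counts ↥X := by
  haveI : Nonempty ↥(Spec (CommRingCat.of K)) := inferInstanceAs (Nonempty (PrimeSpectrum K))
  haveI := GeomIrred.geometricallyIrreducible_field (k := K) L
  haveI := GeomIrred.geometricallyConnected_of_geometricallyIrreducible
    (Spec.map (CommRingCat.ofHom (algebraMap K L)))
  let π := pullback.fst p (Spec.map (CommRingCat.ofHom (algebraMap K L)))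
  haveI : GeometricallyIrreducible π :=
    MorphismProperty.pullback_fst p _ (inferInstance : GeometricallyIrreducible (Spec.map _))
  haveI : GeometricallyConnected π :=
    MorphismProperty.pullback_fst p _ (inferInstance : GeometricallyConnected (Spec.map _))
  haveI : UniversallyOpen (Spec.map (CommRingCat.ofHom (algebraMap K L))) := inferInstance
  haveI : UniversallyOpen π := inferInstance
  refine Prod.ext ?_ ?_
  · exact ENat.card_congr (π.irreducibleComponentsEquiv π.isOpenMap)
  · exact ENat.card_congr (π.connectedComponentsHomeomorph π.isOpenMap).toEquiv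

variable {X Y : Scheme.{u}} (f : X ⟶ Y)

/-- The numbers of geometric components of a fibre may be computed over any separably closed field. -/
theorem counts_eq_nGeom (L : Type u) [Field L] [IsSepClosed L] (z : Spec (CommRingCat.of L) ⟶ Y)
    (y : Y) (hy : z (IsLocalRing.closedPoint L) = y) :
    counts ↥(pullback f z) = (MoreMor.nGeomIrredComp f y, MoreMor.nGeomConnComp f y) := by
  obtain ⟨⟨y', φ⟩, rfl⟩ := (Scheme.SpecToEquivOfField L Y).symm.surjective z
  obtain rfl : y' = y := by
    rw [← hy]
    show y' = Y.fromSpecResidueField y' (Spec.map φ (IsLocalRing.closedPoint L))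
    rw [Scheme.fromSpecResidueField_apply]
  let K := SeparableClosure (Y.residueField y')
  letI : Algebra (Y.residueField y') L := φ.hom.toAlgebra
  let ε : K →ₐ[Y.residueField y'] L := IsSepClosed.lift
  letI : Algebra K L := ε.toRingHom.toAlgebra
  let s := Spec.map (CommRingCat.ofHom (algebraMap (Y.residueField y') K))
  let t := Spec.map (CommRingCat.ofHom (algebraMap K L))
  have hfac : t ≫ s = Spec.map φ := by
    rw [← Spec.map_comp]
    congr 1
    ext x
    exact ε.commutes x
  let p := pullback.snd (pullback.snd f (Y.fromSpecResidueField y')) s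
  have e : pullback p t ≅ pullback f ((Scheme.SpecToEquivOfField L Y).symm ⟨y', φ⟩) :=
    pullbackLeftPullbackSndIso (pullback.snd f (Y.fromSpecResidueField y')) s t ≪≫
      pullback.congrHom rfl hfac ≪≫ pullbackLeftPullbackSndIso f (Y.fromSpecResidueField y') (Spec.map φ)
  rw [← counts_congr e.hom.homeomorph, counts_pullback_field K L p]
  rfl

theorem counts_pullback_baseChange {X' Y' : Scheme.{u}} (f' : X' ⟶ Y') (g' : X' ⟶ X) (g : Y' ⟶ Y)
    (hc : IsPullback g' f' f g) {T : Scheme.{u}} (z : T ⟶ Y') :
    counts ↥(pullback f' z) = counts ↥(pullback f (z ≫ g)) :=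
  counts_congr ((IsPullback.of_hasPullback f' z).paste_horiz hc).isoPullback.hom.homeomorph

theorem exists_sepClosed_hom (κ : Type u) [Field κ] :
    ∃ (L : Type u) (_ : Field L) (_ : IsSepClosed L), Nonempty (κ →+* L) :=
  ⟨AlgebraicClosure κ, inferInstance, inferInstance, ⟨algebraMap κ _⟩⟩

theorem exists_point_over {Y' : Scheme.{u}} (y' : Y') :
    ∃ (L : Type u) (_ : Field L) (_ : IsSepClosed L) (z : Spec (CommRingCat.of L) ⟶ Y'),
      z (IsLocalRing.closedPoint L) = y' := by
  obtain ⟨L, hL, hsep, ⟨φ⟩⟩ := exists_sepClosed_hom (Y'.residueField y' : Type u)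
  refine ⟨L, hL, hsep, Spec.map (CommRingCat.ofHom φ) ≫ Y'.fromSpecResidueField y', ?_⟩
  rw [Scheme.Hom.comp_apply]
  exact Scheme.fromSpecResidueField_apply _ _

/-- The numbers of geometric components are compatible with base change. -/
theorem nGeom_baseChange {X' Y' : Scheme.{u}} (f' : X' ⟶ Y') (g' : X' ⟶ X) (g : Y' ⟶ Y)
    (hc : IsPullback g' f' f g) (y' : Y') :
    (MoreMor.nGeomIrredComp f' y', MoreMor.nGeomConnComp f' y') =
      (MoreMor.nGeomIrredComp f (g y'), MoreMor.nGeomConnComp f (g y')) := by
  obtain ⟨L, hL, hsep, z, hz⟩ := exists_point_over y'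
  have hzg : (z ≫ g) (IsLocalRing.closedPoint L) = g y' := congrArg g hz
  exact (counts_eq_nGeom f' L z y' hz).symm.trans
    ((counts_pullback_baseChange f f' g' g hc z).trans (counts_eq_nGeom f L (z ≫ g) (g y') hzg))

end Groth.Agent.GenIrredLib
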