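import Mathlib
import Groth.Agent.GenIrredLib.Counts
import Groth.Agent.NearGen.Top

/-!
# Counting components by pieces, and constancy of nonemptiness of locally closed traces
-/

set_option autoImplicit false
set_option linter.style.haveILetI false

universe u

open CategoryTheory CategoryTheory.Limits AlgebraicGeometry Topology

namespace Groth.Agent.GenIrredLib

section Topology

variable {T : Type*} [TopologicalSpace T] {P : Type*} [Finite P]

/-- Components of a space glued from finitely many irreducible pieces with open cores are read off from the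
incidences of the pieces. -/
theorem counts_eq_of_pieces (Z V : P → Set T) (hV : ∀ p, IsOpen (V p)) (hne : ∀ p, (V p).Nonempty)
    (hVZ : ∀ p, V p ⊆ Z p) (hirr : ∀ p, IsPreirreducible (Z p))
    (hnbhd : ∀ x, ∃ N ∈ 𝓝 x, ∀ y ∈ N, ∃ p, x ∈ Z p ∧ y ∈ Z p) :
    counts T = (ENat.card (Quot fun p q => (V p ∩ V q).Nonempty),
      ENat.card (Quot fun p q => (Z p ∩ Z q).Nonempty)) := by
  classical
  have hcov : ∀ x, ∃ p, x ∈ Z p := fun x => by
    obtain ⟨N, hN, h⟩ := hnbhd x
    obtain ⟨p, hp, -⟩ := h x (mem_of_mem_nhds hN)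
    exact ⟨p, hp⟩
  let C : P → Set T := fun p => closure (V p)
  have hZC : ∀ p, Z p ⊆ C p := fun p =>
    (subset_closure_inter_of_isPreirreducible_of_isOpen (hirr p) (hV p)
      ((hne p).mono fun x hx => ⟨hVZ p hx, hx⟩)).trans (closure_mono Set.inter_subset_right)
  have hCirr : ∀ p, IsIrreducible (C p) := fun p => by
    rw [show C p = closure (Z p) from subset_antisymm (closure_mono (hVZ p)) (closure_minimal (hZC p) isClosed_closure)]
    exact (show IsIrreducible (Z p) from ⟨(hne p).mono (hVZ p), hirr p⟩).closure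
  have hle : ∀ p q, (V p ∩ V q).Nonempty → C p ⊆ C q := fun p q hpq => by
    refine closure_minimal ((hVZ p).trans ?_) isClosed_closure
    refine (subset_closure_inter_of_isPreirreducible_of_isOpen (hirr p) ((hV p).inter (hV q))
      (hpq.mono fun x hx => ⟨hVZ p hx.1, hx⟩)).trans (closure_mono fun x hx => hx.2.2)
  have heq : ∀ p q, (V p ∩ V q).Nonempty → C p = C q := fun p q hpq =>
    subset_antisymm (hle p q hpq) (hle q p (by rwa [Set.inter_comm] at hpq))
  have hmax : ∀ W : Set T, IsIrreducible W → ∃ p, W ⊆ C p := fun W hW => by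
    obtain ⟨_, hp, hWp⟩ := isIrreducible_iff_sUnion_isClosed.1 hW (Set.finite_range C).toFinset
      (fun z hz => by
        obtain ⟨p, rfl⟩ := (Set.finite_range C).mem_toFinset.1 hz
        exact isClosed_closure)
      (fun x _ => by
        obtain ⟨p, hp⟩ := hcov x
        exact Set.mem_sUnion.2 ⟨C p, (Set.finite_range C).mem_toFinset.2 ⟨p, rfl⟩, hZC p hp⟩)
    obtain ⟨p, rfl⟩ := (Set.finite_range C).mem_toFinset.1 hp
    exact ⟨p, hWp⟩
  have hmeet : ∀ p q, V p ⊆ C q → (V p ∩ V q).Nonempty := fun p q h => by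
    obtain ⟨x, hx⟩ := hne p
    exact mem_closure_iff.1 (h hx) (V p) (hV p) hx
  have hcomp : ∀ p, C p ∈ irreducibleComponents T := fun p => by
    refine ⟨hCirr p, fun W hW hpW => ?_⟩
    obtain ⟨q, hq⟩ := hmax W hW
    exact hq.trans (heq p q (hmeet p q ((subset_closure.trans hpW).trans hq))).ge
  let π : Quot (fun p q => (V p ∩ V q).Nonempty) → irreducibleComponents T :=
    Quot.lift (fun p => ⟨C p, hcomp p⟩) fun p q hpq => Subtype.ext (heq p q hpq)
  have hπ : Function.Bijective π := by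
    constructor
    · intro a b hab
      induction a using Quot.ind with
      | mk p =>
        induction b using Quot.ind with
        | mk q => exact Quot.sound (hmeet p q (subset_closure.trans (congrArg Subtype.val hab).subset))
    · rintro ⟨W, hW⟩
      obtain ⟨q, hq⟩ := hmax W hW.1
      exact ⟨Quot.mk _ q, Subtype.ext (subset_antisymm (hW.2 (hCirr q) hq) hq)⟩
  -- connected components
  let R := fun p q => (Z p ∩ Z q).Nonempty
  let g : T → Quot R := fun x => Quot.mk R (hcov x).choose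
  have hg : ∀ x p, x ∈ Z p → g x = Quot.mk R p := fun x p hp =>
    Quot.sound ⟨x, (hcov x).choose_spec, hp⟩
  have hgc : IsLocallyConstant g := (IsLocallyConstant.iff_eventually_eq g).2 fun x => by
    obtain ⟨N, hN, h⟩ := hnbhd x
    filter_upwards [hN] with y hy
    obtain ⟨p, hxp, hyp⟩ := h y hy
    rw [hg x p hxp, hg y p hyp]
  let κ : Quot R → ConnectedComponents T :=
    Quot.lift (fun p => ((hne p).choose : ConnectedComponents T)) fun p q ⟨x, hxp, hxq⟩ => by
      refine ConnectedComponents.coe_eq_coe.2 ((connectedComponent_eq (y := x) ?_).trans (connectedComponent_eq (y := x) ?_).symm)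
      · exact (hirr p).isPreconnected.subset_connectedComponent (hVZ p (hne p).choose_spec) hxp
      · exact (hirr q).isPreconnected.subset_connectedComponent (hVZ q (hne q).choose_spec) hxq
  have hκ : Function.Bijective κ := by
    constructor
    · intro a b hab
      induction a using Quot.ind with
      | mk p =>
        induction b using Quot.ind with
        | mk q =>
          have h1 := hgc.apply_eq_of_isPreconnected isPreconnected_connectedComponent
            (mem_connectedComponent (x := (hne p).choose))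
            ((ConnectedComponents.coe_eq_coe.1 hab).ge mem_connectedComponent)
          rwa [hg _ p (hVZ p (hne p).choose_spec), hg _ q (hVZ q (hne q).choose_spec)] at h1
    · intro c
      obtain ⟨x, rfl⟩ := ConnectedComponents.surjective_coe c
      obtain ⟨p, hp⟩ := hcov x
      refine ⟨Quot.mk _ p, ConnectedComponents.coe_eq_coe.2 (connectedComponent_eq ?_)⟩
      exact (hirr p).isPreconnected.subset_connectedComponent (hVZ p (hne p).choose_spec) hp
  exact Prod.ext (ENat.card_congr (Equiv.ofBijective π hπ)).symm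
    (ENat.card_congr (Equiv.ofBijective κ hκ)).symm

end Topology

section Scheme

variable {X Y : Scheme.{u}} (f : X ⟶ Y) [IrreducibleSpace Y] [LocallyOfFiniteType f]

/-- A locally closed set missing the generic fibre misses the nearby fibres. -/
theorem exists_disjoint_locallyClosed [QuasiCompact f] (O Z : Set X) (hO : IsOpen O) (hZ : IsClosed Z)
    (h : ∀ x, f x = genericPoint Y → x ∉ O ∩ Z) :
    ∃ V : Y.Opens, genericPoint Y ∈ V ∧ ∀ x : X, f x ∈ V → x ∉ O ∩ Z := by
  refine NearGen.exists_nbhd f _ fun U hU W hW e p₀ hp₀ hmin => ?_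
  algebraize [(f.appLE U W e).hom]
  haveI : Algebra.FiniteType Γ(Y, U) Γ(X, W) := NearGen.finiteType_appLE f hU hW e
  obtain ⟨I, hI⟩ := (PrimeSpectrum.isClosed_iff_zeroLocus_ideal _).1 (hZ.preimage hW.fromSpec.continuous)
  obtain ⟨J, hJ⟩ := (PrimeSpectrum.isClosed_iff_zeroLocus_ideal _).1 (hO.isClosed_compl.preimage hW.fromSpec.continuous)
  let π := Ideal.Quotient.mk I
  obtain ⟨r, hr, H⟩ := NearGen.exists_le p₀.asIdeal hmin (J.map π) fun q hq hq0 => by
    haveI := hq
    refine Ideal.map_le_iff_le_comap.2 ?_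
    let q₁ : PrimeSpectrum Γ(X, W) := ⟨q.comap π, Ideal.comap_isPrime _ _⟩
    have hIq : hW.fromSpec q₁ ∈ Z := hI.ge (show I ≤ q₁.asIdeal from fun x hx => by
      show π x ∈ q
      rw [Ideal.Quotient.eq_zero_iff_mem.2 hx]
      exact q.zero_mem)
    have hn := h (hW.fromSpec q₁) (by
      rw [NearGen.apply_fromSpec f hU hW e, ← hp₀]
      congr 1
      exact PrimeSpectrum.ext (hq0 ▸ rfl))
    exact hJ.le (show q₁ ∈ hW.fromSpec ⁻¹' Oᶜ from fun hc => hn ⟨hc, hIq⟩)
  refine ⟨r, hr, fun q hq hqOZ => ?_⟩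
  have hIq : I ≤ q.asIdeal := hI.le hqOZ.2
  let q' : Ideal (Γ(X, W) ⧸ I) := q.asIdeal.map π
  haveI : q'.IsPrime := Ideal.map_isPrime_of_surjective Ideal.Quotient.mk_surjective (by rwa [Ideal.mk_ker])
  have hc : q'.comap π = q.asIdeal := by
    rw [Ideal.comap_map_of_surjective' _ Ideal.Quotient.mk_surjective, Ideal.mk_ker, sup_eq_left.2 hIq]
  have hle := H q' inferInstance (fun hh => hq (show _ ∈ q.asIdeal from hc ▸ hh))
  rw [Ideal.map_le_iff_le_comap, hc] at hle
  exact hJ.ge hle hqOZ.1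

/-- A locally closed set meeting the generic fibre meets the nearby fibres. -/
theorem exists_nonempty_locallyClosed (O Z : Set X) (hO : IsOpen O) (hZ : IsClosed Z) (x : X)
    (hx : f x = genericPoint Y) (hxO : x ∈ O ∩ Z) :
    ∃ V : Y.Opens, genericPoint Y ∈ V ∧ ∀ y ∈ V, ∃ x' ∈ O ∩ Z, f x' = y := by
  obtain ⟨U, hU, hη, -⟩ := exists_isAffineOpen_mem_and_subset (X := Y) (x := genericPoint Y) (U := ⊤) trivial
  obtain ⟨p₀, hp₀, hmin⟩ := NearGen.exists_generic_prime hU hη
  obtain ⟨W, hW, hxW, e⟩ := exists_isAffineOpen_mem_and_subset (X := X) (x := x) (U := f ⁻¹ᵁ U)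
    (show f x ∈ U from hx ▸ hη)
  algebraize [(f.appLE U W e).hom]
  haveI : Algebra.FiniteType Γ(Y, U) Γ(X, W) := NearGen.finiteType_appLE f hU hW e
  obtain ⟨I, hI⟩ := (PrimeSpectrum.isClosed_iff_zeroLocus_ideal _).1 (hZ.preimage hW.fromSpec.continuous)
  obtain ⟨q₀, hq₀⟩ := hW.range_fromSpec.ge hxW
  have hIq : I ≤ q₀.asIdeal := hI.le (show hW.fromSpec q₀ ∈ Z from hq₀ ▸ hxO.2)
  obtain ⟨_, ⟨b, rfl⟩, hb, hbO⟩ := PrimeSpectrum.isTopologicalBasis_basic_opens.exists_subset_of_mem_open
    (show q₀ ∈ hW.fromSpec ⁻¹' O by rw [Set.mem_preimage, hq₀]; exact hxO.1) (hO.preimage hW.fromSpec.continuous)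
  let π := Ideal.Quotient.mk I
  let q' : Ideal (Γ(X, W) ⧸ I) := q₀.asIdeal.map π
  haveI : q'.IsPrime := Ideal.map_isPrime_of_surjective Ideal.Quotient.mk_surjective (by rwa [Ideal.mk_ker])
  have hc : q'.comap π = q₀.asIdeal := by
    rw [Ideal.comap_map_of_surjective' _ Ideal.Quotient.mk_surjective, Ideal.mk_ker, sup_eq_left.2 hIq]
  have hq₀p : q₀.asIdeal.under Γ(Y, U) = p₀.asIdeal := by
    have h1 := NearGen.apply_fromSpec f hU hW e q₀
    rw [hq₀, hx, ← hp₀] at h1
    exact congrArg PrimeSpectrum.asIdeal (hU.fromSpec.isOpenEmbedding.injective h1).symm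
  obtain ⟨r, hr, H⟩ := NearGen.exists_notMem p₀.asIdeal hmin (π b) q'
    (by rw [← hq₀p, ← hc]; rfl) (fun hh => hb (hc ▸ hh : b ∈ q₀.asIdeal))
  refine ⟨Y.basicOpen r, hp₀ ▸ (NearGen.mem_basicOpen_iff hU p₀ r).2 hr, fun y hy => ?_⟩
  obtain ⟨p, rfl⟩ := hU.range_fromSpec.ge (Y.basicOpen_le _ hy)
  obtain ⟨q, hq, hqp, hbq⟩ := H p.asIdeal p.isPrime ((NearGen.mem_basicOpen_iff hU p r).1 hy)
  haveI := hq
  let q₁ : PrimeSpectrum Γ(X, W) := ⟨q.comap π, Ideal.comap_isPrime _ _⟩
  refine ⟨hW.fromSpec q₁, ⟨hbO (show q₁ ∈ PrimeSpectrum.basicOpen b from hbq),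
    hI.ge (show I ≤ q₁.asIdeal from fun z hz => by
      show π z ∈ q
      rw [Ideal.Quotient.eq_zero_iff_mem.2 hz]
      exact q.zero_mem)⟩, ?_⟩
  rw [NearGen.apply_fromSpec f hU hW e]
  congr 1
  exact PrimeSpectrum.ext (hqp ▸ rfl)

/-- Whether the trace of a locally closed set on a fibre is empty is constant near the generic point. -/
theorem exists_iff_of_locallyClosed [QuasiCompact f] {S : Set X} (hS : IsLocallyClosed S) :
    ∃ V : Y.Opens, genericPoint Y ∈ V ∧ ∀ y ∈ V,
      ((∃ x ∈ S, f x = y) ↔ ∃ x ∈ S, f x = genericPoint Y) := by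
  obtain ⟨O, Z, hO, hZ, rfl⟩ := hS
  by_cases h : ∃ x ∈ O ∩ Z, f x = genericPoint Y
  · obtain ⟨x, hx, hfx⟩ := h
    obtain ⟨V, hV, H⟩ := exists_nonempty_locallyClosed f O Z hO hZ x hfx hx
    exact ⟨V, hV, fun y hy => ⟨fun _ => ⟨x, hx, hfx⟩, fun _ => H y hy⟩⟩
  · obtain ⟨V, hV, H⟩ := exists_disjoint_locallyClosed f O Z hO hZ fun x hx hxS => h ⟨x, hxS, hx⟩
    exact ⟨V, hV, fun y hy => ⟨fun ⟨x, hxS, hx⟩ => absurd hxS (H x (hx ▸ hy)), fun hh => absurd hh h⟩⟩

/-- Finitely many locally closed sets at once. -/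
theorem exists_iff_of_locallyClosed_family [QuasiCompact f] {ι : Type*} [Finite ι] (S : ι → Set X)
    (hS : ∀ i, IsLocallyClosed (S i)) :
    ∃ V : Y.Opens, genericPoint Y ∈ V ∧ ∀ i, ∀ y ∈ V,
      ((∃ x ∈ S i, f x = y) ↔ ∃ x ∈ S i, f x = genericPoint Y) := by
  choose V hV H using fun i => exists_iff_of_locallyClosed f (hS i)
  refine ⟨⟨⋂ i, (V i : Set Y), isOpen_iInter_of_finite fun i => (V i).2⟩, Set.mem_iInter.2 hV,
    fun i y hy => H i y (Set.mem_iInter.1 hy i)⟩

end Scheme

end Groth.Agent.GenIrredLib
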