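import Mathlib
import Groth.Agent.GenIrredLib.Pieces
import Groth.Agent.GenIrredLib.Chart
import Groth.Agent.GenIrredLib.Integral

/-!
# The numbers of geometric components are constant near the generic point: the split case
-/

set_option autoImplicit false
set_option linter.style.haveILetI false

universe u

open CategoryTheory CategoryTheory.Limits AlgebraicGeometry TensorProduct Topology

namespace Groth.Agent.GenIrredLib

/-- If the quotient base changes to a domain, the extended ideal is prime. -/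
theorem isPrime_map_of_isDomain {A : Type u} [CommRing A] (R : Type u) [CommRing R] [Algebra A R] {B : Type u}
    [CommRing B] [Algebra A B] (I : Ideal B) [IsDomain (R ⊗[A] (B ⧸ I))] :
    (I.map (Algebra.TensorProduct.includeRight : B →ₐ[A] R ⊗[A] B)).IsPrime := by
  have h := Algebra.TensorProduct.lTensor_ker (A := R) (Ideal.Quotient.mkₐ A I) Ideal.Quotient.mk_surjective
  rw [show RingHom.ker (Ideal.Quotient.mkₐ A I) = I from Ideal.mk_ker] at h
  rw [← h]
  exact RingHom.ker_isPrime _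

/-- The split case: the irreducible components of the geometric generic fibre are cut out in affine charts by
given ideals. -/
theorem exists_counts_const_core {A : Type u} [CommRing A] [IsDomain A] {X : Scheme.{u}}
    (f : X ⟶ Spec (CommRingCat.of A)) [LocallyOfFiniteType f] [QuasiCompact f]
    (k : Type u) [Field k] [IsAlgClosed k] [Algebra A k] [FaithfulSMul A k]
    {J : Type u} [Finite J] (B : J → Type u) [∀ j, CommRing (B j)] [∀ j, Algebra A (B j)]
    [∀ j, Algebra.FiniteType A (B j)] (ι : ∀ j, Spec (CommRingCat.of (B j)) ⟶ X) [∀ j, IsOpenImmersion (ι j)]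
    (hι : ∀ j, ι j ≫ f = Spec.map (CommRingCat.ofHom (algebraMap A (B j))))
    (hcov : ∀ x : X, ∃ j, x ∈ Set.range (ι j))
    (P : J → Type u) [∀ j, Finite (P j)] (I : ∀ j, P j → Ideal (B j))
    [∀ j i, IsDomain (k ⊗[A] (B j ⧸ I j i))]
    (hk : ∀ j, ∀ Q : Ideal (k ⊗[A] B j), Q.IsPrime →
      ∃ i, I j i ≤ Q.comap (Algebra.TensorProduct.includeRight : B j →ₐ[A] k ⊗[A] B j))
    (hgen : ∀ j i, ∃ Q : Ideal (k ⊗[A] B j), Q.IsPrime ∧ ∀ i', i' ≠ i →
      ¬ I j i' ≤ Q.comap (Algebra.TensorProduct.includeRight : B j →ₐ[A] k ⊗[A] B j)) :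
    ∃ a : A, a ≠ 0 ∧ ∀ (Ω : Type u) [Field Ω] [IsAlgClosed Ω] [Algebra A Ω], algebraMap A Ω a ≠ 0 →
      counts ↥(pullback f (Spec.map (CommRingCat.ofHom (algebraMap A Ω)))) =
        counts ↥(pullback f (Spec.map (CommRingCat.ofHom (algebraMap A k)))) := by
  classical
  let w : ∀ (R : Type u) [CommRing R] [Algebra A R], Spec (CommRingCat.of R) ⟶ Spec (CommRingCat.of A) :=
    fun R _ _ => Spec.map (CommRingCat.ofHom (algebraMap A R))
  let Pt := Σ j, P j
  let oth : ∀ p : Pt, Set (PrimeSpectrum (B p.1)) := fun p =>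
    ⋃ i' : {i' // i' ≠ p.2}, PrimeSpectrum.zeroLocus (I p.1 i'.1 : Set (B p.1))
  let all : ∀ j, Set (PrimeSpectrum (B j)) := fun j => ⋃ i, PrimeSpectrum.zeroLocus (I j i : Set (B j))
  let Zs : Pt → Set X := fun p => ι p.1 '' PrimeSpectrum.zeroLocus (I p.1 p.2 : Set (B p.1))
  let Vs : Pt → Set X := fun p => ι p.1 '' (oth p)ᶜ
  let Us : J → Set X := fun j => ι j '' (all j)ᶜ
  have hoth : ∀ p, IsClosed (oth p) := fun p => isClosed_iUnion_of_finite fun i => PrimeSpectrum.isClosed_zeroLocus _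
  have hall : ∀ j, IsClosed (all j) := fun j => isClosed_iUnion_of_finite fun i => PrimeSpectrum.isClosed_zeroLocus _
  have hVo : ∀ p, IsOpen (Vs p) := fun p => (ι p.1).isOpenEmbedding.isOpenMap _ (hoth p).isOpen_compl
  have hUo : ∀ j, IsOpen (Us j) := fun j => (ι j).isOpenEmbedding.isOpenMap _ (hall j).isOpen_compl
  have hZl : ∀ p, IsLocallyClosed (Zs p) := fun p =>
    (PrimeSpectrum.isClosed_zeroLocus _).isLocallyClosed.image (ι p.1).isOpenEmbedding.isInducing
      (ι p.1).isOpenEmbedding.isOpen_range.isLocallyClosed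
  let S : (Pt × Pt) ⊕ (Pt × Pt) ⊕ Pt ⊕ J → Set X :=
    Sum.elim (fun x => Vs x.1 ∩ Vs x.2) (Sum.elim (fun x => Zs x.1 ∩ Zs x.2) (Sum.elim Vs Us))
  obtain ⟨V, hηV, hV⟩ := exists_iff_of_locallyClosed_family f S (by
    rintro (⟨p, q⟩ | ⟨p, q⟩ | p | j)
    · exact ((hVo p).inter (hVo q)).isLocallyClosed
    · exact (hZl p).inter (hZl q)
    · exact (hVo p).isLocallyClosed
    · exact (hUo j).isLocallyClosed)
  -- the geometric fibre at a point
  let pt : ∀ (R : Type u) [Field R] [Algebra A R], ↥(Spec (CommRingCat.of A)) :=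
    fun R _ _ => w R (IsLocalRing.closedPoint R)
  have hmeet : ∀ (R : Type u) [Field R] [Algebra A R] (U : Set X),
      (∃ t : ↥(pullback f (w R)), pullback.fst f (w R) t ∈ U) ↔ ∃ x ∈ U, f x = pt R := by
    intro R _ _ U
    constructor
    · rintro ⟨t, ht⟩
      obtain ⟨z, hz⟩ := (Scheme.Pullback.range_fst f (w R)).le ⟨t, rfl⟩
      refine ⟨_, ht, hz.symm.trans ?_⟩
      rw [Subsingleton.elim (α := PrimeSpectrum R) z (IsLocalRing.closedPoint R)]
    · rintro ⟨x, hx, hfx⟩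
      obtain ⟨t, rfl⟩ := (Scheme.Pullback.range_fst f (w R)).ge (show x ∈ f ⁻¹' Set.range (w R) from ⟨_, hfx.symm⟩)
      exact ⟨t, hx⟩
  have hη : pt k = genericPoint ↥(Spec (CommRingCat.of A)) := by
    refine ((isGenericPoint_def.2 ?_).eq (genericPoint_spec ↥(Spec (CommRingCat.of A))))
    have h1 : pt k = (⟨⊥, Ideal.isPrime_bot⟩ : PrimeSpectrum A) := PrimeSpectrum.ext (by
      show (IsLocalRing.maximalIdeal k).comap (algebraMap A k) = ⊥
      rw [IsLocalRing.maximalIdeal_eq_bot, ← RingHom.ker_eq_comap_bot]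
      exact (RingHom.injective_iff_ker_eq_bot _).1 (FaithfulSMul.algebraMap_injective A k))
    rw [h1]
    exact (PrimeSpectrum.closure_singleton _).trans PrimeSpectrum.zeroLocus_bot
  choose ck hck hck1 hck2 hck3 using fun j => exists_chart f (ι j) (hι j) k
  have hUk : ∀ j, ¬ ∃ x ∈ Us j, f x = genericPoint ↥(Spec (CommRingCat.of A)) := fun j h => by
    rw [← hη, ← hmeet k] at h
    obtain ⟨t, ht⟩ := h
    obtain ⟨q, rfl⟩ := (hck3 j).ge (show pullback.fst f (w k) t ∈ Set.range (ι j) from Set.image_subset_range _ _ ht)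
    rw [← Scheme.Hom.comp_apply, hck1, Scheme.Hom.comp_apply] at ht
    obtain ⟨i, hi⟩ := hk j q.asIdeal q.isPrime
    exact (ι j).isOpenEmbedding.injective.mem_set_image.1 ht (Set.mem_iUnion.2 ⟨i, hi⟩)
  have hVk : ∀ p, ∃ x ∈ Vs p, f x = genericPoint ↥(Spec (CommRingCat.of A)) := fun p => by
    rw [← hη, ← hmeet k]
    obtain ⟨Q, hQ, hQn⟩ := hgen p.1 p.2
    refine ⟨ck p.1 (⟨Q, hQ⟩ : PrimeSpectrum _), ?_⟩
    rw [← Scheme.Hom.comp_apply, hck1, Scheme.Hom.comp_apply]
    refine Set.mem_image_of_mem _ fun h => ?_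
    obtain ⟨⟨i', hi'⟩, h'⟩ := Set.mem_iUnion.1 h
    exact hQn i' hi' h'
  have main : ∀ (R : Type u) [Field R] [Algebra A R], pt R ∈ V → (∀ j i, IsDomain (R ⊗[A] (B j ⧸ I j i))) →
      counts ↥(pullback f (w R)) =
        (ENat.card (Quot fun p q : Pt => ∃ x ∈ Vs p ∩ Vs q, f x = genericPoint ↥(Spec (CommRingCat.of A))),
        ENat.card (Quot fun p q : Pt => ∃ x ∈ Zs p ∩ Zs q, f x = genericPoint ↥(Spec (CommRingCat.of A)))) := by
    intro R _ _ hpt hdom
    choose c hc hc1 hc2 hc3 using fun j => exists_chart f (ι j) (hι j) R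
    let π := pullback.fst f (w R)
    have hU : ∀ j (t : ↥(pullback f (w R))), π t ∉ Us j := fun j t ht =>
      hUk j ((hV (.inr (.inr (.inr j))) _ hpt).1 ((hmeet R _).1 ⟨t, ht⟩))
    have hpiece : ∀ j t, π t ∈ Set.range (ι j) → ∃ q : PrimeSpectrum (R ⊗[A] B j), t = c j q ∧
        π t = ι j (PrimeSpectrum.comap
          (Algebra.TensorProduct.includeRight : B j →ₐ[A] R ⊗[A] B j).toRingHom q) := by
      intro j t ht
      obtain ⟨q, rfl⟩ := (hc3 j).ge ht
      refine ⟨q, rfl, ?_⟩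
      show (pullback.fst f (w R)) (c j q) = _
      rw [← Scheme.Hom.comp_apply, hc1, Scheme.Hom.comp_apply]
      rfl
    have hkey := counts_eq_of_pieces (T := ↥(pullback f (w R))) (fun p : Pt => π ⁻¹' Zs p) (fun p => π ⁻¹' Vs p)
      (fun p => (hVo p).preimage π.continuous) (fun p => ?_) (fun p t ht => ?_) (fun p => ?_) (fun t => ?_)
    rotate_left
    · obtain ⟨t, ht⟩ := (hmeet R _).2 ((hV (.inr (.inr (.inl p))) _ hpt).2 (hVk p))
      exact ⟨t, ht⟩
    · obtain ⟨q, -, hq⟩ := hpiece p.1 t (Set.image_subset_range _ _ ht)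
      obtain ⟨b, hb, hbe⟩ : π t ∈ Vs p := ht
      have hbq := (ι p.1).isOpenEmbedding.injective (hbe.trans hq)
      by_contra hnot
      refine hU p.1 t ⟨b, fun hmem => ?_, hbe⟩
      obtain ⟨i, hi⟩ := Set.mem_iUnion.1 hmem
      by_cases hip : i = p.2
      · exact hnot ⟨b, hip ▸ hi, hbe⟩
      · exact hb (Set.mem_iUnion.2 ⟨⟨i, hip⟩, hi⟩)
    · let φ : B p.1 →ₐ[A] R ⊗[A] B p.1 := Algebra.TensorProduct.includeRight
      haveI := hdom p.1 p.2
      have hP : ((I p.1 p.2).map φ).IsPrime := isPrime_map_of_isDomain R (I p.1 p.2)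
      have heq : π ⁻¹' Zs p = c p.1 '' PrimeSpectrum.zeroLocus (((I p.1 p.2).map φ : Ideal _) : Set _) := by
        ext t
        constructor
        · intro ht
          obtain ⟨q, rfl, hq⟩ := hpiece p.1 t (Set.image_subset_range _ _ ht)
          obtain ⟨b, hb, hbe⟩ : π _ ∈ Zs p := ht
          have hbq := (ι p.1).isOpenEmbedding.injective (hbe.trans hq)
          exact ⟨q, Ideal.map_le_iff_le_comap.2 (hbq ▸ hb :), rfl⟩
        · rintro ⟨q, hq, rfl⟩
          show (pullback.fst f (w R)) (c p.1 q) ∈ Zs p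
          rw [← Scheme.Hom.comp_apply, hc1, Scheme.Hom.comp_apply]
          exact Set.mem_image_of_mem _ (Ideal.map_le_iff_le_comap.1 hq :)
      show IsPreirreducible (π ⁻¹' Zs p)
      rw [heq]
      exact (((PrimeSpectrum.isIrreducible_zeroLocus_iff_of_radical _ hP.isRadical).2 hP).image _
        (c p.1).continuous.continuousOn).isPreirreducible
    · obtain ⟨j, hj⟩ := hcov (π t)
      obtain ⟨q, -, hq⟩ := hpiece j t hj
      let q₀ := PrimeSpectrum.comap (Algebra.TensorProduct.includeRight : B j →ₐ[A] R ⊗[A] B j).toRingHom q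
      let O : Set (PrimeSpectrum (B j)) :=
        (⋃ i : {i // q₀ ∉ PrimeSpectrum.zeroLocus (I j i : Set (B j))}, PrimeSpectrum.zeroLocus (I j i.1 : Set (B j)))ᶜ
      refine ⟨π ⁻¹' (ι j '' O), IsOpen.mem_nhds ((((ι j).isOpenEmbedding.isOpenMap _
        (isClosed_iUnion_of_finite fun i => PrimeSpectrum.isClosed_zeroLocus _).isOpen_compl)).preimage π.continuous) ?_, ?_⟩
      · refine ⟨q₀, fun h => ?_, hq.symm⟩
        obtain ⟨⟨i, hi⟩, h'⟩ := Set.mem_iUnion.1 h
        exact hi h'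
      · rintro y ⟨b, hb, hbe⟩
        by_cases h : b ∈ all j
        · obtain ⟨i, hi⟩ := Set.mem_iUnion.1 h
          refine ⟨⟨j, i⟩, ⟨q₀, ?_, hq.symm⟩, ⟨b, hi, hbe⟩⟩
          by_contra hq₀
          exact hb (Set.mem_iUnion.2 ⟨⟨i, hq₀⟩, hi⟩)
        · exact absurd ⟨b, h, hbe⟩ (hU j y)
    refine hkey.trans ?_
    congr 1
    · congr 2
      funext p q
      exact propext (((hmeet R (Vs p ∩ Vs q))).trans (hV (.inl (p, q)) _ hpt))
    · congr 2
      funext p q
      exact propext (((hmeet R (Zs p ∩ Zs q))).trans (hV (.inr (.inl (p, q))) _ hpt))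
  obtain ⟨_, ⟨a₀, rfl⟩, ha₀, ha₀V⟩ := PrimeSpectrum.isTopologicalBasis_basic_opens.exists_subset_of_mem_open hηV V.2
  have ha₀0 : a₀ ≠ 0 := fun h => by simp [h] at ha₀
  choose a ha ha' using fun p : Pt => exists_integral_spread (A := A) k (B p.1 ⧸ I p.1 p.2)
  cases nonempty_fintype Pt
  refine ⟨a₀ * ∏ p, a p, mul_ne_zero ha₀0 (Finset.prod_ne_zero_iff.2 fun p _ => ha p), fun Ω _ _ _ haΩ => ?_⟩
  rw [map_mul, map_prod, mul_ne_zero_iff, Finset.prod_ne_zero_iff] at haΩ
  refine (main Ω (ha₀V ?_) fun j i => ha' ⟨j, i⟩ Ω (haΩ.2 ⟨j, i⟩ (Finset.mem_univ _))).trans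
    (main k (hη ▸ hηV) fun j i => inferInstance).symm
  show a₀ ∉ (IsLocalRing.maximalIdeal Ω).comap (algebraMap A Ω)
  rw [IsLocalRing.maximalIdeal_eq_bot, Ideal.mem_comap, Ideal.mem_bot]
  exact haΩ.1

end Groth.Agent.GenIrredLib
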