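import Mathlib
import Groth.Agent.GenIrredLib.Core

/-!
# The numbers of geometric components are constant near the generic point (EGA IV 9.7.8)
-/

set_option autoImplicit false
set_option linter.style.haveILetI false

universe u

open CategoryTheory CategoryTheory.Limits AlgebraicGeometry TensorProduct Topology

namespace Groth.Agent.GenIrredLib

theorem isDomain_tensor_quotient {A : Type u} [CommRing A] (R : Type u) [CommRing R] [Algebra A R] {B : Type u}
    [CommRing B] [Algebra A B] (I : Ideal B)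
    (h : (I.map (Algebra.TensorProduct.includeRight : B →ₐ[A] R ⊗[A] B)).IsPrime) :
    IsDomain (R ⊗[A] (B ⧸ I)) :=
  haveI := (Ideal.Quotient.isDomain_iff_prime _).2 h
  (Algebra.TensorProduct.tensorQuotientEquiv (R := A) R B R I).toMulEquiv.isDomain _

/-- The minimal primes of a base change to a field come from a finitely generated subalgebra. -/
theorem exists_subalgebra_minimalPrimes {A : Type u} [CommRing A] [IsDomain A] (k : Type u) [Field k] [Algebra A k]
    (B : Type u) [CommRing B] [Algebra A B] [Algebra.FiniteType A B] :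
    ∃ A₀ : Subalgebra A k, A₀.FG ∧ ∀ A₁ : Subalgebra A k, A₀ ≤ A₁ → ∀ P ∈ minimalPrimes (k ⊗[A] B),
      P ≤ Ideal.map (Algebra.TensorProduct.map A₁.val (AlgHom.id A B))
        (Ideal.comap (Algebra.TensorProduct.map A₁.val (AlgHom.id A B)) P) := by
  classical
  haveI : IsNoetherianRing (k ⊗[A] B) := Algebra.FiniteType.isNoetherianRing k _
  haveI := (minimalPrimes.finite_of_isNoetherianRing (k ⊗[A] B)).to_subtype
  choose G hG using fun P : minimalPrimes (k ⊗[A] B) => IsNoetherian.noetherian (P.1 : Ideal (k ⊗[A] B))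
  obtain ⟨A₀, hA₀, h⟩ := exists_fg_forall k fun x : Σ P, (G P : Finset (k ⊗[A] B)) => x.2.1
  refine ⟨A₀, hA₀, fun A₁ hle P hP => ?_⟩
  refine (hG ⟨P, hP⟩).ge.trans (Submodule.span_le.2 fun z hz => ?_)
  obtain ⟨v, hv⟩ := h ⟨⟨P, hP⟩, ⟨z, hz⟩⟩
  have hv' : Algebra.TensorProduct.map A₁.val (AlgHom.id A B)
      (Algebra.TensorProduct.map (Subalgebra.inclusion hle) (AlgHom.id A B) v) = z := by
    rw [← show _ = z from hv]
    clear hv
    induction v using TensorProduct.induction_on with
    | zero => simp only [map_zero]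
    | add x y hx hy => simp only [map_add, hx, hy]
    | tmul x y => rfl
  rw [← hv']
  refine Ideal.mem_map_of_mem _ (Ideal.mem_comap.2 ?_)
  rw [hv']
  exact (hG ⟨P, hP⟩).le (Submodule.subset_span hz)

/-- The numbers of geometric components are constant near the generic point. -/
theorem exists_counts_const {A : Type u} [CommRing A] [IsDomain A] {X : Scheme.{u}}
    (f : X ⟶ Spec (CommRingCat.of A)) [LocallyOfFiniteType f] [QuasiCompact f]
    (k : Type u) [Field k] [IsAlgClosed k] [Algebra A k] [FaithfulSMul A k] :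
    ∃ a : A, a ≠ 0 ∧ ∀ (Ω : Type u) [Field Ω] [IsAlgClosed Ω] [Algebra A Ω], algebraMap A Ω a ≠ 0 →
      counts ↥(pullback f (Spec.map (CommRingCat.ofHom (algebraMap A Ω)))) =
        counts ↥(pullback f (Spec.map (CommRingCat.ofHom (algebraMap A k)))) := by
  classical
  obtain ⟨s, hs, hcov⟩ := NearGen.exists_affines f (isAffineOpen_top (Spec (CommRingCat.of A)))
  let J : Type u := {W // W ∈ s}
  let B : J → Type u := fun W => Γ(X, W.1)
  let φ : ∀ W : J, CommRingCat.of A ⟶ CommRingCat.of (B W) := fun W => Spec.preimage ((hs W.1 W.2).1.fromSpec ≫ f)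
  letI alg : ∀ W : J, Algebra A (B W) := fun W => (φ W).hom.toAlgebra
  let ι : ∀ W : J, Spec (CommRingCat.of (B W)) ⟶ X := fun W => (hs W.1 W.2).1.fromSpec
  haveI hoi : ∀ W, IsOpenImmersion (ι W) := fun W => inferInstanceAs (IsOpenImmersion (hs W.1 W.2).1.fromSpec)
  have hι : ∀ W, ι W ≫ f = Spec.map (CommRingCat.ofHom (algebraMap A (B W))) := fun W => (Spec.map_preimage _).symm
  haveI hft : ∀ W, Algebra.FiniteType A (B W) := fun W => by
    have h1 : LocallyOfFiniteType (Spec.map (φ W)) := by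
      rw [show Spec.map (φ W) = ι W ≫ f from Spec.map_preimage _]
      infer_instance
    exact (HasRingHomProperty.Spec_iff (P := @LocallyOfFiniteType)).1 h1
  -- a finitely generated subalgebra defining the components
  choose A₀ hA₀ hmin using fun W => exists_subalgebra_minimalPrimes (A := A) k (B W)
  let A' : Subalgebra A k := Finset.univ.sup A₀
  have hA' : A'.FG := Finset.sup_induction (p := Subalgebra.FG) Subalgebra.fg_bot
    (fun a ha b hb => ha.sup hb) fun i _ => hA₀ i
  haveI : FaithfulSMul A' k := (faithfulSMul_iff_algebraMap_injective _ _).2 Subtype.val_injective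
  haveI : Algebra.FiniteType A A' := (Subalgebra.fg_iff_finiteType A').1 hA'
  let w' : Spec (CommRingCat.of A') ⟶ Spec (CommRingCat.of A) := Spec.map (CommRingCat.ofHom (algebraMap A A'))
  let f' := pullback.snd f w'
  haveI : LocallyOfFiniteType f' := inferInstanceAs (LocallyOfFiniteType (pullback.snd f w'))
  haveI : QuasiCompact f' := inferInstanceAs (QuasiCompact (pullback.snd f w'))
  choose c hc hc1 hc2 hc3 using fun W => exists_chart f (ι W) (hι W) A'
  haveI : ∀ W, IsOpenImmersion (c W) := hc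
  let m : ∀ W, A' ⊗[A] B W →ₐ[A] k ⊗[A] B W := fun W => Algebra.TensorProduct.map A'.val (AlgHom.id A (B W))
  let e : ∀ W, k ⊗[A'] (A' ⊗[A] B W) ≃ₐ[k] k ⊗[A] B W :=
    fun W => Algebra.TensorProduct.cancelBaseChange A A' k k (B W)
  have he : ∀ W (z : A' ⊗[A] B W), e W (Algebra.TensorProduct.includeRight z) = m W z := fun W z => by
    induction z using TensorProduct.induction_on with
    | zero => simp
    | add x y hx hy => simp only [map_add, hx, hy]
    | tmul r b => simp [e, m, Algebra.smul_def]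
  have hcomap : ∀ W (P : Ideal (k ⊗[A] B W)),
      (P.comap (e W)).comap (Algebra.TensorProduct.includeRight : A' ⊗[A] B W →ₐ[A'] k ⊗[A'] (A' ⊗[A] B W)) =
        P.comap (m W) := fun W P => by
    ext z
    show e W (Algebra.TensorProduct.includeRight z) ∈ P ↔ m W z ∈ P
    rw [he]
  let P : J → Type u := fun W => minimalPrimes (k ⊗[A] B W)
  haveI : ∀ W, Finite (P W) := fun W => by
    haveI : IsNoetherianRing (k ⊗[A] B W) := Algebra.FiniteType.isNoetherianRing k _
    exact (minimalPrimes.finite_of_isNoetherianRing (k ⊗[A] B W)).to_subtype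
  let I : ∀ W, P W → Ideal (A' ⊗[A] B W) := fun W Q => Q.1.comap (m W)
  have hle : ∀ W (Q : P W), Q.1 ≤ (I W Q).map (m W) := fun W Q =>
    hmin W A' (Finset.le_sup (f := A₀) (Finset.mem_univ W)) Q.1 Q.2
  haveI : ∀ W Q, IsDomain (k ⊗[A'] ((A' ⊗[A] B W) ⧸ I W Q)) := fun W Q => by
    refine isDomain_tensor_quotient k _ ?_
    haveI : (Q.1).IsPrime := Q.2.1.1
    convert Ideal.comap_isPrime (e W) Q.1 using 1
    refine le_antisymm (Ideal.map_le_iff_le_comap.2 (hcomap W Q.1).ge) fun z hz => ?_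
    have h1 : e W z ∈ ((I W Q).map (Algebra.TensorProduct.includeRight : A' ⊗[A] B W →ₐ[A'] k ⊗[A'] (A' ⊗[A] B W))).map
        (e W).toRingEquiv.toRingHom := by
      rw [← Ideal.map_coe (Algebra.TensorProduct.includeRight : A' ⊗[A] B W →ₐ[A'] k ⊗[A'] (A' ⊗[A] B W)),
        Ideal.map_map]
      refine (hle W Q).trans (le_of_eq ?_) hz
      rw [← Ideal.map_coe (m W)]
      congr 1
      exact RingHom.ext fun z => (he W z).symm
    obtain ⟨y, hy, hye⟩ := (Ideal.mem_map_iff_of_surjective _ (e W).surjective).1 h1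
    rwa [← (e W).injective hye]
  have hcov' : ∀ x : ↥(pullback f w'), ∃ W, x ∈ Set.range (c W) := fun x => by
    obtain ⟨W, hW, hxW⟩ := hcov (pullback.fst f w' x) trivial
    exact ⟨⟨W, hW⟩, (hc3 ⟨W, hW⟩).ge ((hs W hW).1.range_fromSpec.ge hxW)⟩
  have hk' : ∀ W, ∀ Q : Ideal (k ⊗[A'] (A' ⊗[A] B W)), Q.IsPrime →
      ∃ i, I W i ≤ Q.comap (Algebra.TensorProduct.includeRight : A' ⊗[A] B W →ₐ[A'] k ⊗[A'] (A' ⊗[A] B W)) :=
    fun W Q hQ => by
    haveI := hQ
    obtain ⟨M, hM, hMQ⟩ := Ideal.exists_minimalPrimes_le (bot_le : ⊥ ≤ Q.comap (e W).symm)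
    refine ⟨⟨M, hM⟩, fun z hz => ?_⟩
    have h1 : (e W).symm (m W z) ∈ Q := hMQ hz
    rw [← he, AlgEquiv.symm_apply_apply] at h1
    exact h1
  have hgen' : ∀ W (Q : P W), ∃ M : Ideal (k ⊗[A'] (A' ⊗[A] B W)), M.IsPrime ∧ ∀ Q', Q' ≠ Q →
      ¬ I W Q' ≤ M.comap (Algebra.TensorProduct.includeRight : A' ⊗[A] B W →ₐ[A'] k ⊗[A'] (A' ⊗[A] B W)) :=
    fun W Q => by
    haveI : (Q.1).IsPrime := Q.2.1.1
    refine ⟨Q.1.comap (e W), Ideal.comap_isPrime _ _, fun Q' hne h => hne (Subtype.ext ?_)⟩
    rw [hcomap] at h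
    have h1 : Q'.1 ≤ Q.1 := (hle W Q').trans (Ideal.map_le_iff_le_comap.2 h)
    exact le_antisymm h1 (Q.2.2 Q'.2.1 h1)
  obtain ⟨a', ha', H⟩ := exists_counts_const_core (A := A') f' k (fun W => A' ⊗[A] B W) c hc2 hcov' P I hk' hgen'
  obtain ⟨a, ha, hpt⟩ := exists_point A A' hA' a' ha'
  refine ⟨a, ha, fun Ω _ _ _ haΩ => ?_⟩
  obtain ⟨ψ, hψ⟩ := hpt Ω haΩ inferInstance
  letI : Algebra A' Ω := ψ.toRingHom.toAlgebra
  have hcomp : ∀ (R : Type u) [CommRing R] [Algebra A R] [Algebra A' R] [IsScalarTower A A' R],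
      counts ↥(pullback f' (Spec.map (CommRingCat.ofHom (algebraMap A' R)))) =
        counts ↥(pullback f (Spec.map (CommRingCat.ofHom (algebraMap A R)))) := fun R _ _ _ _ => by
    refine (counts_congr (pullbackLeftPullbackSndIso f w' _).hom.homeomorph).trans ?_
    have hw : Spec.map (CommRingCat.ofHom (algebraMap A' R)) ≫ w' = Spec.map (CommRingCat.ofHom (algebraMap A R)) := by
      rw [← Spec.map_comp]
      congr 1
      ext x
      exact (IsScalarTower.algebraMap_apply A A' R x).symm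
    exact counts_congr (pullback.congrHom (rfl : f = f) hw).hom.homeomorph
  haveI : IsScalarTower A A' Ω := .of_algebraMap_eq fun r => (ψ.commutes r).symm
  rw [← hcomp Ω, ← hcomp k]
  exact H Ω hψ

end Groth.Agent.GenIrredLib
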