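import Mathlib
import Groth.Agent.GenIrredLib.Main

/-!
# Numbers of geometric components near a point, and their meaning
-/

set_option autoImplicit false
set_option linter.style.haveILetI false

universe u

open CategoryTheory CategoryTheory.Limits AlgebraicGeometry TensorProduct Topology

namespace Groth.Agent.GenIrredLib

/-- A point of `Spec R` is the kernel of a map to an algebraically closed field. -/
theorem exists_algClosed_ker (R : Type u) [CommRing R] (p : Ideal R) [p.IsPrime] :
    ∃ (Ω : Type u) (_ : Field Ω) (_ : IsAlgClosed Ω) (φ : R →+* Ω), RingHom.ker φ = p := by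
  refine ⟨AlgebraicClosure (FractionRing (R ⧸ p)), inferInstance, inferInstance,
    ((algebraMap (FractionRing (R ⧸ p)) _).comp (algebraMap (R ⧸ p) (FractionRing (R ⧸ p)))).comp
      (Ideal.Quotient.mk p), ?_⟩
  have hinj : Function.Injective ((algebraMap (FractionRing (R ⧸ p)) (AlgebraicClosure (FractionRing (R ⧸ p)))).comp
      (algebraMap (R ⧸ p) (FractionRing (R ⧸ p)))) := by
    rw [RingHom.coe_comp]
    exact (RingHom.injective _).comp (IsFractionRing.injective _ _)
  rw [RingHom.ker_comp_of_injective _ hinj, Ideal.mk_ker]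

variable {X Y : Scheme.{u}} (f : X ⟶ Y)

/-- Both numbers of geometric components of a fibre. -/
noncomputable def nGeom (y : Y) : ℕ∞ × ℕ∞ := (MoreMor.nGeomIrredComp f y, MoreMor.nGeomConnComp f y)

/-- The numbers of geometric components are constant on an open piece of the closure of a point. -/
theorem exists_nGeom_const_near [LocallyOfFiniteType f] [QuasiCompact f] (y : Y) :
    ∃ U : Y.Opens, y ∈ U ∧ ∀ y' ∈ U, y ⤳ y' → nGeom f y' = nGeom f y := by
  obtain ⟨U, hU, hy, -⟩ := exists_isAffineOpen_mem_and_subset (X := Y) (x := y) (U := ⊤) trivial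
  obtain ⟨p, hp⟩ := hU.range_fromSpec.ge hy
  let g : Spec (CommRingCat.of (Γ(Y, U) ⧸ p.asIdeal)) ⟶ Y :=
    Spec.map (CommRingCat.ofHom (Ideal.Quotient.mk p.asIdeal)) ≫ hU.fromSpec
  let fA := pullback.snd f g
  obtain ⟨k, _, _, φ, hφ⟩ := exists_algClosed_ker (Γ(Y, U) ⧸ p.asIdeal) ⊥
  letI : Algebra (Γ(Y, U) ⧸ p.asIdeal) k := φ.toAlgebra
  haveI : FaithfulSMul (Γ(Y, U) ⧸ p.asIdeal) k :=
    (faithfulSMul_iff_algebraMap_injective _ _).2 ((RingHom.injective_iff_ker_eq_bot _).2 hφ)
  obtain ⟨a, ha, H⟩ := exists_counts_const fA k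
  obtain ⟨r, rfl⟩ := Ideal.Quotient.mk_surjective a
  have hcalc : ∀ (Ω : Type u) [Field Ω] [IsAlgClosed Ω] (ψ : Γ(Y, U) ⧸ p.asIdeal →+* Ω) (q : PrimeSpectrum Γ(Y, U)),
      RingHom.ker (ψ.comp (Ideal.Quotient.mk p.asIdeal)) = q.asIdeal →
      counts ↥(pullback fA (Spec.map (CommRingCat.ofHom ψ))) = nGeom f (hU.fromSpec q) := by
    intro Ω _ _ ψ q hq
    rw [counts_pullback_baseChange f fA (pullback.fst f g) g (IsPullback.of_hasPullback f g)]
    refine counts_eq_nGeom f Ω _ _ ?_
    simp only [g, Scheme.Hom.comp_apply]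
    congr 1
    refine PrimeSpectrum.ext ?_
    rw [← hq]
    show ((IsLocalRing.maximalIdeal Ω).comap ψ).comap (Ideal.Quotient.mk p.asIdeal) = _
    rw [IsLocalRing.maximalIdeal_eq_bot, Ideal.comap_comap]
    rfl
  have hk : counts ↥(pullback fA (Spec.map (CommRingCat.ofHom (algebraMap (Γ(Y, U) ⧸ p.asIdeal) k)))) = nGeom f y := by
    rw [hcalc k (algebraMap _ k) p ?_, hp]
    rw [RingHom.ker_comp_of_injective _ (FaithfulSMul.algebraMap_injective _ _), Ideal.mk_ker]
  have hrp : r ∉ p.asIdeal := fun h => ha (Ideal.Quotient.eq_zero_iff_mem.2 h)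
  refine ⟨Y.basicOpen r, hp ▸ (NearGen.mem_basicOpen_iff hU p r).2 hrp, fun y' hy' hspec => ?_⟩
  obtain ⟨q, rfl⟩ := hU.range_fromSpec.ge (Y.basicOpen_le _ hy')
  have hle : p.asIdeal ≤ q.asIdeal := (PrimeSpectrum.le_iff_specializes p q).2
    (hU.fromSpec.isOpenEmbedding.toIsInducing.specializes_iff.1 (hp ▸ hspec))
  obtain ⟨Ω, _, _, χ, hχ⟩ := exists_algClosed_ker Γ(Y, U) q.asIdeal
  let ψ : Γ(Y, U) ⧸ p.asIdeal →+* Ω := Ideal.Quotient.lift p.asIdeal χ fun x hx => RingHom.mem_ker.1 (hχ ▸ hle hx)
  letI : Algebra (Γ(Y, U) ⧸ p.asIdeal) Ω := ψ.toAlgebra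
  have h1 := H Ω (fun h0 => (NearGen.mem_basicOpen_iff hU q r).1 hy' (hχ ▸ (RingHom.mem_ker.2 h0 : r ∈ RingHom.ker χ)))
  rw [hk] at h1
  rw [← h1]
  exact (hcalc Ω ψ q hχ).symm

theorem encard_irreducibleComponents_eq_one_iff (T : Type*) [TopologicalSpace T] :
    (irreducibleComponents T).encard = 1 ↔ IrreducibleSpace T := by
  refine ⟨fun h => ?_, fun h => by rw [irreducibleComponents_eq_singleton, Set.encard_singleton]⟩
  obtain ⟨C, hC⟩ := Set.encard_eq_one.1 h
  have hmem : C ∈ irreducibleComponents T := hC ▸ rfl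
  have huniv : C = Set.univ := Set.eq_univ_of_forall fun x => by
    have h1 : irreducibleComponent x ∈ irreducibleComponents T := irreducibleComponent_mem_irreducibleComponents x
    rw [hC, Set.mem_singleton_iff] at h1
    exact h1 ▸ mem_irreducibleComponent
  rw [irreducibleSpace_def, Set.top_eq_univ, ← huniv]
  exact hmem.1

theorem card_connectedComponents_eq_one_iff (T : Type*) [TopologicalSpace T] :
    ENat.card (ConnectedComponents T) = 1 ↔ ConnectedSpace T := by
  refine ⟨fun h => ?_, fun h => ?_⟩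
  · obtain ⟨u⟩ := (ENat.card_eq_one_iff_unique (α := ConnectedComponents T)).1 h
    let c : ConnectedComponents T := u.default
    haveI : Subsingleton (ConnectedComponents T) := u.instSubsingleton
    obtain ⟨x, -⟩ := ConnectedComponents.surjective_coe c
    refine connectedSpace_iff_connectedComponent.2 ⟨x, Set.eq_univ_of_forall fun y => ?_⟩
    exact ConnectedComponents.coe_eq_coe'.1 (Subsingleton.elim _ _)
  · haveI : Nonempty (ConnectedComponents T) := ⟨ConnectedComponents.mk h.toNonempty.some⟩
    exact (ENat.card_eq_one_iff_unique (α := ConnectedComponents T)).2 (unique_iff_subsingleton_and_nonempty _ |>.2 ⟨inferInstance, inferInstance⟩)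

theorem geometricallyIrreducible_iff_field {k : Type u} [Field k] {W : Scheme.{u}} (g : W ⟶ Spec (CommRingCat.of k))
    (K : Type u) [Field K] [Algebra k K] [IsSepClosed K] :
    GeometricallyIrreducible g ↔ IrreducibleSpace ↥(pullback g (Spec.map (CommRingCat.ofHom (algebraMap k K)))) := by
  haveI : Subsingleton ↥(Spec (CommRingCat.of K)) := inferInstanceAs (Subsingleton (PrimeSpectrum K))
  haveI : Nonempty ↥(Spec (CommRingCat.of K)) := inferInstanceAs (Nonempty (PrimeSpectrum K))
  refine ⟨fun h => ?_, fun h => GeomIrred.geometricallyIrreducible_of_irreducible_pullback g K⟩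
  haveI := h
  exact GeometricallyIrreducible.irreducibleSpace_of_subsingleton (pullback.snd g _)

theorem geometricallyConnected_iff_field {k : Type u} [Field k] {W : Scheme.{u}} (g : W ⟶ Spec (CommRingCat.of k))
    (K : Type u) [Field K] [Algebra k K] [IsSepClosed K] :
    GeometricallyConnected g ↔ ConnectedSpace ↥(pullback g (Spec.map (CommRingCat.ofHom (algebraMap k K)))) := by
  haveI : Subsingleton ↥(Spec (CommRingCat.of K)) := inferInstanceAs (Subsingleton (PrimeSpectrum K))
  haveI : Nonempty ↥(Spec (CommRingCat.of K)) := inferInstanceAs (Nonempty (PrimeSpectrum K))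
  refine ⟨fun h => ?_, fun h => GeomIrred.geometricallyConnected_of_connected_pullback g K⟩
  haveI := h
  exact GeometricallyConnected.connectedSpace_of_subsingleton (pullback.snd g _)

theorem geometricallyIrreducible_fiber_iff (y : Y) :
    GeometricallyIrreducible (f.fiberToSpecResidueField y) ↔ MoreMor.nGeomIrredComp f y = 1 :=
  (geometricallyIrreducible_iff_field (k := Y.residueField y) (f.fiberToSpecResidueField y)
    (SeparableClosure (Y.residueField y))).trans (encard_irreducibleComponents_eq_one_iff ↥(MoreMor.geomFiber f y)).symm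

theorem geometricallyConnected_fiber_iff (y : Y) :
    GeometricallyConnected (f.fiberToSpecResidueField y) ↔ MoreMor.nGeomConnComp f y = 1 :=
  (geometricallyConnected_iff_field (k := Y.residueField y) (f.fiberToSpecResidueField y)
    (SeparableClosure (Y.residueField y))).trans (card_connectedComponents_eq_one_iff ↥(MoreMor.geomFiber f y)).symm

theorem geometricallyIrreducible_iff_nGeom :
    GeometricallyIrreducible f ↔ ∀ y, MoreMor.nGeomIrredComp f y = 1 :=
  (GeometricallyIrreducible.iff_geometricallyIrreducible_fiber (f := f)).trans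
    (forall_congr' (geometricallyIrreducible_fiber_iff f))

theorem geometricallyConnected_iff_nGeom :
    GeometricallyConnected f ↔ ∀ y, MoreMor.nGeomConnComp f y = 1 :=
  (GeometricallyConnected.iff_geometricallyConnected_fiber (f := f)).trans
    (forall_congr' (geometricallyConnected_fiber_iff f))

/-- The numbers of geometric components of a restriction to an open. -/
theorem nGeom_restrict (V : Y.Opens) (z : ↥V) : nGeom (f ∣_ V) z = nGeom f z.1 :=
  nGeom_baseChange f (f ∣_ V) (f ⁻¹ᵁ V).ι V.ι (isPullback_morphismRestrict f V).flip z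

end Groth.Agent.GenIrredLib
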