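import Mathlib
import Groth.Agent.GenIrredLib.Near
import Groth.Agent.NearGen.ConstrScheme
import Groth.Agent.FPModelLib.Model
import Groth.Agent.FPModelLib.ZSys

/-!
# Constructibility of the level sets of the numbers of geometric components
-/

set_option autoImplicit false
set_option backward.isDefEq.respectTransparency false
set_option linter.style.haveILetI false

universe u

open CategoryTheory CategoryTheory.Limits AlgebraicGeometry Topology

namespace Groth.Agent.GenIrredLib

variable {X Y : Scheme.{u}} (f : X ⟶ Y)

/-- On a Noetherian affine base a condition on the numbers of geometric components is constructible. -/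
theorem isConstructible_nGeom_noetherian {R : Type u} [CommRing R] [IsNoetherianRing R]
    {G : Scheme.{u}} (g : G ⟶ Spec (CommRingCat.of R)) [LocallyOfFiniteType g] [QuasiCompact g]
    (P : ℕ∞ × ℕ∞ → Prop) : IsConstructible {z : PrimeSpectrum R | P (nGeom g z)} := by
  refine NearGen.isConstructible_of_const_near _ fun p₀ => ?_
  obtain ⟨U, hU, H⟩ := exists_nGeom_const_near g p₀
  obtain ⟨_, ⟨r, rfl⟩, hr, hrU⟩ :=
    PrimeSpectrum.isTopologicalBasis_basic_opens.exists_subset_of_mem_open hU U.2
  refine ⟨r, hr, fun p hle hp => ?_⟩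
  show P (nGeom g p) ↔ P (nGeom g p₀)
  rw [H p (hrU hp) ((PrimeSpectrum.le_iff_specializes p₀ p).1 hle)]

/-- Over an affine base a condition on the numbers of geometric components is constructible. -/
theorem isConstructible_nGeom_affine (R : CommRingCat.{u}) {W : Scheme.{u}} (g : W ⟶ Spec R)
    [LocallyOfFinitePresentation g] [CompactSpace W] [QuasiSeparatedSpace W] (P : ℕ∞ × ℕ∞ → Prop) :
    IsConstructible {z : PrimeSpectrum R | P (nGeom g z)} := by
  obtain ⟨i, G, g₀, q, hm⟩ :=
    FPModelLib.exists_model (FPModelLib.zSys R) (FPModelLib.zCone R) (FPModelLib.isLimitZCone R)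
      (show W ⟶ (FPModelLib.zCone R).pt from g)
  haveI := hm.lfp
  haveI := hm.compact
  haveI : QuasiCompact g₀ := quasiCompact_of_compactSpace _
  haveI : IsNoetherianRing i.unop.1 :=
    haveI := FPModelLib.finiteType_zSys R i
    Algebra.FiniteType.isNoetherianRing ℤ _
  let E₀ : Set (PrimeSpectrum i.unop.1) := {z | P (nGeom g₀ z)}
  obtain ⟨D, hD⟩ := PrimeSpectrum.exists_constructibleSetData_iff.2
    (isConstructible_nGeom_noetherian (R := i.unop.1) g₀ P : IsConstructible E₀)
  refine PrimeSpectrum.exists_constructibleSetData_iff.1 ⟨D.map i.unop.1.val.toRingHom, ?_⟩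
  rw [PrimeSpectrum.ConstructibleSetData.toSet_map, hD]
  ext z
  show P (nGeom g₀ ((FPModelLib.zCone R).π.app i z)) ↔ P (nGeom g z)
  exact Eq.to_iff (congrArg P (nGeom_baseChange g₀ g q ((FPModelLib.zCone R).π.app i) hm.isPullback z).symm)

/-- A condition on the numbers of geometric components is locally constructible. -/
theorem isLocallyConstructible_nGeom [LocallyOfFinitePresentation f] [QuasiCompact f] [QuasiSeparated f]
    (P : ℕ∞ × ℕ∞ → Prop) : IsLocallyConstructible {y : Y | P (nGeom f y)} := by
  refine NearGen.isLocallyConstructible_of_affine _ fun U hU => ?_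
  let g := pullback.snd f hU.fromSpec
  haveI : CompactSpace ↥(pullback f hU.fromSpec) :=
    QuasiCompact.compactSpace_of_compactSpace g
  haveI : QuasiSeparatedSpace ↥(pullback f hU.fromSpec) := quasiSeparatedSpace_of_quasiSeparated g
  refine Eq.subst (motive := fun S => IsConstructible (X := ↥(Spec Γ(Y, U))) S) ?_
    (isConstructible_nGeom_affine Γ(Y, U) g P)
  · ext z
    exact Eq.to_iff (congrArg P (nGeom_baseChange f g (pullback.fst f hU.fromSpec) hU.fromSpec
      (IsPullback.of_hasPullback f hU.fromSpec) z))

end Groth.Agent.GenIrredLib
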