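import Mathlib
import Groth.Agent.SteinConn.Stein
import Groth.Agent.PurityLib.NotAffineAlg
import Groth.Agent.DVRFamilyLib.Idem

/-!
# Connected proper flat schemes over a complete discrete valuation ring with algebraically closed residue field
-/

set_option autoImplicit false
set_option backward.isDefEq.respectTransparency false
set_option linter.style.haveILetI false

universe u

open CategoryTheory CategoryTheory.Limits AlgebraicGeometry IsLocalRing TopologicalSpace Opposite

namespace Groth.Agent.GenIrredLib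

/-- A finite algebra over a complete local ring without idempotents and with reduced special fibre is a quotient of
the base, if the residue field is algebraically closed. -/
theorem surjective_algebraMap_of_idem {A B : Type u} [CommRing A] [IsLocalRing A] [IsNoetherianRing A]
    [IsAdicComplete (maximalIdeal A) A] [IsAlgClosed (ResidueField A)] [CommRing B] [Algebra A B] [Module.Finite A B]
    (hred : ((maximalIdeal A).map (algebraMap A B)).radical ≤ (maximalIdeal A).map (algebraMap A B))
    (hidem : ∀ e : B, IsIdempotentElem e → e = 0 ∨ e = 1) : Function.Surjective (algebraMap A B) := by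
  let J := (maximalIdeal A).map (algebraMap A B)
  haveI := PurityLib.isAdicComplete_finite (C := B) (maximalIdeal A)
  haveI : IsAdicComplete J B := (IsAdicComplete.map_algebraMap_iff (S := B) (maximalIdeal A) B).2 inferInstance
  letI : Algebra (ResidueField A) (B ⧸ J) := Ideal.Quotient.algebraQuotientOfLEComap Ideal.le_comap_map
  haveI : IsScalarTower A (ResidueField A) (B ⧸ J) := IsScalarTower.of_algebraMap_eq fun _ => rfl
  haveI : Module.Finite (ResidueField A) (B ⧸ J) := Module.Finite.of_restrictScalars_finite A _ _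
  haveI : IsArtinianRing (B ⧸ J) := IsArtinianRing.of_finite (ResidueField A) (B ⧸ J)
  have hidem' : ∀ e : B ⧸ J, e * e = e → e = 0 ∨ e = 1 := by
    intro e he
    obtain ⟨b, rfl⟩ := Ideal.Quotient.mk_surjective e
    have hroot : (Polynomial.X ^ 2 - Polynomial.X : Polynomial B).eval b ∈ J := by
      rw [← Ideal.Quotient.eq_zero_iff_mem]
      simp only [Polynomial.eval_sub, Polynomial.eval_pow, Polynomial.eval_X, map_sub, map_pow]
      linear_combination he
    have hder : IsUnit (Ideal.Quotient.mk J ((Polynomial.X ^ 2 - Polynomial.X : Polynomial B).derivative.eval b)) := by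
      have hd : (Polynomial.X ^ 2 - Polynomial.X : Polynomial B).derivative.eval b = 2 * b - 1 := by
        simp [Polynomial.derivative_pow, Polynomial.eval_ofNat]
      rw [hd]
      refine IsUnit.of_mul_eq_one (Ideal.Quotient.mk J (2 * b - 1)) ?_
      simp only [map_sub, map_mul, map_ofNat, map_one]
      linear_combination 4 * he
    obtain ⟨a, ha, hab⟩ := HenselianRing.is_henselian (I := J) _
      (Polynomial.monic_X_pow_sub (Polynomial.degree_X_le.trans_lt (by norm_num))) b hroot hder
    have ha' : IsIdempotentElem a := by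
      have h2 : a ^ 2 - a = 0 := by simpa using ha
      show a * a = a
      linear_combination h2
    rw [← (Ideal.Quotient.mk_eq_mk_iff_sub_mem a b).2 hab]
    exact (hidem a ha').imp (fun h => by rw [h, map_zero]) (fun h => by rw [h, map_one])
  haveI : _root_.IsReduced (B ⧸ J) := (Ideal.isRadical_iff_quotient_reduced J).1 hred
  have hdom : ∀ b : B ⧸ J, b = 0 ∨ IsUnit b := by
    intro b
    obtain ⟨n, y, hy⟩ := IsArtinian.exists_pow_succ_smul_dvd b (1 : B ⧸ J)
    rw [smul_eq_mul, smul_eq_mul, mul_one, Nat.succ_eq_add_one] at hy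
    have hk : ∀ k : ℕ, b ^ (n + k) * y ^ k = b ^ n := by
      intro k
      induction k with
      | zero => simp
      | succ k ih =>
        calc b ^ (n + (k + 1)) * y ^ (k + 1) = (b ^ (n + 1) * y) * (b ^ k * y ^ k) := by ring
          _ = b ^ n := by rw [hy, ← mul_assoc, ← pow_add, ih]
    have he : ((y * b) ^ n) * ((y * b) ^ n) = (y * b) ^ n := by
      calc ((y * b) ^ n) * ((y * b) ^ n) = y ^ n * (b ^ (n + n) * y ^ n) := by ring
        _ = (y * b) ^ n := by rw [hk n, mul_pow]
    rcases hidem' _ he with h | h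
    · left
      refine IsReduced.eq_zero b ⟨n, ?_⟩
      calc b ^ n = b ^ (n + n) * y ^ n := (hk n).symm
        _ = b ^ n * (y * b) ^ n := by ring
        _ = 0 := by rw [h, mul_zero]
    · by_cases hn : n = 0
      · subst hn
        exact .inr (IsUnit.of_mul_eq_one y (by simpa using hy))
      · exact .inr (isUnit_of_mul_isUnit_right ((isUnit_pow_iff hn).1 (h ▸ isUnit_one)))
  have hsurj : Function.Surjective (algebraMap (ResidueField A) (B ⧸ J)) := by
    rcases subsingleton_or_nontrivial (B ⧸ J) with h | h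
    · exact fun x => ⟨0, Subsingleton.elim _ _⟩
    · haveI : IsDomain (B ⧸ J) := by
        refine @NoZeroDivisors.to_isDomain _ _ h ⟨fun {a b} hab => ?_⟩
        rcases hdom a with ha | ha
        · exact .inl ha
        · exact .inr (ha.mul_right_eq_zero.1 hab)
      exact IsAlgClosed.algebraMap_bijective_of_isIntegral.2
  have htop : (⊤ : Submodule A B) ≤ LinearMap.range (Algebra.linearMap A B) ⊔ maximalIdeal A • ⊤ := by
    intro b _
    obtain ⟨c, hc⟩ := hsurj (Ideal.Quotient.mk J b)
    obtain ⟨a, rfl⟩ := residue_surjective c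
    have hmem : b - algebraMap A B a ∈ J :=
      Ideal.Quotient.eq.1 hc.symm
    rw [Ideal.smul_top_eq_map]
    exact Submodule.mem_sup.2 ⟨_, ⟨a, rfl⟩, _, hmem, by simp⟩
  have h1 := Submodule.le_of_le_smul_of_le_jacobson_bot (N' := (⊤ : Submodule A B)) Module.Finite.fg_top
    (IsLocalRing.maximalIdeal_le_jacobson ⊥) htop
  exact fun b => h1 trivial

variable {A : Type u} [CommRing A] [IsDomain A] [IsDiscreteValuationRing A]
  {X : Scheme.{u}} (f : X ⟶ Spec (CommRingCat.of A))

/-- Global functions on a flat scheme with reduced special fibre have radical special ideal. -/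
theorem mem_span_of_pow_mem_global [Flat f] (hred : AlgebraicGeometry.IsReduced (f.fiber (closedPoint A))) {ϖ : A}
    (hϖ : Irreducible ϖ) (b : Γ(X, ⊤)) (n : ℕ) (hb : b ^ n ∈ Ideal.span {DVRFamilyLib.str f ⊤ ϖ}) :
    b ∈ Ideal.span {DVRFamilyLib.str f ⊤ ϖ} := by
  let π : ∀ U : X.Opens, Γ(X, U) := fun U => DVRFamilyLib.str f U ϖ
  have hres : ∀ {U V : X.Opens} (h : U ≤ V), X.presheaf.map (homOfLE h).op (π V) = π U := fun h =>
    DVRFamilyLib.str_res f h ϖ
  have hreg : ∀ (U : X.Opens), IsAffineOpen U → ∀ c d : Γ(X, U), c * π U = d * π U → c = d := by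
    intro U hU c d hcd
    letI := (DVRFamilyLib.str f U).toAlgebra
    haveI : Module.Flat A Γ(X, U) := DVRFamilyLib.flat_str f hU
    exact Module.Flat.isSMulRegular_of_nonZeroDivisors (M := Γ(X, U)) (mem_nonZeroDivisors_of_ne_zero hϖ.ne_zero)
      (show ϖ • c = ϖ • d by rw [Algebra.smul_def, Algebra.smul_def, mul_comm, mul_comm _ d]; exact hcd)
  have hloc : ∀ U : X.affineOpens, ∃ t : Γ(X, U.1), t * π U.1 = X.presheaf.map (homOfLE (le_top : U.1 ≤ ⊤)).op b := by
    intro U
    obtain ⟨c, hc⟩ := Ideal.mem_span_singleton'.1 hb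
    exact Ideal.mem_span_singleton'.1 (DVRFamilyLib.mem_span_of_pow_mem f ϖ hϖ.maximalIdeal_eq hred U.2 _ n
      (Ideal.mem_span_singleton'.2 ⟨X.presheaf.map (homOfLE (le_top : U.1 ≤ ⊤)).op c, by
        rw [← DVRFamilyLib.str_res f (le_top : U.1 ≤ ⊤) ϖ, ← map_mul, hc, map_pow]⟩))
  choose t ht using hloc
  have hcompat : TopCat.Presheaf.IsCompatible X.presheaf (fun U : X.affineOpens => U.1) t := by
    intro U V
    refine X.sheaf.eq_of_locally_eq' (fun W : {W : X.affineOpens // W.1 ≤ U.1 ⊓ V.1} => W.1.1) (U.1 ⊓ V.1)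
      (fun W => homOfLE W.2) ?_ _ _ fun W => hreg W.1.1 W.1.2 _ _ ?_
    · intro x hx
      obtain ⟨W, hW, hxW, hWle⟩ := exists_isAffineOpen_mem_and_subset (U := U.1 ⊓ V.1) hx
      exact Opens.mem_iSup.2 ⟨⟨⟨W, hW⟩, hWle⟩, hxW⟩
    · have key : ∀ Z : X.affineOpens, ∀ h : W.1.1 ≤ Z.1,
          X.presheaf.map (homOfLE h).op (t Z) * π W.1.1 = X.presheaf.map (homOfLE (le_top : W.1.1 ≤ ⊤)).op b := by
        intro Z h
        rw [← hres h, ← map_mul, ht Z, ← CommRingCat.comp_apply, ← X.presheaf.map_comp]
        rfl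
      have h1 := key U (W.2.trans inf_le_left)
      have h2 := key V (W.2.trans inf_le_right)
      change (X.presheaf.map _ (X.presheaf.map _ (t U))) * _ = (X.presheaf.map _ (X.presheaf.map _ (t V))) * _
      rw [← CommRingCat.comp_apply, ← X.presheaf.map_comp, ← CommRingCat.comp_apply, ← X.presheaf.map_comp]
      exact h1.trans h2.symm
  have hcov : (⊤ : X.Opens) ≤ ⨆ U : X.affineOpens, U.1 := (iSup_affineOpens_eq_top X).ge
  obtain ⟨s, hs, -⟩ := X.sheaf.existsUnique_gluing' (fun U : X.affineOpens => U.1) ⊤ (fun U => homOfLE le_top) hcov t hcompat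
  let s' : Γ(X, ⊤) := s
  refine Ideal.mem_span_singleton'.2 ⟨s', X.sheaf.eq_of_locally_eq' (fun U : X.affineOpens => U.1) ⊤
    (fun U => homOfLE le_top) hcov _ _ fun U => ?_⟩
  change X.presheaf.map _ (s' * π ⊤) = X.presheaf.map _ b
  rw [map_mul, hres (le_top : U.1 ≤ ⊤)]
  exact (congrArg (· * π U.1) (hs U)).trans (ht U)

/-- A connected proper flat scheme over a complete discrete valuation ring with algebraically closed residue field and
reduced special fibre has geometrically connected fibres. -/
theorem geometricallyConnected_of_connected [IsAdicComplete (maximalIdeal A) A] [IsAlgClosed (ResidueField A)]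
    [IsProper f] [Flat f] [ConnectedSpace X] (hred : AlgebraicGeometry.IsReduced (f.fiber (closedPoint A))) :
    GeometricallyConnected f := by
  obtain ⟨ϖ, hϖ⟩ := IsDiscreteValuationRing.exists_irreducible A
  letI : Algebra A Γ(X, ⊤) := (DVRFamilyLib.str f ⊤).toAlgebra
  haveI : Module.Finite A Γ(X, ⊤) := by
    show (DVRFamilyLib.str f ⊤).Finite
    refine RingHom.Finite.comp ?_ (RingHom.Finite.of_surjective _
      (ConcreteCategory.bijective_of_isIso (Scheme.ΓSpecIso (CommRingCat.of A)).inv).2)
    rw [show f.appLE ⊤ ⊤ _ = f.app ⊤ from (Scheme.Hom.app_eq_appLE (f := f) (U := ⊤)).symm]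
    exact S1297.finite_app f (isAffineOpen_top _)
  have hidem : ∀ e : Γ(X, ⊤), IsIdempotentElem e → e = 0 ∨ e = 1 := by
    intro e he
    have hcl : IsClopen (X.basicOpen e : Set X) := by
      refine ⟨⟨?_⟩, (X.basicOpen e).2⟩
      convert! (X.basicOpen (1 - e)).2 using 1
      ext x
      show x ∉ X.basicOpen e ↔ x ∈ X.basicOpen (1 - e)
      rw [X.mem_basicOpen_top, X.mem_basicOpen_top, map_sub, map_one]
      refine ⟨fun h => (IsLocalRing.isUnit_or_isUnit_one_sub_self _).resolve_left h, fun h h' => ?_⟩
      have h0 := he.map (X.presheaf.germ ⊤ x trivial).hom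
      have h1 := h'.mul h
      rw [mul_sub, mul_one, h0.eq, sub_self] at h1
      exact not_isUnit_zero h1
    rcases isClopen_iff.1 hcl with h | h
    · left
      have hu : IsUnit (1 - e) := by
        refine RingedSpace.isUnit_of_isUnit_germ X.toRingedSpace ⊤ (1 - e) fun x hx => ?_
        refine (IsLocalRing.isUnit_or_isUnit_one_sub_self ((X.presheaf.germ ⊤ x hx) e)).elim (fun h' => ?_) fun h' => ?_
        · exact ((Set.ext_iff.1 h x).1 ((X.mem_basicOpen_top e x).2 h')).elim
        · exact (show IsUnit ((X.presheaf.germ ⊤ x hx) (1 - e)) by rwa [map_sub, map_one])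
      refine hu.mul_left_eq_zero.1 ?_
      rw [mul_sub, mul_one, he.eq, sub_self]
    · right
      have hu : IsUnit e :=
        RingedSpace.isUnit_of_isUnit_germ X.toRingedSpace ⊤ e fun x hx =>
          (X.mem_basicOpen_top e x).1 ((Set.ext_iff.1 h x).2 trivial)
      exact hu.mul_left_cancel (by rw [he.eq, mul_one])
  have hspan : (maximalIdeal A).map (algebraMap A Γ(X, ⊤)) = Ideal.span {DVRFamilyLib.str f ⊤ ϖ} := by
    rw [hϖ.maximalIdeal_eq, Ideal.map_span, Set.image_singleton]
    rfl
  have hsurj : Function.Surjective (algebraMap A Γ(X, ⊤)) := by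
    refine surjective_algebraMap_of_idem ?_ hidem
    rw [hspan]
    rintro b ⟨n, hn⟩
    exact mem_span_of_pow_mem_global f hred hϖ b n hn
  obtain ⟨x₀⟩ := (inferInstance : Nonempty X)
  have hinj : Function.Injective (algebraMap A Γ(X, ⊤)) := by
    refine (injective_iff_map_eq_zero _).2 fun a ha => by_contra fun ha0 => ?_
    obtain ⟨U, hU, hxU, -⟩ := exists_isAffineOpen_mem_and_subset (X := X) (x := x₀) (U := ⊤) trivial
    letI := (DVRFamilyLib.str f U).toAlgebra
    haveI : Module.Flat A Γ(X, U) := DVRFamilyLib.flat_str f hU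
    have h1 : DVRFamilyLib.str f U a = 0 := by
      rw [← DVRFamilyLib.str_res f (le_top : U ≤ ⊤), show DVRFamilyLib.str f ⊤ a = 0 from ha, map_zero]
    have h2 : (1 : Γ(X, U)) = 0 :=
      Module.Flat.isSMulRegular_of_nonZeroDivisors (M := Γ(X, U)) (mem_nonZeroDivisors_of_ne_zero ha0)
        (show a • (1 : Γ(X, U)) = a • (0 : Γ(X, U)) by rw [smul_zero, Algebra.smul_def, mul_one]; exact h1)
    haveI : Nonempty ↥U := ⟨⟨x₀, hxU⟩⟩
    exact one_ne_zero h2
  haveI : IsIso f.appTop := by
    rw [ConcreteCategory.isIso_iff_bijective]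
    have hb := (show Function.Bijective (algebraMap A Γ(X, ⊤)) from ⟨hinj, hsurj⟩).comp
      (ConcreteCategory.bijective_of_isIso (Scheme.ΓSpecIso (CommRingCat.of A)).hom)
    convert hb using 1
    funext a
    show _ = f.appLE ⊤ ⊤ _ ((Scheme.ΓSpecIso (CommRingCat.of A)).inv ((Scheme.ΓSpecIso (CommRingCat.of A)).hom a))
    rw [Iso.hom_inv_id_apply]
    show f.app ⊤ a = _
    rw [Scheme.Hom.app_eq_appLE]
    rfl
  haveI : IsIso f.fromNormalization.appTop := by
    haveI : IsIso f.toNormalization.appTop := NormalizationLemmas.isIso_toNormalization_app f ⊤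
    haveI : IsIso (f.fromNormalization.appTop ≫ f.toNormalization.appTop) := by
      rw [← Scheme.Hom.comp_appTop, f.toNormalization_fromNormalization]
      infer_instance
    exact IsIso.of_isIso_comp_right _ f.toNormalization.appTop
  haveI : IsFinite f.fromNormalization := S1297.result f
  haveI : IsAffine f.normalization := isAffine_of_isAffineHom f.fromNormalization
  haveI : IsIso f.fromNormalization := by
    have h1 := Scheme.isoSpec_hom_naturality f.fromNormalization
    haveI : IsIso (f.fromNormalization ≫ (Spec (CommRingCat.of A)).isoSpec.hom) := h1 ▸ inferInstance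
    exact IsIso.of_isIso_comp_right f.fromNormalization (Spec (CommRingCat.of A)).isoSpec.hom
  have h := SteinConn.geometricallyConnected_toNormalization f
  rw [← f.toNormalization_fromNormalization]
  exact (MorphismProperty.cancel_right_of_respectsIso (P := @GeometricallyConnected) _ _).2 h

end Groth.Agent.GenIrredLib
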