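import Mathlib
import Groth.Prelude.Def_FDesc

/-!
# Geometrically reduced schemes over a field at their points
-/

set_option autoImplicit false
set_option backward.isDefEq.respectTransparency false
set_option linter.style.haveILetI false

universe u

open CategoryTheory CategoryTheory.Limits AlgebraicGeometry

namespace Groth.Agent.GenIrredLib

/-- A geometrically reduced scheme over a field is geometrically reduced at every point. -/
theorem isGeomReducedAt_of_geometricallyReduced {k : Type u} [Field k] {X : Scheme.{u}}
    {f : X ⟶ Spec (CommRingCat.of k)} (h : GeometricallyReduced f) (x : X) : FBase.IsGeomReducedAt f x := by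
  intro K _ _ x' _
  haveI : AlgebraicGeometry.IsReduced (FBase.bc f K) :=
    h.geometrically_isReduced _ _ _ (IsPullback.of_hasPullback f (Spec.map (CommRingCat.ofHom (algebraMap k K))))
  infer_instance

end Groth.Agent.GenIrredLib
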