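import Mathlib
import Groth.Prelude.Def_MoreMor
import Groth.Agent.GeomIrred.Connected

/-!
# Section components: base change
-/

set_option autoImplicit false
set_option linter.style.haveILetI false

universe u

open CategoryTheory CategoryTheory.Limits AlgebraicGeometry Topology

namespace Groth.Agent.GenIrredLib

/-- Connected components of an embedded set. -/
theorem connectedComponentIn_range {A B : Type*} [TopologicalSpace A] [TopologicalSpace B] {e : A → B}
    (he : IsEmbedding e) (a : A) : connectedComponentIn (Set.range e) (e a) = e '' connectedComponent a := by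
  refine subset_antisymm (fun b hb => ?_) ?_
  · obtain ⟨a', rfl⟩ := connectedComponentIn_subset _ _ hb
    refine Set.mem_image_of_mem _ ?_
    have hpre : _root_.IsPreconnected (e ⁻¹' connectedComponentIn (Set.range e) (e a)) := by
      refine he.isInducing.isPreconnected_image.1 ?_
      rw [Set.image_preimage_eq_inter_range, Set.inter_eq_left.2 (connectedComponentIn_subset _ _)]
      exact isPreconnected_connectedComponentIn
    exact hpre.subset_connectedComponent (mem_connectedComponentIn ⟨a, rfl⟩) hb
  · exact (isPreconnected_connectedComponent.image e he.continuous.continuousOn).subset_connectedComponentIn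
      (Set.mem_image_of_mem _ mem_connectedComponent) (Set.image_subset_range _ _)

/-- The preimage of the connected component of a rational point is the connected component of the induced point. -/
theorem connectedComponent_preimage {k K : Type u} [Field k] [Field K] {X P : Scheme.{u}}
    {p : X ⟶ Spec (CommRingCat.of k)} {p' : P ⟶ Spec (CommRingCat.of K)} {m : P ⟶ X}
    {w : Spec (CommRingCat.of K) ⟶ Spec (CommRingCat.of k)} (H : IsPullback m p' p w)
    {σ₀ : Spec (CommRingCat.of k) ⟶ X} (hσ₀ : σ₀ ≫ p = 𝟙 _) {σ : Spec (CommRingCat.of K) ⟶ P}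
    (hc : σ ≫ m = w ≫ σ₀) :
    connectedComponent (σ (IsLocalRing.closedPoint K)) = m ⁻¹' connectedComponent (σ₀ (IsLocalRing.closedPoint k)) := by
  letI : Algebra k K := (Spec.preimage w).hom.toAlgebra
  have hw : w = Spec.map (CommRingCat.ofHom (algebraMap k K)) := (Spec.map_preimage w).symm
  let x₀ := σ₀ (IsLocalRing.closedPoint k)
  have hY : ∀ (L : Type u) [Field L] [Algebra k L] [FiniteDimensional k L] [Algebra.IsSeparable k L],
      _root_.IsPreconnected (pullback.fst p (Spec.map (CommRingCat.ofHom (algebraMap k L))) ⁻¹' {x₀}) := by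
    intro L _ _ _ _
    let wL := Spec.map (CommRingCat.ofHom (algebraMap k L))
    let τ : Spec (CommRingCat.of L) ⟶ pullback p wL :=
      pullback.lift (wL ≫ σ₀) (𝟙 _) (by rw [Category.assoc, hσ₀, Category.comp_id, Category.id_comp])
    have hτ : IsPullback τ wL (pullback.fst p wL) σ₀ := by
      refine IsPullback.of_right ?_ (pullback.lift_fst _ _ _) (IsPullback.of_hasPullback p wL).flip
      have h1 : τ ≫ pullback.snd p wL = 𝟙 _ := pullback.lift_snd _ _ _
      rw [h1, hσ₀]
      exact IsPullback.of_horiz_isIso ⟨by simp⟩
    refine Set.Subsingleton.isPreconnected fun z hz z' hz' => ?_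
    have key : ∀ z, pullback.fst p wL z = x₀ → z = τ (IsLocalRing.closedPoint L) := fun z hz => by
      have hmem : z ∈ Set.range (pullback.fst (pullback.fst p wL) σ₀) := by
        rw [Scheme.Pullback.range_fst]
        exact ⟨_, hz.symm⟩
      obtain ⟨t, rfl⟩ := hmem
      rw [← hτ.isoPullback.inv_hom_id_assoc (pullback.fst (pullback.fst p wL) σ₀), hτ.isoPullback_hom_fst,
        Scheme.Hom.comp_apply]
      exact congrArg τ (Subsingleton.elim (α := PrimeSpectrum L) _ _)
    rw [key z hz, key z' hz']
  have hconn := GeomIrred.isConnected_preimage_of_subset p isClosed_connectedComponent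
    isConnected_connectedComponent (Set.singleton_subset_iff.2 mem_connectedComponent) ⟨x₀, rfl⟩ hY K
  have hpre : _root_.IsPreconnected (m ⁻¹' connectedComponent x₀) := by
    have H' : IsPullback m p' p (Spec.map (CommRingCat.ofHom (algebraMap k K))) := hw ▸ H
    let e := H'.isoPullback
    have h1 : m ⁻¹' connectedComponent x₀ = e.hom.homeomorph ⁻¹'
        (pullback.fst p (Spec.map (CommRingCat.ofHom (algebraMap k K))) ⁻¹' connectedComponent x₀) := by
      ext z
      show m z ∈ connectedComponent x₀ ↔ pullback.fst p _ (e.hom z) ∈ connectedComponent x₀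
      rw [← Scheme.Hom.comp_apply, H'.isoPullback_hom_fst]
    rw [h1]
    exact e.hom.homeomorph.isPreconnected_preimage.2 hconn.isPreconnected
  have hpt : m (σ (IsLocalRing.closedPoint K)) = x₀ := by
    rw [← Scheme.Hom.comp_apply, hc, Scheme.Hom.comp_apply]
    exact congrArg σ₀ (Subsingleton.elim (α := PrimeSpectrum k) _ _)
  refine subset_antisymm (fun z hz => ?_) (hpre.subset_connectedComponent (by
    rw [Set.mem_preimage, hpt]; exact mem_connectedComponent))
  exact (isPreconnected_connectedComponent.image m m.continuous.continuousOn).subset_connectedComponent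
    ⟨_, mem_connectedComponent, hpt⟩ ⟨z, hz, rfl⟩

variable {X Y : Scheme.{u}} (f : X ⟶ Y) (s : Y ⟶ X) (hs : s ≫ f = 𝟙 Y)

/-- The rational point of a fibre given by a section. -/
noncomputable def fibreSection (y : Y) : Spec (Y.residueField y) ⟶ f.fiber y :=
  pullback.lift (Y.fromSpecResidueField y ≫ s) (𝟙 _) (by rw [Category.assoc, hs, Category.comp_id, Category.id_comp])

theorem fibreSection_ι (y : Y) : fibreSection f s hs y ≫ f.fiberι y = Y.fromSpecResidueField y ≫ s :=
  pullback.lift_fst _ _ _

theorem fibreSection_snd (y : Y) : fibreSection f s hs y ≫ f.fiberToSpecResidueField y = 𝟙 _ :=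
  pullback.lift_snd _ _ _

theorem fiberι_fibreSection (y : Y) (z : ↥(Spec (Y.residueField y))) :
    f.fiberι y (fibreSection f s hs y z) = s y := by
  rw [← Scheme.Hom.comp_apply, fibreSection_ι, Scheme.Hom.comp_apply, Scheme.fromSpecResidueField_apply]

/-- Section components on a fibre. -/
theorem fiberι_mem_sectionComponents_iff (y : Y) (z : f.fiber y) :
    f.fiberι y z ∈ MoreMor.sectionComponents f s ↔
      z ∈ connectedComponent (fibreSection f s hs y (IsLocalRing.closedPoint (Y.residueField y))) := by
  let pt : ↥(Spec (Y.residueField y)) := IsLocalRing.closedPoint (Y.residueField y)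
  have hy : f (f.fiberι y z) = y := (f.range_fiberι y).le ⟨z, rfl⟩
  show f.fiberι y z ∈ connectedComponentIn (f ⁻¹' {f (f.fiberι y z)}) (s (f (f.fiberι y z))) ↔
    z ∈ connectedComponent (fibreSection f s hs y pt)
  rw [hy, ← f.range_fiberι y, ← fiberι_fibreSection f s hs y pt,
    connectedComponentIn_range (f.fiberι y).isEmbedding]
  exact (f.fiberι y).isEmbedding.injective.mem_set_image

include hs in
/-- The section components are compatible with base change. -/
theorem sectionComponents_baseChange {X' Y' : Scheme.{u}} (f' : X' ⟶ Y') (g' : X' ⟶ X) (g : Y' ⟶ Y)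
    (hc : IsPullback g' f' f g) (s' : Y' ⟶ X') (hs' : s' ≫ f' = 𝟙 Y') (hs'g : s' ≫ g' = g ≫ s) :
    MoreMor.sectionComponents f' s' = g' ⁻¹' MoreMor.sectionComponents f s := by
  ext x'
  obtain ⟨y', z, rfl⟩ : ∃ (y' : Y') (z : f'.fiber y'), f'.fiberι y' z = x' := ⟨f' x', f'.asFiber x', f'.fiberι_asFiber x'⟩
  have H := isPullback_fiberToSpecResidueField_of_isPullback hc y'
  let m : f'.fiber y' ⟶ f.fiber (g y') := pullback.map _ _ _ _ g' (Spec.map (g.residueFieldMap y')) g hc.w.symm
    (by simp)
  have hm : m ≫ f.fiberι (g y') = f'.fiberι y' ≫ g' := pullback.lift_fst _ _ _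
  have hm2 : m ≫ f.fiberToSpecResidueField (g y') = f'.fiberToSpecResidueField y' ≫ Spec.map (g.residueFieldMap y') :=
    pullback.lift_snd _ _ _
  have hσ : fibreSection f' s' hs' y' ≫ m = Spec.map (g.residueFieldMap y') ≫ fibreSection f s hs (g y') := by
    apply pullback.hom_ext
    · show (fibreSection f' s' hs' y' ≫ m) ≫ f.fiberι (g y') = (_ ≫ fibreSection f s hs (g y')) ≫ f.fiberι (g y')
      rw [Category.assoc, hm, ← Category.assoc, fibreSection_ι, Category.assoc, hs'g, Category.assoc, fibreSection_ι,
        ← Category.assoc, ← Category.assoc, Scheme.Hom.SpecMap_residueFieldMap_fromSpecResidueField]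
    · show (fibreSection f' s' hs' y' ≫ m) ≫ f.fiberToSpecResidueField (g y') =
        (_ ≫ fibreSection f s hs (g y')) ≫ f.fiberToSpecResidueField (g y')
      rw [Category.assoc, hm2, ← Category.assoc, fibreSection_snd, Category.id_comp, Category.assoc, fibreSection_snd,
        Category.comp_id]
  have key := connectedComponent_preimage (k := Y.residueField (g y')) (K := Y'.residueField y') H
    (σ₀ := fibreSection f s hs (g y')) (fibreSection_snd f s hs _) (σ := fibreSection f' s' hs' y') hσ
  show f'.fiberι y' z ∈ MoreMor.sectionComponents f' s' ↔ g' (f'.fiberι y' z) ∈ MoreMor.sectionComponents f s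
  rw [fiberι_mem_sectionComponents_iff f' s' hs', ← Scheme.Hom.comp_apply, ← hm, Scheme.Hom.comp_apply,
    fiberι_mem_sectionComponents_iff f s hs]
  exact Iff.of_eq (congrArg (fun S : Set ↥(f'.fiber y') => z ∈ S) key)

end Groth.Agent.GenIrredLib
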