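import Mathlib
import Groth.Agent.GenIrredLib.Near
import Groth.Agent.GenIrredLib.SectionBC

/-!
# Section components near the generic point
-/

set_option autoImplicit false
set_option linter.style.haveILetI false

universe u

open CategoryTheory CategoryTheory.Limits AlgebraicGeometry Topology

namespace Groth.Agent.GenIrredLib

/-- Connected components of a Noetherian space are open. -/
theorem isOpen_connectedComponent_of_noetherian {T : Type*} [TopologicalSpace T] [TopologicalSpace.NoetherianSpace T]
    (x : T) : IsOpen (connectedComponent x) := by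
  have h : (connectedComponent x)ᶜ = ⋃₀ {W | W ∈ irreducibleComponents T ∧ Disjoint W (connectedComponent x)} := by
    refine Set.ext fun y => ⟨fun hy => ?_, ?_⟩
    · refine ⟨irreducibleComponent y, ⟨irreducibleComponent_mem_irreducibleComponents y, ?_⟩, mem_irreducibleComponent⟩
      refine Set.disjoint_left.2 fun z hz hzx => hy ?_
      rw [connectedComponent_eq hzx]
      exact isIrreducible_irreducibleComponent.isConnected.isPreconnected.subset_connectedComponent hz mem_irreducibleComponent
    · rintro ⟨W, ⟨-, hd⟩, hyW⟩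
      exact Set.disjoint_left.1 hd hyW
  rw [← compl_compl (connectedComponent x), isOpen_compl_iff, h, Set.sUnion_eq_biUnion]
  have hfin : {W | W ∈ irreducibleComponents T ∧ Disjoint W (connectedComponent x)}.Finite :=
    (TopologicalSpace.NoetherianSpace.finite_irreducibleComponents (α := T)).subset fun W hW => hW.1
  exact hfin.isClosed_biUnion fun W hW => isClosed_of_mem_irreducibleComponents W hW.1

variable {X Y : Scheme.{u}} (f : X ⟶ Y) (s : Y ⟶ X) (hs : s ≫ f = 𝟙 Y)

/-- The connected component cut out on a fibre. -/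
theorem preimage_fiberι_sectionComponents (y : Y) :
    f.fiberι y ⁻¹' MoreMor.sectionComponents f s =
      connectedComponent (fibreSection f s hs y (IsLocalRing.closedPoint (Y.residueField y))) :=
  Set.ext fun z => fiberι_mem_sectionComponents_iff f s hs y z

include hs in
/-- The trace on a fibre of the section components is connected. -/
theorem isPreconnected_sectionComponents_inter (y : Y) :
    _root_.IsPreconnected (MoreMor.sectionComponents f s ∩ f ⁻¹' {y}) := by
  rw [← f.range_fiberι y, ← Set.image_preimage_eq_inter_range, preimage_fiberι_sectionComponents f s hs y]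
  exact isPreconnected_connectedComponent.image _ (f.fiberι y).continuous.continuousOn

include hs in
/-- The section components are clopen over a neighbourhood of the generic point. -/
theorem exists_clopen_sectionComponents [IrreducibleSpace Y] [LocallyOfFiniteType f] [QuasiCompact f] :
    ∃ V : Y.Opens, genericPoint Y ∈ V ∧
      IsClopen (Subtype.val ⁻¹' MoreMor.sectionComponents f s : Set ↑(f ⁻¹' (V : Set Y))) := by
  let η := genericPoint Y
  haveI : TopologicalSpace.NoetherianSpace ↥(f.fiber η) := by
    haveI : LocallyOfFiniteType (f.fiberToSpecResidueField η) :=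
      MorphismProperty.pullback_snd (P := @LocallyOfFiniteType) _ _ inferInstance
    haveI : IsLocallyNoetherian (f.fiber η) := LocallyOfFiniteType.isLocallyNoetherian (f.fiberToSpecResidueField η)
    haveI : CompactSpace ↥(f.fiber η) := QuasiCompact.compactSpace_of_compactSpace (f.fiberToSpecResidueField η)
    haveI : AlgebraicGeometry.IsNoetherian (f.fiber η) := ⟨⟩
    infer_instance
  let ι := f.fiberι η
  let C := connectedComponent (fibreSection f s hs η (IsLocalRing.closedPoint (Y.residueField η)))
  have hCo : IsOpen C := isOpen_connectedComponent_of_noetherian _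
  have hpre : ι ⁻¹' MoreMor.sectionComponents f s = C := preimage_fiberι_sectionComponents f s hs η
  have hclos : ∀ S : Set ↥(f.fiber η), IsClosed S → ι ⁻¹' closure (ι '' S) = S := fun S hS => by
    rw [← ι.isEmbedding.closure_eq_preimage_closure_image, hS.closure_eq]
  let Cb : Set X := closure (ι '' C)
  let Db : Set X := closure (ι '' Cᶜ)
  have hCb : ι ⁻¹' Cb = C := hclos C isClosed_connectedComponent
  have hDb : ι ⁻¹' Db = Cᶜ := hclos Cᶜ hCo.isClosed_compl
  have hlift : ∀ x, f x = η → ∃ z, ι z = x := fun x hx => (f.range_fiberι η).ge hx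
  obtain ⟨V₁, hV₁, H₁⟩ := NearGen.exists_subset f (Cb ∪ Db) (isClosed_closure.union isClosed_closure) fun x hx => by
    obtain ⟨z, rfl⟩ := hlift x hx
    by_cases hz : z ∈ C
    · exact .inl (subset_closure (Set.mem_image_of_mem _ hz))
    · exact .inr (subset_closure (Set.mem_image_of_mem _ hz))
  obtain ⟨V₂, hV₂, H₂⟩ := NearGen.exists_disjoint f (Cb ∩ Db) (isClosed_closure.inter isClosed_closure) fun x hx hxCD => by
    obtain ⟨z, rfl⟩ := hlift x hx
    exact (hDb.le hxCD.2) (hCb.le hxCD.1)
  -- the closed subscheme on `Cb`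
  obtain ⟨Z, i, _, hi⟩ : ∃ (Z : Scheme.{u}) (i : Z ⟶ X), IsClosedImmersion i ∧ Set.range i = Cb :=
    ⟨_, (Scheme.IdealSheafData.vanishingIdeal ⟨Cb, isClosed_closure⟩).subschemeι, inferInstance, by
      rw [Scheme.IdealSheafData.range_subschemeι, Scheme.IdealSheafData.coe_support_vanishingIdeal]; rfl⟩
  have hone : (nGeom (i ≫ f) η).2 = 1 := by
    obtain ⟨L, hL, hsep, z, hz⟩ := exists_point_over η
    rw [show nGeom (i ≫ f) η = counts ↥(pullback (i ≫ f) z) from (counts_eq_nGeom (i ≫ f) L z η hz).symm]
    show ENat.card (_root_.ConnectedComponents ↥(pullback (i ≫ f) z)) = 1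
    rw [card_connectedComponents_eq_one_iff]
    let j := pullback.map (i ≫ f) z f z i (𝟙 _) (𝟙 _) (by simp) (by simp)
    haveI : IsClosedImmersion j := GeomIrred.isClosedImmersion_map_of_comp i f z
    let σ : Spec (CommRingCat.of L) ⟶ pullback f z :=
      pullback.lift (z ≫ s) (𝟙 _) (by rw [Category.assoc, hs, Category.comp_id, Category.id_comp])
    have hbc := sectionComponents_baseChange f s hs (pullback.snd f z) (pullback.fst f z) z
      (IsPullback.of_hasPullback f z) σ (pullback.lift_snd _ _ _) (pullback.lift_fst _ _ _)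
    have huniv : ∀ t : ↥(pullback f z), pullback.snd f z t = IsLocalRing.closedPoint L :=
      fun t => Subsingleton.elim (α := PrimeSpectrum L) _ _
    have hSC : MoreMor.sectionComponents (pullback.snd f z) σ =
        connectedComponent (σ (IsLocalRing.closedPoint L)) := by
      refine Set.ext fun t => ?_
      show t ∈ connectedComponentIn ((pullback.snd f z) ⁻¹' {pullback.snd f z t}) (σ (pullback.snd f z t)) ↔ _
      rw [huniv t]
      exact Iff.of_eq (congrArg (t ∈ ·) ((congrArg₂ connectedComponentIn
        (Set.eq_univ_of_forall huniv) rfl).trans (connectedComponentIn_univ _)))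
    have hrange : Set.range j = connectedComponent (σ (IsLocalRing.closedPoint L)) := by
      rw [← hSC, hbc, Scheme.Pullback.range_map, Scheme.Hom.id_base, TopCat.coe_id, Set.range_id, Set.preimage_univ,
        Set.inter_univ, hi]
      ext t
      obtain ⟨w, hw⟩ := hlift (pullback.fst f z t) (by
        rw [← Scheme.Hom.comp_apply, pullback.condition, Scheme.Hom.comp_apply, huniv, hz])
      simp only [Set.mem_preimage, ← hw]
      rw [← Set.mem_preimage (f := ι), ← Set.mem_preimage (f := ι), hpre, hCb]
    have hc : _root_.IsConnected (Set.range j) := hrange ▸ isConnected_connectedComponent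
    haveI := isConnected_iff_connectedSpace.mp hc
    exact j.isEmbedding.toHomeomorph.connectedSpace_iff.mpr ‹_›
  obtain ⟨V₃, hV₃, H₃⟩ := exists_nGeom_const_near (i ≫ f) η
  let V := V₁ ⊓ V₂ ⊓ V₃
  have hsCb : ∀ y, s y ∈ Cb := fun y => by
    have h1 : s η ⤳ s y := (genericPoint_specializes y).map s.continuous
    refine isClosed_closure.stableUnderSpecialization h1 (subset_closure ⟨_, mem_connectedComponent, ?_⟩)
    exact fiberι_fibreSection f s hs η _
  have hSCV : ∀ x, f x ∈ V → (x ∈ MoreMor.sectionComponents f s ↔ x ∈ Cb) := by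
    intro x hx
    let y := f x
    have hconn : _root_.IsPreconnected (Cb ∩ f ⁻¹' {y}) := by
      haveI : GeometricallyConnected ((i ≫ f).fiberToSpecResidueField y) :=
        (geometricallyConnected_fiber_iff (i ≫ f) y).2
          ((congrArg Prod.snd (H₃ y hx.2 (genericPoint_specializes _))).trans hone)
      haveI : Subsingleton ↥(Spec (Y.residueField y)) :=
        inferInstanceAs (Subsingleton (PrimeSpectrum (Y.residueField y)))
      haveI : Nonempty ↥(Spec (Y.residueField y)) := inferInstanceAs (Nonempty (PrimeSpectrum (Y.residueField y)))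
      haveI : ConnectedSpace ↥((i ≫ f).fiber y) :=
        GeometricallyConnected.connectedSpace_of_subsingleton ((i ≫ f).fiberToSpecResidueField y)
      have heq : Cb ∩ f ⁻¹' {y} = Set.range fun w => i ((i ≫ f).fiberι y w) := by
        rw [← hi, show (fun w => i ((i ≫ f).fiberι y w)) = i ∘ (i ≫ f).fiberι y from rfl, Set.range_comp,
          (i ≫ f).range_fiberι y, show (i ≫ f) ⁻¹' {y} = i ⁻¹' (f ⁻¹' {y}) from rfl, Set.image_preimage_eq_range_inter]
      rw [heq]
      exact (isConnected_range (i.continuous.comp ((i ≫ f).fiberι y).continuous)).isPreconnected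
    have hfs : f (s y) = y := by rw [← Scheme.Hom.comp_apply, hs]; rfl
    constructor
    · intro hxSC
      by_contra hxC
      have h1 : MoreMor.sectionComponents f s ∩ f ⁻¹' {y} ⊆ Cb ∪ Db := fun w hw =>
        H₁ w (by rw [show f w = y from hw.2]; exact hx.1.1)
      have hsy : s y ∈ MoreMor.sectionComponents f s := by
        show s y ∈ connectedComponentIn (f ⁻¹' {f (s y)}) (s (f (s y)))
        rw [hfs]
        exact mem_connectedComponentIn hfs
      obtain ⟨w, hw, hwCD⟩ := isPreconnected_closed_iff.1 (isPreconnected_sectionComponents_inter f s hs y) Cb Db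
        isClosed_closure isClosed_closure h1 ⟨s y, ⟨hsy, hfs⟩, hsCb y⟩
        ⟨x, ⟨hxSC, rfl⟩, (H₁ x hx.1.1).resolve_left hxC⟩
      exact H₂ w (by rw [show f w = y from hw.2]; exact hx.1.2) hwCD
    · intro hxC
      exact hconn.subset_connectedComponentIn ⟨hsCb y, hfs⟩ Set.inter_subset_right ⟨hxC, rfl⟩
  have hCD : ∀ x, f x ∈ V → (x ∈ Db ↔ x ∉ Cb) := fun x hx =>
    ⟨fun h h' => H₂ x hx.1.2 ⟨h', h⟩, fun h => (H₁ x hx.1.1).resolve_left h⟩
  refine ⟨V, ⟨⟨hV₁, hV₂⟩, hV₃⟩, ⟨?_, ?_⟩⟩
  · have heq : (Subtype.val ⁻¹' MoreMor.sectionComponents f s : Set ↑(f ⁻¹' (V : Set Y))) = Subtype.val ⁻¹' Cb :=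
      Set.ext fun w => hSCV w.1 w.2
    rw [heq]
    exact isClosed_closure.preimage continuous_subtype_val
  · have heq : (Subtype.val ⁻¹' MoreMor.sectionComponents f s : Set ↑(f ⁻¹' (V : Set Y))) = Subtype.val ⁻¹' Dbᶜ :=
      Set.ext fun w => (hSCV w.1 w.2).trans (by rw [Set.mem_preimage, Set.mem_compl_iff, hCD w.1 w.2, not_not])
    rw [heq]
    exact isClosed_closure.isOpen_compl.preimage continuous_subtype_val

end Groth.Agent.GenIrredLib
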