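import Mathlib
import Groth.Agent.GenIrredLib.DVRGlobal
import Groth.Agent.GenIrredLib.Constr
import Groth.Agent.GenIrredLib.SectionNear
import Groth.Agent.GenIrredLib.GeomRedGlobal
import Groth.Agent.OpenDim.DVRFlat
import Groth.Agent.UnivOpenAtLib.Dvr
import Groth.Agent.ResExt.Main
import Groth.Agent.ArtGrpLib.Component
import Groth.Agent.GeomRk.Fibre

/-!
# Local constancy of the number of geometric connected components of reduced fibres
-/

set_option autoImplicit false
set_option backward.isDefEq.respectTransparency false
set_option linter.style.haveILetI false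

universe u

open CategoryTheory CategoryTheory.Limits AlgebraicGeometry IsLocalRing TopologicalSpace Topology

namespace Groth.Agent.GenIrredLib

/-- A flat extension of a discrete valuation ring which is complete with algebraically closed residue field. -/
theorem exists_dvr_algClosed (A : Type u) [CommRing A] [IsDomain A] [IsDiscreteValuationRing A] :
    ∃ (B : Type u) (_ : CommRing B) (_ : IsDomain B) (_ : IsDiscreteValuationRing B)
      (_ : IsAdicComplete (maximalIdeal B) B) (_ : IsAlgClosed (ResidueField B)) (φ : A →+* B),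
      IsLocalHom φ ∧ Function.Injective φ := by
  obtain ⟨B, _, _, hN, hL, hloc, hflat, hcomp, e, -⟩ :=
    ResExt.main_complete (A := A) (AlgebraicClosure (ResidueField A))
  obtain ⟨ϖ, hϖ⟩ := IsDiscreteValuationRing.exists_irreducible A
  have hinj : Function.Injective (algebraMap A B) := by
    haveI := Module.FaithfullyFlat.of_flat_of_isLocalHom (A := A) (B := B)
    exact FaithfulSMul.algebraMap_injective A B
  haveI : Nontrivial (B ⧸ (maximalIdeal A).map (algebraMap A B)) := e.toEquiv.nontrivial
  have hmax : (maximalIdeal A).map (algebraMap A B) = maximalIdeal B := by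
    refine IsLocalRing.eq_maximalIdeal (Ideal.Quotient.maximal_of_isField _ ?_)
    exact MulEquiv.isField (Field.toIsField (AlgebraicClosure (ResidueField A))) e.toMulEquiv
  let π := algebraMap A B ϖ
  have hspan : maximalIdeal B = Ideal.span {π} := by
    rw [← hmax, hϖ.maximalIdeal_eq, Ideal.map_span, Set.image_singleton]
  have hreg : ∀ b : B, π * b = 0 → b = 0 := fun b hb =>
    (Module.Flat.isSMulRegular_of_nonZeroDivisors (M := B) (mem_nonZeroDivisors_of_ne_zero hϖ.ne_zero))
      (show ϖ • b = ϖ • (0 : B) by rw [smul_zero, Algebra.smul_def]; exact hb)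
  have hdec : ∀ b : B, b ≠ 0 → ∃ (n : ℕ) (u : Bˣ), b = u * π ^ n := by
    intro b hb
    classical
    have hex : ∃ n : ℕ, b ∉ maximalIdeal B ^ n := by
      by_contra hh
      push Not at hh
      refine hb ?_
      have h1 := Ideal.iInf_pow_eq_bot_of_isLocalRing (maximalIdeal B) (IsLocalRing.maximalIdeal.isMaximal B).ne_top
      rw [← Ideal.mem_bot, ← h1]
      exact (Submodule.mem_iInf _).2 hh
    have hn := Nat.find_spec hex
    obtain ⟨m, hm⟩ : ∃ m, Nat.find hex = m + 1 := Nat.exists_eq_add_one_of_ne_zero fun h0 => by
      rw [h0, pow_zero, Ideal.one_eq_top] at hn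
      exact hn trivial
    have hmem : b ∈ maximalIdeal B ^ m := not_not.1 (Nat.find_min hex (by omega))
    rw [hspan, Ideal.span_singleton_pow] at hmem
    obtain ⟨c, rfl⟩ := Ideal.mem_span_singleton'.1 hmem
    have hc : IsUnit c := by
      by_contra hc
      refine hn ?_
      rw [hm, hspan, Ideal.span_singleton_pow, Ideal.mem_span_singleton']
      have hc' : c ∈ maximalIdeal B := hc
      rw [hspan, Ideal.mem_span_singleton'] at hc'
      obtain ⟨d, rfl⟩ := hc'
      exact ⟨d, by ring⟩
    exact ⟨m, hc.unit, rfl⟩
  haveI : Nontrivial B := inferInstance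
  haveI : IsDomain B := by
    refine @NoZeroDivisors.to_isDomain _ _ inferInstance ⟨fun {a b} hab => ?_⟩
    refine or_iff_not_imp_left.2 fun ha => ?_
    obtain ⟨n, v, rfl⟩ := hdec a ha
    rw [mul_assoc, v.mul_right_eq_zero] at hab
    clear ha
    induction n generalizing b with
    | zero => simpa using hab
    | succ n ih =>
      rw [pow_succ, mul_assoc] at hab
      exact hreg b (ih hab)
  have hπ0 : π ≠ 0 := fun h => hϖ.ne_zero (hinj (by rw [map_zero]; exact h))
  have hnf : ¬ IsField B := fun h => hπ0 (by
    have h1 := (IsLocalRing.isField_iff_maximalIdeal_eq).1 h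
    rw [hspan, Ideal.span_singleton_eq_bot] at h1
    exact h1)
  haveI : IsDiscreteValuationRing B :=
    ((IsDiscreteValuationRing.TFAE B hnf).out 0 4).2 (show (maximalIdeal B).IsPrincipal from ⟨⟨π, hspan⟩⟩)
  haveI : IsAdicComplete (maximalIdeal B) B := hmax ▸ hcomp
  haveI : IsAlgClosed (ResidueField B) :=
    IsAlgClosed.of_ringEquiv _ _ (((Ideal.quotEquivOfEq hmax).symm.trans e).symm)
  exact ⟨B, inferInstance, inferInstance, inferInstance, inferInstance, inferInstance, algebraMap A B, hloc, hinj⟩

variable {A : Type u} [CommRing A] [IsDomain A] [IsDiscreteValuationRing A] [IsAdicComplete (maximalIdeal A) A]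
  [IsAlgClosed (ResidueField A)] {X : Scheme.{u}} (f : X ⟶ Spec (CommRingCat.of A))

/-- Over a complete discrete valuation ring with algebraically closed residue field, the geometric fibres of a
proper flat scheme with reduced special fibre have as many components as the scheme. -/
theorem nGeomConnComp_eq_card [IsProper f] [Flat f] (hred : AlgebraicGeometry.IsReduced (f.fiber (closedPoint A)))
    (y : Spec (CommRingCat.of A)) : MoreMor.nGeomConnComp f y = ENat.card (_root_.ConnectedComponents X) := by
  haveI : IsLocallyNoetherian X := LocallyOfFiniteType.isLocallyNoetherian f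
  let L := SeparableClosure ((Spec (CommRingCat.of A)).residueField y)
  let l : Spec (CommRingCat.of L) ⟶ Spec (CommRingCat.of A) :=
    Spec.map (CommRingCat.ofHom (algebraMap ((Spec (CommRingCat.of A)).residueField y) L)) ≫
      (Spec (CommRingCat.of A)).fromSpecResidueField y
  let m : MoreMor.geomFiber f y ⟶ X := pullback.fst _ _ ≫ f.fiberι y
  let n : MoreMor.geomFiber f y ⟶ Spec (CommRingCat.of L) := pullback.snd _ _
  have hsq : IsPullback m n f l := (IsPullback.of_hasPullback _ _).paste_horiz (IsPullback.of_hasPullback f _)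
  have key : ∀ x : X, _root_.IsConnected (m ⁻¹' connectedComponent x) := by
    intro x
    let C : X.Opens := ⟨connectedComponent x, ArtGrpLib.isOpen_connectedComponent x⟩
    haveI : ConnectedSpace ↥(C : Scheme.{u}) :=
      isConnected_iff_connectedSpace.1 isConnected_connectedComponent
    haveI : IsClosedImmersion C.ι := IsClosedImmersion.of_isPreimmersion C.ι (by
      rw [Scheme.Opens.range_ι]; exact isClosed_connectedComponent)
    haveI : IsProper (C.ι ≫ f) := inferInstance
    haveI : Flat (C.ι ≫ f) := inferInstance
    have hredC : AlgebraicGeometry.IsReduced ((C.ι ≫ f).fiber (closedPoint A)) := by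
      haveI : AlgebraicGeometry.IsReduced (pullback f ((Spec (CommRingCat.of A)).fromSpecResidueField (closedPoint A))) := hred
      exact isReduced_of_isOpenImmersion
        ((pullbackRightPullbackFstIso f ((Spec (CommRingCat.of A)).fromSpecResidueField (closedPoint A)) C.ι).inv ≫
          pullback.snd C.ι (pullback.fst f ((Spec (CommRingCat.of A)).fromSpecResidueField (closedPoint A))))
    have hg := geometricallyConnected_of_connected (C.ι ≫ f) hredC
    have hsqC := (isPullback_morphismRestrict m C).paste_vert hsq
    haveI := hg.geometrically_connectedSpace _ _ _ hsqC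
    exact isConnected_iff_connectedSpace.2 ‹ConnectedSpace ↥(m ⁻¹ᵁ C).toScheme›
  have hinv : Function.Bijective m.continuous.connectedComponentsMap := by
    refine ⟨fun a b hab => ?_, fun c => ?_⟩
    · obtain ⟨a, rfl⟩ := ConnectedComponents.surjective_coe a
      obtain ⟨b, rfl⟩ := ConnectedComponents.surjective_coe b
      rw [ConnectedComponents.coe_eq_coe']
      exact (key (m b)).isPreconnected.subset_connectedComponent (mem_connectedComponent (x := m b))
        (ConnectedComponents.coe_eq_coe'.1 hab)
    · obtain ⟨x, rfl⟩ := ConnectedComponents.surjective_coe c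
      obtain ⟨a, ha⟩ := (key x).nonempty
      exact ⟨ConnectedComponents.mk a, ConnectedComponents.coe_eq_coe'.2 ha⟩
  exact ENat.card_congr (Equiv.ofBijective _ hinv)

/-- A locally constructible set containing all generizations of a point is a neighbourhood of it. -/
theorem mem_nhds_of_generizations {Y : Scheme.{u}} [IsLocallyNoetherian Y] {E : Set Y}
    (hE : IsLocallyConstructible E) {y : Y} (h : ∀ z, z ⤳ y → z ∈ E) : E ∈ 𝓝 y := by
  obtain ⟨W, hW, hyW, -⟩ := exists_isAffineOpen_mem_and_subset (X := Y) (x := y) (U := ⊤) trivial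
  haveI : IsNoetherianRing Γ(Y, W) := IsLocallyNoetherian.component_noetherian ⟨W, hW⟩
  haveI : NoetherianSpace ↥W.toScheme :=
    (TopologicalSpace.noetherianSpace_iff_of_homeomorph hW.isoSpec.hom.homeomorph).2
      (inferInstanceAs (NoetherianSpace (PrimeSpectrum Γ(Y, W))))
  have hc : IsConstructible (W.ι ⁻¹' E) :=
    (hE.preimage_of_isOpenEmbedding W.ι.isOpenEmbedding).isConstructible
  have h1 : W.ι ⁻¹' E ∈ 𝓝 (⟨y, hyW⟩ : W.toScheme) := ConstrNoeth.mem_nhds_of_dense hc fun T hT hirr hyT => by
    have hgen := hirr.isGenericPoint_genericPoint hT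
    exact hgen.def.ge.trans (closure_mono (Set.singleton_subset_iff.2
      ⟨h _ ((hgen.specializes hyT).map W.ι.continuous), hgen.mem⟩))
  exact Filter.mem_of_superset (W.ι.isOpenEmbedding.isOpenMap.image_mem_nhds h1) (Set.image_preimage_subset _ _)

/-- Near a universally open geometrically reduced fibre of a proper morphism the number of geometric connected
components is constant. -/
theorem exists_nGeomConnComp_const {X Y : Scheme.{u}} [IsLocallyNoetherian Y] (f : X ⟶ Y) [IsProper f] (y : Y)
    (h : ∀ x : X, f x = y → EGA43.IsUnivOpenAt f x) (hred : GeometricallyReduced (f.fiberToSpecResidueField y)) :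
    ∃ V ∈ 𝓝 y, ∀ z ∈ V, MoreMor.nGeomConnComp f z = MoreMor.nGeomConnComp f y := by
  haveI : LocallyOfFinitePresentation f := LocallyOfFinitePresentation.iff_locallyOfFiniteType.2 inferInstance
  refine ⟨_, mem_nhds_of_generizations
    (isLocallyConstructible_nGeom f fun p => p.2 = MoreMor.nGeomConnComp f y) fun z hz => ?_, fun z hz => hz⟩
  show MoreMor.nGeomConnComp f z = MoreMor.nGeomConnComp f y
  by_cases hne : z = y
  · rw [hne]
  obtain ⟨A, _, _, _, g₀, hgc, hgη⟩ := UnivOpenAtLib.exists_dvr_specialization hz hne
  obtain ⟨B, _, _, _, _, _, φ, hφ, hφinj⟩ := exists_dvr_algClosed A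
  let g : Spec (CommRingCat.of B) ⟶ Y := Spec.map (CommRingCat.ofHom φ) ≫ g₀
  have hc : g (closedPoint B) = y := by
    show g₀ (PrimeSpectrum.comap φ (closedPoint B)) = y
    rw [IsLocalRing.comap_closedPoint]
    exact hgc
  let η : Spec (CommRingCat.of B) := (⟨⊥, Ideal.isPrime_bot⟩ : PrimeSpectrum B)
  have hη : g η = z := by
    refine hgη (PrimeSpectrum.comap φ η) fun he => IsDiscreteValuationRing.not_a_field A ?_
    have h1 : (⊥ : Ideal B).comap φ = maximalIdeal A := congrArg PrimeSpectrum.asIdeal he
    rw [← h1, Ideal.comap_bot_of_injective φ hφinj]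
  let f' := pullback.snd f g
  haveI : IsProper f' := MorphismProperty.pullback_snd _ _ inferInstance
  have hred' : AlgebraicGeometry.IsReduced (f'.fiber (closedPoint B)) := by
    have H := isPullback_fiberToSpecResidueField_of_isPullback (IsPullback.of_hasPullback f g) (closedPoint B)
    subst hc
    exact hred.geometrically_isReduced _ _ _ H
  haveI : Flat f' := by
    haveI : LocallyOfFinitePresentation f' := MorphismProperty.pullback_snd _ _ inferInstance
    rw [Flat.iff_flat_stalkMap]
    intro v
    have hstable := (FlatLocus.isOpen_flat_stalkMap f').stableUnderGeneralization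
    obtain ⟨v₀, hv₀, hfv₀⟩ : ∃ v₀, v ⤳ v₀ ∧ f' v₀ = closedPoint B := by
      obtain ⟨v₀, h1, h2⟩ := f'.isClosedMap.specializingMap (IsLocalRing.specializes_closedPoint (f' v))
      exact ⟨v₀, h1, h2⟩
    refine hstable hv₀ ?_
    obtain ⟨w, hw⟩ : v₀ ∈ Set.range (f'.fiberι (f' v₀)) := by rw [f'.range_fiberι]; rfl
    haveI : AlgebraicGeometry.IsReduced (f'.fiber (f' v₀)) := hfv₀ ▸ hred'
    have h1 := OpenDim.flat_of_open_reduced f' v₀ hfv₀ (fun ζ hfζ _ _ =>
      UnivOpenAtLib.isOpenAt_of_isPullback (h _ (by
        rw [← Scheme.Hom.comp_apply, pullback.condition, Scheme.Hom.comp_apply, hfζ, hfv₀, hc]))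
        (IsPullback.of_hasPullback f g) ζ rfl) w hw inferInstance
    rw [hw] at h1
    exact h1
  have e1 := congrArg Prod.snd (nGeom_baseChange f f' (pullback.fst f g) g (IsPullback.of_hasPullback f g) η)
  have e2 := congrArg Prod.snd
    (nGeom_baseChange f f' (pullback.fst f g) g (IsPullback.of_hasPullback f g) (closedPoint B))
  simp only [hη, hc] at e1 e2
  rw [← e1, ← e2, nGeomConnComp_eq_card f' hred' η, nGeomConnComp_eq_card f' hred' (closedPoint B)]

end Groth.Agent.GenIrredLib
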