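import Mathlib
import Groth.Agent.SteinConn.Stein
import Groth.Agent.ChowLib.General
import Groth.Agent.AmpleEmb.Compose
import Groth.Agent.Hensel.Basic
import Groth.Agent.DVRCrit.Local
import Groth.Agent.PurityLib.NotAffineAlg

/-!
# Proper open pieces of the special fibre over a complete local base
-/

set_option autoImplicit false
set_option backward.isDefEq.respectTransparency false
set_option linter.style.haveILetI false

universe u

open CategoryTheory CategoryTheory.Limits AlgebraicGeometry IsLocalRing TopologicalSpace Topology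

namespace Groth.Agent.GenIrredLib

variable {A : Type u} [CommRing A] [IsNoetherianRing A] [IsLocalRing A] [IsAdicComplete (maximalIdeal A) A]

/-- Clopen subsets of the closed fibre of a finite algebra over a complete local ring lift. -/
theorem exists_idempotent_of_clopen {B : Type u} [CommRing B] [Algebra A B] [Module.Finite A B]
    (T : Set (PrimeSpectrum (B ⧸ (maximalIdeal A).map (algebraMap A B)))) (hT : IsClopen T) :
    ∃ e : B, IsIdempotentElem e ∧ ∀ p : PrimeSpectrum (B ⧸ (maximalIdeal A).map (algebraMap A B)),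
      p ∈ T ↔ e ∉ p.asIdeal.comap (Ideal.Quotient.mk _) := by
  let J := (maximalIdeal A).map (algebraMap A B)
  haveI : IsAdicComplete J B := (IsAdicComplete.map_algebraMap_iff (S := B) (maximalIdeal A) B).2
    (PurityLib.isAdicComplete_finite (C := B) (maximalIdeal A))
  haveI : HenselianRing B J := inferInstance
  obtain ⟨a, b, hab, hab1, hTa⟩ := PrimeSpectrum.isClopen_iff_mul_add.1 hT
  obtain ⟨a, rfl⟩ := Ideal.Quotient.mk_surjective a
  have ha : a * a - a ∈ J := by
    rw [← Ideal.Quotient.eq_zero_iff_mem, map_sub, map_mul]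
    have : Ideal.Quotient.mk J a * (Ideal.Quotient.mk J a + b) = Ideal.Quotient.mk J a := by rw [hab1, mul_one]
    rw [mul_add, hab, add_zero] at this
    rw [this, sub_self]
  obtain ⟨e, he, hea⟩ := HenselianRing.is_henselian (R := B) (I := J) (Polynomial.X ^ 2 - Polynomial.X)
    (by monicity!) a (by simpa [sq] using ha) (by
      refine IsUnit.of_mul_eq_one (Ideal.Quotient.mk J (2 * a - 1)) ?_
      simp only [Polynomial.derivative_sub, Polynomial.derivative_X, Polynomial.derivative_pow, Polynomial.eval_sub,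
        Polynomial.eval_mul, Polynomial.eval_C, Polynomial.eval_one, Polynomial.eval_pow, Polynomial.eval_X]
      norm_num
      have h4 := Ideal.Quotient.eq_zero_iff_mem.2 (J.mul_mem_left 4 ha)
      simp only [map_mul, map_sub, map_ofNat] at h4 ⊢
      linear_combination h4)
  refine ⟨e, ?_, fun p => ?_⟩
  · have := he.eq_zero
    simp only [Polynomial.eval_sub, Polynomial.eval_pow, Polynomial.eval_X, sub_eq_zero] at this
    show e * e = e
    rw [← sq]
    exact this
  · rw [hTa, Ideal.mem_comap, show Ideal.Quotient.mk J e = Ideal.Quotient.mk J a from Ideal.Quotient.eq.2 hea]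
    exact Iff.rfl

/-- Clopen subsets of the closed fibre of a proper scheme over a complete local ring lift. -/
theorem exists_isClopen_inter_closedFibre {P : Scheme.{u}} (π : P ⟶ Spec (CommRingCat.of A)) [IsProper π]
    (V : Set P) (hV : IsClosed V) (hVs : V ⊆ π ⁻¹' {closedPoint A})
    (hV' : IsClosed (π ⁻¹' {closedPoint A} \ V)) :
    ∃ Q : Set P, IsClopen Q ∧ Q ∩ π ⁻¹' {closedPoint A} = V := by
  haveI : IsFinite π.fromNormalization := S1297.result π
  haveI := SteinConn.geometricallyConnected_toNormalization π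
  let ν := π.toNormalization
  let N := π.normalization
  have hν : ν ≫ π.fromNormalization = π := π.toNormalization_fromNormalization
  haveI : IsAffine N := isAffine_of_isAffineHom π.fromNormalization
  let φ : CommRingCat.of A ⟶ Γ(N, ⊤) := Spec.preimage (N.isoSpec.inv ≫ π.fromNormalization)
  have hφ : Spec.map φ = N.isoSpec.inv ≫ π.fromNormalization := Spec.map_preimage _
  letI : Algebra A Γ(N, ⊤) := φ.hom.toAlgebra
  haveI : Module.Finite A Γ(N, ⊤) := by
    haveI : IsFinite (Spec.map φ) := by rw [hφ]; infer_instance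
    exact (IsFinite.SpecMap_iff φ).1 ‹_›
  let J := (maximalIdeal A).map (algebraMap A Γ(N, ⊤))
  let ι : PrimeSpectrum (Γ(N, ⊤) ⧸ J) → N := fun p => N.isoSpec.inv (PrimeSpectrum.comap (Ideal.Quotient.mk J) p)
  have hι : IsClosedEmbedding ι := N.isoSpec.inv.homeomorph.isClosedEmbedding.comp
    (PrimeSpectrum.isClosedEmbedding_comap_of_surjective _ _ Ideal.Quotient.mk_surjective)
  have hιr : Set.range ι = π.fromNormalization ⁻¹' {closedPoint A} := by
    ext n
    obtain ⟨q, rfl⟩ := N.isoSpec.inv.homeomorph.surjective n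
    rw [Set.mem_preimage, Set.mem_singleton_iff]
    show _ ↔ π.fromNormalization (N.isoSpec.inv q) = _
    rw [← Scheme.Hom.comp_apply, ← hφ]
    show _ ↔ PrimeSpectrum.comap φ.hom q = _
    constructor
    · rintro ⟨p, hp⟩
      obtain rfl := N.isoSpec.inv.homeomorph.injective hp
      refine PrimeSpectrum.ext ((maximalIdeal.isMaximal A).eq_of_le (Ideal.IsPrime.ne_top inferInstance)
        fun a ha => ?_).symm
      show Ideal.Quotient.mk J (algebraMap A Γ(N, ⊤) a) ∈ p.asIdeal
      rw [Ideal.Quotient.eq_zero_iff_mem.2 (Ideal.mem_map_of_mem _ ha)]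
      exact zero_mem _
    · intro hq
      have hJ : J ≤ q.asIdeal := Ideal.map_le_iff_le_comap.2 (congrArg PrimeSpectrum.asIdeal hq).ge
      obtain ⟨p, hp⟩ : (q : PrimeSpectrum Γ(N, ⊤)) ∈ Set.range (PrimeSpectrum.comap (Ideal.Quotient.mk J)) := by
        rw [_root_.range_comap_of_surjective _ _ Ideal.Quotient.mk_surjective, Ideal.mk_ker]
        exact hJ
      exact ⟨p, congrArg N.isoSpec.inv hp⟩
  -- the fibres are connected
  have hfib : ∀ x ∈ V, ∀ x', ν x' = ν x → x' ∈ V := by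
    intro x hx x' hxx'
    have hs : ν ⁻¹' {ν x} ⊆ π ⁻¹' {closedPoint A} := fun z hz => by
      show π z = closedPoint A
      rw [← hν, Scheme.Hom.comp_apply, show ν z = ν x from hz, ← Scheme.Hom.comp_apply, hν]
      exact hVs hx
    have hconn : _root_.IsPreconnected (ν ⁻¹' {ν x}) := (ν.isConnected_preimage_singleton (ν x)).isPreconnected
    by_contra hn
    obtain ⟨z, -, hz1, hz2⟩ := isPreconnected_closed_iff.1 hconn V _ hV hV' (fun z hz => by
      by_cases hzV : z ∈ V
      · exact Or.inl hzV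
      · exact Or.inr ⟨hs hz, hzV⟩) ⟨x, rfl, hx⟩ ⟨x', hxx', hs hxx', hn⟩
    exact hz2.2 hz1
  have hT1 : IsClosed (ν '' V) := ν.isClosedMap _ hV
  have hT2 : IsClosed (ν '' (π ⁻¹' {closedPoint A} \ V)) := ν.isClosedMap _ hV'
  have hcl : IsClopen (ι ⁻¹' (ν '' V)) := by
    refine ⟨hT1.preimage hι.continuous, ?_⟩
    rw [← isClosed_compl_iff]
    convert hT2.preimage hι.continuous using 1
    ext p
    constructor
    · intro hp
      obtain ⟨x, hx⟩ := ν.surjective (ι p)
      refine ⟨x, ⟨?_, fun h => hp ⟨x, h, hx⟩⟩, hx⟩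
      show π x = closedPoint A
      rw [← hν, Scheme.Hom.comp_apply, hx]
      exact hιr.le ⟨p, rfl⟩
    · rintro ⟨x, ⟨-, hxV⟩, hx⟩ ⟨x', hx', hxx'⟩
      exact hxV (hfib x' hx' x (hx.trans hxx'.symm))
  obtain ⟨e, he, hmem⟩ := exists_idempotent_of_clopen _ hcl
  let D : Set N := N.isoSpec.hom ⁻¹' (PrimeSpectrum.basicOpen e : Set (PrimeSpectrum Γ(N, ⊤)))
  have hD : IsClopen D := (PrimeSpectrum.isClopen_iff_mul_add.2 ⟨e, 1 - e, by rw [mul_sub, mul_one, he.eq, sub_self], by ring, rfl⟩).preimage N.isoSpec.hom.continuous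
  refine ⟨ν ⁻¹' D, hD.preimage ν.continuous, ?_⟩
  have hιD : ∀ p, ι p ∈ D ↔ p ∈ ι ⁻¹' (ν '' V) := fun p => by
    rw [hmem]
    show N.isoSpec.hom (N.isoSpec.inv _) ∈ PrimeSpectrum.basicOpen e ↔ _
    rw [← Scheme.Hom.comp_apply, N.isoSpec.inv_hom_id]
    exact Iff.rfl
  ext x
  constructor
  · rintro ⟨hxD, hxs⟩
    have hνx : ν x ∈ Set.range ι := by
      rw [hιr, Set.mem_preimage, ← Scheme.Hom.comp_apply, hν]; exact hxs
    obtain ⟨p, hp⟩ := hνx
    have h1 : p ∈ ι ⁻¹' (ν '' V) := (hιD p).1 (hp.symm ▸ hxD)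
    rw [Set.mem_preimage, hp] at h1
    obtain ⟨x', hx', hxx'⟩ := h1
    exact hfib x' hx' x hxx'.symm
  · intro hx
    have hνx : ν x ∈ Set.range ι := by
      rw [hιr, Set.mem_preimage, ← Scheme.Hom.comp_apply, hν]; exact hVs hx
    obtain ⟨p, hp⟩ := hνx
    refine ⟨?_, hVs hx⟩
    show ν x ∈ D
    rw [← hp, hιD, Set.mem_preimage, hp]
    exact ⟨x, hx, rfl⟩

/-- A closed subset with connected generic part meeting a proper open piece of the closed fibre is proper, with
closed fibre inside the piece. -/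
theorem proper_of_preconnected {X : Scheme.{u}} (π : X ⟶ Spec (CommRingCat.of A)) [IsSeparated π]
    [LocallyOfFiniteType π] [QuasiCompact π] {R : Scheme.{u}} (k : R ⟶ X) [IsProper (k ≫ π)]
    (hk : Set.range k ⊆ π ⁻¹' {closedPoint A}) (O : Set X) (hO : IsOpen O)
    (hkO : O ∩ π ⁻¹' {closedPoint A} = Set.range k)
    {W : Scheme.{u}} (ι : W ⟶ X) [IsClosedImmersion ι] (E : Set W) (hE : _root_.IsPreconnected E) (hEd : Dense E)
    (hmeet : (ι ⁻¹' Set.range k).Nonempty) :
    UniversallyClosed (ι ≫ π) ∧ ι ⁻¹' (π ⁻¹' {closedPoint A}) ⊆ ι ⁻¹' Set.range k := by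
  obtain ⟨n, W', σ, j, hj, hjσ, hσp, hσs⟩ := ChowLib.exists_chow_general (ι ≫ π)
  haveI := hj
  haveI := hσp
  haveI := hσs
  let Pn := CohB1.ProjSpaceOver n (Spec (CommRingCat.of A))
  let τ : Pn ⟶ Spec (CommRingCat.of A) := CohB1.ProjSpaceOver.toBase n (Spec (CommRingCat.of A))
  haveI : IsProper τ := AmpleEmb.isProper_toBase n _
  haveI : IsLocallyNoetherian Pn := LocallyOfFiniteType.isLocallyNoetherian τ
  let s := closedPoint A
  -- the closure in projective space
  let I := Scheme.IdealSheafData.vanishingIdeal (⟨closure (Set.range j), isClosed_closure⟩ : Closeds Pn)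
  have hrI : Set.range I.subschemeι = closure (Set.range j) := by
    rw [Scheme.IdealSheafData.range_subschemeι, Scheme.IdealSheafData.coe_support_vanishingIdeal]; rfl
  let πP : I.subscheme ⟶ Spec (CommRingCat.of A) := I.subschemeι ≫ τ
  have hjW : ∀ z, τ (j z) = π (ι (σ z)) := fun z => by
    rw [← Scheme.Hom.comp_apply, ← Scheme.Hom.comp_apply, ← Scheme.Hom.comp_apply, hjσ]
  let V' : Set W' := (fun z => ι (σ z)) ⁻¹' Set.range k
  -- its image is closed
  have hjV : IsClosed (j '' V') := by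
    let R' := pullback k (σ ≫ ι)
    haveI : IsProper (pullback.fst k (σ ≫ ι) ≫ (k ≫ π)) := inferInstance
    haveI : IsProper ((pullback.snd k (σ ≫ ι) ≫ j) ≫ τ) := by
      rw [Category.assoc, hjσ, ← Category.assoc σ ι π, ← Category.assoc, ← pullback.condition, Category.assoc]
      infer_instance
    haveI : IsProper (pullback.snd k (σ ≫ ι) ≫ j) := IsProper.of_comp _ τ
    have h : Set.range (pullback.snd k (σ ≫ ι) ≫ j) = j '' V' := by
      rw [Scheme.Hom.comp_base, TopCat.coe_comp, Set.range_comp, Scheme.Pullback.range_snd]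
      rfl
    rw [← h]
    exact (pullback.snd k (σ ≫ ι) ≫ j).isClosedMap.isClosed_range
  -- the clopen piece
  obtain ⟨Z, hZ, hrange⟩ : ∃ Z, IsOpen Z ∧ Set.range j = Z ∩ closure (Set.range j) := by
    have h : IsLocallyClosed (Set.range j) := j.isLocallyClosed_range
    exact ⟨coborder (Set.range j), h.isOpen_coborder, (coborder_inter_closure ..).symm⟩
  let V : Set I.subscheme := I.subschemeι ⁻¹' (j '' V')
  have hVs : V ⊆ πP ⁻¹' {s} := by
    rintro v ⟨z, hz, hzv⟩
    show (I.subschemeι ≫ τ) v = s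
    rw [Scheme.Hom.comp_apply, ← hzv, hjW]
    exact hk hz
  have hV' : IsClosed (πP ⁻¹' {s} \ V) := by
    obtain ⟨O', hO', hO'eq⟩ := j.isEmbedding.isInducing.isOpen_iff.1
      (hO.preimage (ι.continuous.comp σ.continuous))
    have e : πP ⁻¹' {s} \ V = πP ⁻¹' {s} \ (I.subschemeι ⁻¹' (Z ∩ O')) := by
      ext v
      refine and_congr_right fun hv => not_congr ⟨?_, ?_⟩
      · rintro ⟨z, hz, hzv⟩
        refine ⟨(hrange.le ⟨z, hzv⟩).1, ?_⟩
        rw [← hzv]
        exact (Set.ext_iff.1 hO'eq z).2 (hkO.ge hz).1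
      · rintro ⟨h1, h2⟩
        obtain ⟨z, hz⟩ := hrange.ge ⟨h1, hrI.le ⟨v, rfl⟩⟩
        refine ⟨z, hkO.le ⟨(Set.ext_iff.1 hO'eq z).1 (show j z ∈ O' from hz.symm ▸ h2), ?_⟩, hz⟩
        show π (ι (σ z)) = s
        rw [← hjW, hz, ← Scheme.Hom.comp_apply]
        exact hv
    rw [e]
    exact ((IsLocalRing.isClosed_singleton_closedPoint A).preimage πP.continuous).sdiff
      ((hZ.inter hO').preimage I.subschemeι.continuous)
  obtain ⟨Q, hQ, hQs⟩ := exists_isClopen_inter_closedFibre πP V (hjV.preimage I.subschemeι.continuous) hVs hV'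
  have hQj : I.subschemeι '' Q ⊆ Set.range j := by
    by_contra hn
    obtain ⟨_, ⟨v, hvQ, rfl⟩, hv⟩ := Set.not_subset.1 hn
    have hclosed : IsClosed (Q \ I.subschemeι ⁻¹' Z) := hQ.1.sdiff (hZ.preimage I.subschemeι.continuous)
    have hv' : v ∈ Q \ I.subschemeι ⁻¹' Z := ⟨hvQ, fun h => hv (hrange.ge ⟨h, hrI.le ⟨v, rfl⟩⟩)⟩
    obtain ⟨v', hv'1, hv'2⟩ := (πP.isClosedMap _ hclosed).stableUnderSpecialization
      (IsLocalRing.specializes_closedPoint (πP v)) ⟨v, hv', rfl⟩
    obtain ⟨z, -, hz⟩ := hQs.le ⟨hv'1.1, hv'2⟩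
    exact hv'1.2 (hrange.le ⟨z, hz⟩).1
  -- its image in `W`
  let Qc : Closeds Pn := ⟨I.subschemeι '' Q, I.subschemeι.isClosedEmbedding.isClosedMap _ hQ.1⟩
  let Q' : Set W' := j ⁻¹' (Qc : Set Pn)
  have hQ'o : IsOpen Q' := by
    obtain ⟨Q₂, hQ₂, hQ₂eq⟩ := I.subschemeι.isClosedEmbedding.isInducing.isOpen_iff.1 hQ.2
    have e : Q' = j ⁻¹' Q₂ := by
      ext z
      constructor
      · rintro ⟨v, hv, hvz⟩
        show j z ∈ Q₂
        rw [← hvz]
        exact (Set.ext_iff.1 hQ₂eq v).2 hv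
      · intro hz
        obtain ⟨v, hv⟩ := hrI.ge (subset_closure ⟨z, rfl⟩ : j z ∈ closure (Set.range j))
        exact ⟨v, (Set.ext_iff.1 hQ₂eq v).1 (show I.subschemeι v ∈ Q₂ from hv.symm ▸ hz), hv⟩
    rw [e]
    exact hQ₂.preimage j.continuous
  have hQ'c : IsClosed Q' := Qc.2.preimage j.continuous
  have hV'Q : V' ⊆ Q' := by
    intro z hz
    obtain ⟨v, hv⟩ := hrI.ge (subset_closure ⟨z, rfl⟩ : j z ∈ closure (Set.range j))
    exact ⟨v, (hQs.ge (show v ∈ V from ⟨z, hz, hv.symm⟩)).1, hv⟩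
  have hQ'V : ∀ z ∈ Q', π (ι (σ z)) = s → z ∈ V' := by
    rintro z ⟨v, hv, hvz⟩ hs
    obtain ⟨z', hz', hz'v⟩ := hQs.le ⟨hv, show (I.subschemeι ≫ τ) v = s by
      rw [Scheme.Hom.comp_apply, hvz, hjW]; exact hs⟩
    rwa [← j.isEmbedding.injective (hz'v.trans hvz)]
  have hsurj : ∀ w : W, ∃ z, σ z = w := σ.surjective
  let G : Set W := σ '' Q'
  let G' : Set W := σ '' Q'ᶜ
  have hG : IsClosed G := σ.isClosedMap _ hQ'c
  have hG' : IsClosed G' := σ.isClosedMap _ hQ'o.isClosed_compl
  have hcov : ∀ w, w ∈ G ∪ G' := fun w => by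
    obtain ⟨z, rfl⟩ := hsurj w
    by_cases h : z ∈ Q'
    · exact Or.inl ⟨z, h, rfl⟩
    · exact Or.inr ⟨z, h, rfl⟩
  -- the scheme structure on the piece
  let K := Scheme.IdealSheafData.vanishingIdeal (⟨Q', hQ'c⟩ : Closeds W')
  have hrK : Set.range K.subschemeι = Q' := by
    rw [Scheme.IdealSheafData.range_subschemeι, Scheme.IdealSheafData.coe_support_vanishingIdeal]; rfl
  haveI : IsClosedImmersion (K.subschemeι ≫ j) := IsClosedImmersion.of_isPreimmersion _ (by
    rw [Scheme.Hom.comp_base, TopCat.coe_comp, Set.range_comp, hrK,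
      Set.image_preimage_eq_inter_range,
      show (Qc : Set Pn) ∩ Set.range j = Qc from Set.inter_eq_left.2 hQj]
    exact Qc.2)
  have hKp : IsProper (K.subschemeι ≫ σ ≫ ι ≫ π) := by
    rw [← hjσ, ← Category.assoc]; infer_instance
  have hdisj : ∀ w ∈ G, w ∉ G' := by
    intro w hwG hwG'
    obtain ⟨z, hz, hzw⟩ := hwG
    obtain ⟨a, rfl⟩ := hrK.ge hz
    have hclosed : IsClosed ((fun a => σ (K.subschemeι a)) ⁻¹' closure {w}) :=
      isClosed_closure.preimage (σ.continuous.comp K.subschemeι.continuous)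
    obtain ⟨a', ha'1, ha'2⟩ := ((K.subschemeι ≫ σ ≫ ι ≫ π).isClosedMap _ hclosed).stableUnderSpecialization
      (IsLocalRing.specializes_closedPoint ((K.subschemeι ≫ σ ≫ ι ≫ π) a))
      ⟨a, subset_closure hzw, rfl⟩
    have hs' : π (ι (σ (K.subschemeι a'))) = s := ha'2
    obtain ⟨z', hz', hz'w⟩ := (closure_minimal (Set.singleton_subset_iff.2 hwG') hG' ha'1 : σ (K.subschemeι a') ∈ G')
    refine hz' (hV'Q ?_)
    show ι (σ z') ∈ Set.range k
    rw [hz'w]
    exact hQ'V _ (hrK.le ⟨a', rfl⟩) hs'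
  have hall : ∀ w, w ∈ G := by
    have hGopen : IsOpen G := by
      rw [show G = G'ᶜ from Set.ext fun w => ⟨hdisj w, fun h => (hcov w).resolve_right h⟩]
      exact hG'.isOpen_compl
    rcases hE.subset_or_subset (u := G) (v := Gᶜ) hGopen hG.isOpen_compl disjoint_compl_right
      (fun w _ => Classical.em (w ∈ G)) with h | h
    · exact fun w => closure_minimal h hG (hEd w)
    · exfalso
      obtain ⟨w, hw⟩ := hmeet
      obtain ⟨z, rfl⟩ := hsurj w
      exact closure_minimal h hGopen.isClosed_compl (hEd _) ⟨z, hV'Q hw, rfl⟩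
  refine ⟨?_, fun w hw => ?_⟩
  · haveI : Surjective (K.subschemeι ≫ σ) := ⟨fun w => by
      obtain ⟨z, hz, hzw⟩ := hall w
      obtain ⟨a, rfl⟩ := hrK.ge hz
      exact ⟨a, hzw⟩⟩
    haveI : UniversallyClosed ((K.subschemeι ≫ σ) ≫ ι ≫ π) := by
      rw [Category.assoc]; infer_instance
    exact UniversallyClosed.of_comp_surjective (K.subschemeι ≫ σ) (ι ≫ π)
  · obtain ⟨z, hz, rfl⟩ := hall w
    exact hQ'V z hz hw

end Groth.Agent.GenIrredLib
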