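import Mathlib
import Groth.Agent.GenIrredLib.ProperPart
import Groth.Agent.GenIrredLib.ClosureProper
import Groth.Agent.GenIrredLib.SectionNear
import Groth.Agent.GenIrredLib.DVRCount
import Groth.Agent.OpenDim.Constr
import Groth.Agent.OpenDim.Local

/-!
# Properness of a constructible set made of connected components of the fibres
-/

set_option autoImplicit false
set_option backward.isDefEq.respectTransparency false
set_option linter.style.haveILetI false

universe u

open CategoryTheory CategoryTheory.Limits AlgebraicGeometry IsLocalRing TopologicalSpace Topology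

namespace Groth.Agent.GenIrredLib

variable {X Y : Scheme.{u}}

/-- Morphisms from the spectrum of a domain with local ring agreeing at the closed and the generic point. -/
theorem hom_ext_of_closedPoint {A : Type u} [CommRing A] [IsLocalRing A] (K : Type u) [CommRing K] [Algebra A K]
    (hinj : Function.Injective (algebraMap A K)) (a b : Spec (CommRingCat.of A) ⟶ Y)
    (hc : a (closedPoint A) = b (closedPoint A))
    (h : Spec.map (CommRingCat.ofHom (algebraMap A K)) ≫ a = Spec.map (CommRingCat.ofHom (algebraMap A K)) ≫ b) :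
    a = b := by
  obtain ⟨α, hα⟩ : ∃ α : Y.presheaf.stalk (a (closedPoint A)) ⟶ CommRingCat.of A,
      Spec.map α ≫ Y.fromSpecStalk _ = a := ⟨_, Scheme.Spec_stalkClosedPointTo_fromSpecStalk a⟩
  obtain ⟨β, hβ⟩ : ∃ β : Y.presheaf.stalk (a (closedPoint A)) ⟶ CommRingCat.of A,
      Spec.map β ≫ Y.fromSpecStalk _ = b := by
    rw [hc]; exact ⟨_, Scheme.Spec_stalkClosedPointTo_fromSpecStalk b⟩
  rw [← hα, ← hβ, ← Spec.map_comp_assoc, ← Spec.map_comp_assoc, cancel_mono, Spec.map_inj] at h
  rw [← hα, ← hβ]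
  congr 2
  ext z
  exact hinj (congrArg (fun m : Y.presheaf.stalk (a (closedPoint A)) ⟶ CommRingCat.of K => m.hom z) h)

/-- The two points of the spectrum of a discrete valuation ring. -/
theorem dvr_point {A : Type u} [CommRing A] [IsDomain A] [IsDiscreteValuationRing A]
    (p : Spec (CommRingCat.of A)) :
    p = closedPoint A ∨ p = (⟨⊥, Ideal.isPrime_bot⟩ : PrimeSpectrum A) := by
  by_cases h : p.asIdeal = ⊥
  · exact Or.inr (PrimeSpectrum.ext h)
  · exact Or.inl (PrimeSpectrum.ext (IsLocalRing.eq_maximalIdeal (p.2.isMaximal h)))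

/-- The fibre of a base change at a point as a base change of the fibre. -/
theorem exists_fibre_square {S : Scheme.{u}} (f : X ⟶ Y) (g : S ⟶ Y) (v : S) {y : Y} (hy : g v = y) :
    ∃ (b : Y.residueField y ⟶ S.residueField v) (l : (pullback.snd f g).fiber v ⟶ f.fiber y),
      IsPullback l ((pullback.snd f g).fiberToSpecResidueField v) (f.fiberToSpecResidueField y) (Spec.map b) ∧
      l ≫ f.fiberι y = (pullback.snd f g).fiberι v ≫ pullback.fst f g := by
  let π := pullback.snd f g
  obtain ⟨b, hb⟩ : ∃ b : Y.residueField y ⟶ S.residueField v,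
      Spec.map b ≫ Y.fromSpecResidueField y = S.fromSpecResidueField v ≫ g :=
    ⟨(Y.residueFieldCongr hy.symm).hom ≫ g.residueFieldMap _, by
      rw [Spec.map_comp, Category.assoc, Scheme.residueFieldCongr_fromSpecResidueField,
        Scheme.Hom.SpecMap_residueFieldMap_fromSpecResidueField]⟩
  have sqc := (IsPullback.of_hasPullback π (S.fromSpecResidueField v)).paste_horiz (IsPullback.of_hasPullback f g)
  let l : π.fiber v ⟶ f.fiber y := pullback.lift (π.fiberι _ ≫ pullback.fst f g)
    (π.fiberToSpecResidueField _ ≫ Spec.map b) (by rw [Category.assoc, Category.assoc, hb]; exact sqc.w)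
  have hl : l ≫ f.fiberι y = π.fiberι v ≫ pullback.fst f g := pullback.lift_fst _ _ _
  exact ⟨b, l, IsPullback.of_right (h₁₂ := f.fiberι y) (by rw [hl, hb]; exact sqc)
    (pullback.lift_snd _ _ _) (IsPullback.of_hasPullback f (Y.fromSpecResidueField y)), hl⟩

/-- Points of the closure of a locally constructible set are specializations of its points. -/
theorem exists_specializes_of_mem_closure_locConstr [IsLocallyNoetherian X] {D : Set X}
    (hD : IsLocallyConstructible D) {w : X} (hw : w ∈ closure D) : ∃ d ∈ D, d ⤳ w := by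
  obtain ⟨W, hW, hwW, -⟩ := exists_isAffineOpen_mem_and_subset (X := X) (x := w) (U := ⊤) trivial
  haveI : IsAffine W.toScheme := hW
  haveI : IsLocallyNoetherian W.toScheme := isLocallyNoetherian_of_isOpenImmersion W.ι
  haveI : IsNoetherian W.toScheme := ⟨⟩
  have h1 : IsConstructible (W.ι ⁻¹' D) :=
    (hD.preimage_of_isOpenEmbedding W.ι.isOpenEmbedding).isConstructible
  obtain ⟨d, hd, hs⟩ := OpenDim.exists_specializes_of_mem_closure h1 (y := (⟨w, hwW⟩ : W)) (by
    rw [W.ι.isOpenEmbedding.isEmbedding.closure_eq_preimage_closure_image, Set.mem_preimage,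
      Set.image_preimage_eq_inter_range, Scheme.Opens.range_ι]
    exact closure_mono (Set.inter_comm _ _).le (W.isOpen.inter_closure ⟨hwW, hw⟩))
  exact ⟨W.ι d, hd, hs.map W.ι.continuous⟩

/-- Complements of locally constructible sets are locally constructible. -/
theorem isLocallyConstructible_compl {α : Type*} [TopologicalSpace α] {D : Set α} (hD : IsLocallyConstructible D) :
    IsLocallyConstructible Dᶜ := fun x => by
  obtain ⟨U, hx, hU, hc⟩ := hD x
  exact ⟨U, hx, hU, by rw [Set.preimage_compl]; exact hc.compl⟩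

variable (f : X ⟶ Y) (Z : Set X) (y : Y)

/-- The component condition at the generizations of a point. -/
def ComponentHyp : Prop :=
  ∀ y' : Y, y' ⤳ y → (∃ x ∈ Z, f.base x = y' ∧ Z ∩ f.base ⁻¹' {y'} = connectedComponentIn (f.base ⁻¹' {y'}) x) ∧
      ∀ (K : Type u) [Field K] [Algebra (IsLocalRing.ResidueField (Y.presheaf.stalk y')) K],
        _root_.IsPreconnected ((FBase.bcπ (f.fiberToSpecResidueField y') K ≫ f.fiberι y').base ⁻¹' Z)

/-- The universal submersion condition. -/
def SubmersiveHyp : Prop :=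
  ∀ (Y' : Scheme.{u}) (h : Y' ⟶ Y) (E : Set Y'), E ⊆ h.base ⁻¹' (f.base '' Z) →
      (∃ W : Set ↥(pullback f h), IsOpen W ∧
        W ∩ (pullback.fst f h).base ⁻¹' Z = (pullback.snd f h).base ⁻¹' E ∩ (pullback.fst f h).base ⁻¹' Z) →
      ∃ V : Set Y', IsOpen V ∧ V ∩ h.base ⁻¹' (f.base '' Z) = E

variable {f Z y}

/-- Over a complete discrete valuation ring: the closure of the generic part is proper and stays in the set. -/
theorem closure_generic_part [IsSeparated f] [LocallyOfFiniteType f] [QuasiCompact f]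
    (h1 : ComponentHyp f Z y) (h3 : SubmersiveHyp f Z) {y' : Y} (hy' : y' ⤳ y)
    (hopen : IsOpen (f.fiberι y' ⁻¹' Z)) {R₀ : Scheme.{u}} (k₀ : R₀ ⟶ f.fiber y')
    [IsProper (k₀ ≫ f.fiberToSpecResidueField y')] (hk₀ : Set.range k₀ = f.fiberι y' ⁻¹' Z)
    (A : Type u) [CommRing A] [IsDomain A] [IsDiscreteValuationRing A] [IsAdicComplete (maximalIdeal A) A]
    (g : Spec (CommRingCat.of A) ⟶ Y) (hg : g (closedPoint A) = y') :
    ∀ C : Closeds ↥(pullback f g), (C : Set ↥(pullback f g)) =
        closure (pullback.fst f g ⁻¹' Z ∩ pullback.snd f g ⁻¹' {(⟨⊥, Ideal.isPrime_bot⟩ : PrimeSpectrum A)}) →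
      UniversallyClosed ((Scheme.IdealSheafData.vanishingIdeal C).subschemeι ≫ pullback.snd f g) ∧
        (C : Set ↥(pullback f g)) ∩ pullback.snd f g ⁻¹' {closedPoint A} ⊆ pullback.fst f g ⁻¹' Z := by
  intro C hC
  let T := pullback f g
  let p : T ⟶ X := pullback.fst f g
  let π : T ⟶ Spec (CommRingCat.of A) := pullback.snd f g
  let η : Spec (CommRingCat.of A) := (⟨⊥, Ideal.isPrime_bot⟩ : PrimeSpectrum A)
  obtain ⟨c, hc⟩ : ∃ c : Spec (CommRingCat.of A), c = closedPoint A := ⟨_, rfl⟩
  rw [← hc]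
  rw [← hc] at hg
  let E : Set T := p ⁻¹' Z ∩ π ⁻¹' {η}
  have hgη : g η ⤳ y := ((IsLocalRing.specializes_closedPoint η).map g.continuous).trans (by rw [← hc, hg]; exact hy')
  -- the special part
  obtain ⟨b, l, sql, hl⟩ := exists_fibre_square f g c hg
  haveI : IsProper (pullback.snd k₀ l ≫ π.fiberToSpecResidueField c) :=
    MorphismProperty.of_isPullback ((IsPullback.of_hasPullback k₀ l).paste_vert sql)
      (inferInstanceAs (IsProper (k₀ ≫ f.fiberToSpecResidueField y')))
  let k : pullback k₀ l ⟶ T := pullback.snd k₀ l ≫ π.fiberι c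
  haveI : IsClosedImmersion ((Spec (CommRingCat.of A)).fromSpecResidueField c) :=
    IsClosedImmersion.of_isPreimmersion _ (by
      rw [Scheme.range_fromSpecResidueField, hc]; exact IsLocalRing.isClosed_singleton_closedPoint A)
  haveI : IsProper (k ≫ π) := by
    rw [Category.assoc, show π.fiberι c ≫ π = π.fiberToSpecResidueField c ≫ _ from π.fiber_fac c, ← Category.assoc]
    infer_instance
  have hpl : ∀ z, p (π.fiberι c z) = f.fiberι y' (l z) := fun z => by
    rw [← Scheme.Hom.comp_apply, ← Scheme.Hom.comp_apply, hl]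
  have hrk : Set.range k = p ⁻¹' Z ∩ π ⁻¹' {c} := by
    rw [Scheme.Hom.comp_base, TopCat.coe_comp, Set.range_comp, Scheme.Pullback.range_snd, hk₀]
    ext t
    constructor
    · rintro ⟨z, hz, rfl⟩
      exact ⟨show p (π.fiberι c z) ∈ Z by rw [hpl]; exact hz, (π.fiberHomeo c z).2⟩
    · rintro ⟨ht1, ht2⟩
      obtain ⟨z, rfl⟩ : t ∈ Set.range (π.fiberι c) := by rw [π.range_fiberι]; exact ht2
      exact ⟨z, show f.fiberι y' (l z) ∈ Z by rw [← hpl]; exact ht1, rfl⟩
  obtain ⟨O, hO, hOeq⟩ := (π.fiberι c).isEmbedding.isInducing.isOpen_iff.1 (hopen.preimage l.continuous)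
  have hkO : O ∩ π ⁻¹' {closedPoint A} = Set.range k := by
    rw [← hc, hrk]
    ext t
    constructor
    · rintro ⟨htO, ht⟩
      obtain ⟨z, rfl⟩ : t ∈ Set.range (π.fiberι c) := by rw [π.range_fiberι]; exact ht
      exact ⟨show p (π.fiberι c z) ∈ Z by rw [hpl]; exact hOeq.le htO, ht⟩
    · rintro ⟨htZ, ht⟩
      obtain ⟨z, rfl⟩ : t ∈ Set.range (π.fiberι c) := by rw [π.range_fiberι]; exact ht
      exact ⟨hOeq.ge (show f.fiberι y' (l z) ∈ Z by rw [← hpl]; exact htZ), ht⟩
  -- the generic part is connected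
  have hEconn : _root_.IsPreconnected E := by
    obtain ⟨b', l', sql', hl'⟩ := exists_fibre_square f g η (rfl : g η = g η)
    let K := (Spec (CommRingCat.of A)).residueField η
    letI : Algebra (IsLocalRing.ResidueField (Y.presheaf.stalk (g η))) K := b'.hom.toAlgebra
    have h := (h1 (g η) hgη).2 K
    let m := sql'.isoPullback
    have hm : m.inv ≫ l' = FBase.bcπ (f.fiberToSpecResidueField (g η)) K := sql'.isoPullback_inv_fst
    have h' : _root_.IsPreconnected (m.inv '' ((FBase.bcπ (f.fiberToSpecResidueField (g η)) K ≫ f.fiberι (g η)) ⁻¹' Z)) :=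
      h.image _ m.inv.continuous.continuousOn
    have h'' := h'.image _ (π.fiberι η).continuous.continuousOn
    refine (show E = _ from ?_) ▸ h''
    ext t
    constructor
    · rintro ⟨htZ, htη⟩
      obtain ⟨z, rfl⟩ : t ∈ Set.range (π.fiberι η) := by rw [π.range_fiberι]; exact htη
      refine ⟨z, ⟨m.hom z, ?_, by rw [← Scheme.Hom.comp_apply, m.hom_inv_id]; rfl⟩, rfl⟩
      show (FBase.bcπ (f.fiberToSpecResidueField (g η)) K ≫ f.fiberι (g η)) (m.hom z) ∈ Z
      have hz : m.inv (m.hom z) = z := congrArg (fun q : π.fiber η ⟶ π.fiber η => q z) m.hom_inv_id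
      rw [← hm, Category.assoc, hl', Scheme.Hom.comp_apply, Scheme.Hom.comp_apply]
      show p (π.fiberι η (m.inv (m.hom z))) ∈ Z
      rw [hz]
      exact htZ
    · rintro ⟨z, ⟨w, hw, rfl⟩, rfl⟩
      refine ⟨?_, (π.fiberHomeo η _).2⟩
      show p (π.fiberι η (m.inv w)) ∈ Z
      have hw' : (FBase.bcπ (f.fiberToSpecResidueField (g η)) K ≫ f.fiberι (g η)) w ∈ Z := hw
      rwa [← hm, Category.assoc, hl', Scheme.Hom.comp_apply, Scheme.Hom.comp_apply] at hw'
  -- it meets the special part
  have hmeet : (closure E ∩ Set.range k).Nonempty := by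
    by_contra hne
    have himg : g.base ⁻¹' (f.base '' Z) = Set.univ := by
      refine Set.eq_univ_of_forall fun v => ?_
      have hv : g v ⤳ y :=
        ((IsLocalRing.specializes_closedPoint v).map g.continuous).trans (by rw [← hc, hg]; exact hy')
      obtain ⟨x, hx, hfx, -⟩ := (h1 (g v) hv).1
      exact ⟨x, hx, hfx⟩
    obtain ⟨V, hV, hVc⟩ := h3 (Spec (CommRingCat.of A)) g {c} (by rw [himg]; exact Set.subset_univ _)
      ⟨(closure E)ᶜ, isClosed_closure.isOpen_compl, by
        ext t
        refine and_congr_left fun htZ => ⟨fun ht => ?_, fun ht hcl => hne ⟨t, hcl, hrk.ge ⟨htZ, ht⟩⟩⟩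
        rcases dvr_point (π t) with h | h
        · exact h.trans hc.symm
        · exact (ht (subset_closure ⟨htZ, h⟩)).elim⟩
    rw [himg, Set.inter_univ] at hVc
    have h4 : η ∈ V := (IsLocalRing.specializes_closedPoint η).mem_open hV (hVc.ge hc.symm)
    rw [hVc, Set.mem_singleton_iff, hc] at h4
    exact IsDiscreteValuationRing.not_a_field A (congrArg PrimeSpectrum.asIdeal h4).symm
  let ιC := (Scheme.IdealSheafData.vanishingIdeal C).subschemeι
  have hrC : Set.range ιC = closure E := by
    rw [Scheme.IdealSheafData.range_subschemeι, Scheme.IdealSheafData.coe_support_vanishingIdeal]; exact hC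
  have hpre : ιC '' (ιC ⁻¹' E) = E := by
    rw [Set.image_preimage_eq_inter_range, hrC, Set.inter_eq_left]
    exact subset_closure
  have hres := proper_of_preconnected π k (by rw [hrk, ← hc]; exact Set.inter_subset_right) O hO hkO ιC (ιC ⁻¹' E)
    (by rw [← ιC.isClosedEmbedding.isEmbedding.isInducing.isPreconnected_image, hpre]; exact hEconn)
    (by
      rw [dense_iff_closure_eq, ιC.isClosedEmbedding.isEmbedding.closure_eq_preimage_closure_image, hpre, ← hrC,
        Set.preimage_range])
    (by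
      obtain ⟨t, htE, htk⟩ := hmeet
      obtain ⟨w, rfl⟩ := hrC.ge htE
      exact ⟨w, htk⟩)
  refine ⟨hres.1, fun t ⟨htC, htc⟩ => ?_⟩
  obtain ⟨w, rfl⟩ := hrC.ge (hC ▸ htC)
  exact (hrk.le (hres.2 (show π (ιC w) = closedPoint A from hc ▸ htc))).1

/-- A set made of connected components of the fibres is proper near a point where it is proper on the fibre. -/
theorem exists_proper_component [IsLocallyNoetherian Y] [IsSeparated f] [LocallyOfFiniteType f] [QuasiCompact f]
    (hZ : IsLocallyConstructible Z) (h1 : ComponentHyp f Z y) (hop : IsOpen (f.fiberι y ⁻¹' Z))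
    (h2 : IsProper (Scheme.Opens.ι (⟨f.fiberι y ⁻¹' Z, hop⟩ : (f.fiber y).Opens) ≫ f.fiberToSpecResidueField y))
    (h3 : SubmersiveHyp f Z) :
    ∃ U : Y.Opens, y ∈ U ∧ ∃ hC : IsClosed ((f ⁻¹ᵁ U).ι.base ⁻¹' Z),
      IsProper ((Scheme.IdealSheafData.vanishingIdeal
        (⟨(f ⁻¹ᵁ U).ι.base ⁻¹' Z, hC⟩ : Closeds ↥(f ⁻¹ᵁ U))).subschemeι ≫ (f ∣_ U)) := by
  haveI : IsLocallyNoetherian X := LocallyOfFiniteType.isLocallyNoetherian f
  haveI := h2
  have hmax : ∀ z ∈ closure Z, (∀ z' ∈ closure Z, z ∈ closure {z'} → z' = z) → z ∈ Z := by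
    intro z hz h
    obtain ⟨d, hd, hds⟩ := exists_specializes_of_mem_closure_locConstr hZ hz
    exact h d (subset_closure hd) (specializes_iff_mem_closure.1 hds) ▸ hd
  obtain ⟨U, hyU, hC, hP⟩ := exists_proper_closure f Z hmax y (fun A _ _ _ g hg x' hx'Z hx'η hbij => by
    obtain ⟨B, _, _, _, _, _, φ, hφ, hφinj⟩ := exists_dvr_algClosed A
    let g₁ : Spec (CommRingCat.of B) ⟶ Y := Spec.map (CommRingCat.ofHom φ) ≫ g
    have hg₁ : g₁ (closedPoint B) = y := by
      rw [← hg, Scheme.Hom.comp_apply]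
      exact congrArg g (IsLocalRing.comap_closedPoint φ)
    let π := pullback.snd f g
    let K := (Spec (CommRingCat.of A)).residueField (π x')
    letI : Algebra A K := ((Scheme.Spec.residueFieldIso (CommRingCat.of A) (π x')).inv.hom.comp
      (algebraMap A (π x').asIdeal.ResidueField)).toAlgebra
    haveI : IsFractionRing A K := isFractionRing_residueField (π x') (by
      rw [show π x' = genericPoint (Spec (CommRingCat.of A)) from hx'η, genericPoint_eq_bot_of_affine]; rfl)
    haveI : IsIso (π.residueFieldMap x') := (ConcreteCategory.isIso_iff_bijective _).2 hbij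
    let σ : Spec (CommRingCat.of K) ⟶ pullback f g := Spec.map (inv (π.residueFieldMap x')) ≫
      (pullback f g).fromSpecResidueField x'
    have hσπ : σ ≫ π = Spec.map (CommRingCat.ofHom (algebraMap A K)) := by
      rw [Category.assoc, ← Scheme.Hom.SpecMap_residueFieldMap_fromSpecResidueField, ← Spec.map_comp_assoc,
        IsIso.hom_inv_id, Spec.map_id]
      erw [Category.id_comp]
      rw [← Scheme.Spec.map_residueFieldIso_inv_eq_fromSpecResidueField, ← Spec.map_comp]
      rfl
    have hσ : ∀ r, σ r = x' := fun r => by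
      rw [Scheme.Hom.comp_apply]
      exact Scheme.fromSpecResidueField_apply _ _
    have hinjB : Function.Injective ((algebraMap B (FractionRing B)).comp φ) :=
      (IsFractionRing.injective B (FractionRing B)).comp hφinj
    let θ : K →+* FractionRing B := IsFractionRing.lift hinjB
    have hθ : ∀ a, θ (algebraMap A K a) = algebraMap B (FractionRing B) (φ a) := fun a =>
      IsFractionRing.lift_algebraMap hinjB a
    let σ₁ : Spec (CommRingCat.of (FractionRing B)) ⟶ pullback f g₁ :=
      pullback.lift (Spec.map (CommRingCat.ofHom θ) ≫ σ ≫ pullback.fst f g)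
        (Spec.map (CommRingCat.ofHom (algebraMap B (FractionRing B)))) (by
          rw [Category.assoc, Category.assoc, pullback.condition, reassoc_of% hσπ, ← Spec.map_comp_assoc,
            ← Spec.map_comp_assoc]
          congr 2
          ext a
          exact hθ a)
    let C : Closeds ↥(pullback f g₁) := ⟨closure (pullback.fst f g₁ ⁻¹' Z ∩
      pullback.snd f g₁ ⁻¹' {(⟨⊥, Ideal.isPrime_bot⟩ : PrimeSpectrum B)}), isClosed_closure⟩
    have hres := closure_generic_part h1 h3 (specializes_refl y) hop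
      (Scheme.Opens.ι (⟨f.fiberι y ⁻¹' Z, hop⟩ : (f.fiber y).Opens)) (by rw [Scheme.Opens.range_ι]; rfl) B g₁ hg₁ C rfl
    haveI := hres.1
    let ιC := (Scheme.IdealSheafData.vanishingIdeal C).subschemeι
    haveI : IsReduced (Spec (CommRingCat.of (FractionRing B))) := inferInstance
    obtain ⟨σC, hσC⟩ := DVRCrit.exists_factor_closed ιC σ₁ (by
      rintro _ ⟨r, rfl⟩
      rw [Scheme.IdealSheafData.range_subschemeι, Scheme.IdealSheafData.coe_support_vanishingIdeal]
      refine subset_closure ⟨?_, ?_⟩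
      · show pullback.fst f g₁ (σ₁ r) ∈ Z
        rw [← Scheme.Hom.comp_apply, pullback.lift_fst, Scheme.Hom.comp_apply, Scheme.Hom.comp_apply, hσ]
        exact hx'Z
      · show pullback.snd f g₁ (σ₁ r) = _
        rw [← Scheme.Hom.comp_apply, pullback.lift_snd]
        apply PrimeSpectrum.ext
        show Ideal.comap (algebraMap B (FractionRing B)) (r : PrimeSpectrum (FractionRing B)).asIdeal = ⊥
        rw [(Ideal.eq_bot_or_top (r : PrimeSpectrum (FractionRing B)).asIdeal).resolve_right
          (r : PrimeSpectrum (FractionRing B)).2.ne_top]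
        exact Ideal.comap_bot_of_injective _ (IsFractionRing.injective B (FractionRing B)))
    have hw : σC ≫ ιC ≫ pullback.snd f g₁ =
        Spec.map (CommRingCat.ofHom (algebraMap B (FractionRing B))) ≫ 𝟙 _ := by
      rw [reassoc_of% hσC, pullback.lift_snd, Category.comp_id]
    haveI : QuasiCompact (ιC ≫ pullback.snd f g₁) := inferInstance
    have hex : ValuativeCriterion.Existence (ιC ≫ pullback.snd f g₁) :=
      ((congrArg (fun P : MorphismProperty Scheme.{u} => P (ιC ≫ pullback.snd f g₁))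
        UniversallyClosed.eq_valuativeCriterion).mp hres.1).1
    obtain ⟨L, hL₁, hL₂⟩ := (hex (DVRCrit.mkSq (ιC ≫ pullback.snd f g₁) B (FractionRing B) σC (𝟙 _) hw)).exists_lift
    have hL₁' : Spec.map (CommRingCat.ofHom (algebraMap B (FractionRing B))) ≫ L = σC := hL₁
    have hL₂' : L ≫ ιC ≫ pullback.snd f g₁ = 𝟙 _ := hL₂
    let m : Spec (CommRingCat.of B) ⟶ X := L ≫ ιC ≫ pullback.fst f g₁
    have hm : Spec.map (CommRingCat.ofHom (algebraMap B (FractionRing B))) ≫ m =
        Spec.map (CommRingCat.ofHom θ) ≫ σ ≫ pullback.fst f g := by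
      rw [reassoc_of% hL₁', reassoc_of% hσC, pullback.lift_fst]
    have hfm : m ≫ f = g₁ := by
      rw [Category.assoc, Category.assoc, pullback.condition, reassoc_of% hL₂']
    let x₀ := m (closedPoint B)
    let σX := σ ≫ pullback.fst f g
    have hsp : σX (closedPoint K) ⤳ x₀ := by
      have h2 : Spec.map (CommRingCat.ofHom θ) (closedPoint (FractionRing B)) = closedPoint K :=
        Subsingleton.elim (α := PrimeSpectrum K) _ _
      rw [← h2, ← Scheme.Hom.comp_apply, ← hm, Scheme.Hom.comp_apply]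
      exact (IsLocalRing.specializes_closedPoint _).map m.continuous
    let ψA : X.presheaf.stalk x₀ ⟶ CommRingCat.of K :=
      X.presheaf.stalkSpecializes hsp ≫ Scheme.stalkClosedPointTo σX
    have hψA : Spec.map ψA ≫ X.fromSpecStalk x₀ = σX := by
      rw [Spec.map_comp, Category.assoc, Scheme.SpecMap_stalkSpecializes_fromSpecStalk,
        Scheme.Spec_stalkClosedPointTo_fromSpecStalk]
    have hψ : ψA ≫ CommRingCat.ofHom θ =
        Scheme.stalkClosedPointTo m ≫ CommRingCat.ofHom (algebraMap B (FractionRing B)) := by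
      rw [← Spec.map_inj, ← cancel_mono (X.fromSpecStalk x₀), Spec.map_comp, Category.assoc, hψA, Spec.map_comp,
        Category.assoc, Scheme.Spec_stalkClosedPointTo_fromSpecStalk, hm]
    have hmem : ∀ o, ψA o ∈ (algebraMap A K).range := by
      intro o
      have ho := congrArg (fun q : X.presheaf.stalk x₀ ⟶ CommRingCat.of (FractionRing B) => q.hom o) hψ
      rcases ValuationRing.isInteger_or_isInteger A (ψA o : K) with h | ⟨a, ha⟩
      · exact h
      by_cases h0 : (ψA o : K) = 0
      · exact h0 ▸ zero_mem _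
      have hau : IsUnit (φ a) := by
        refine IsUnit.of_mul_eq_one ((Scheme.stalkClosedPointTo m).hom o) (IsFractionRing.injective B (FractionRing B) ?_)
        rw [map_mul, map_one, ← hθ, ha, ← show θ (ψA o) = algebraMap B (FractionRing B)
          ((Scheme.stalkClosedPointTo m).hom o) from ho, ← map_mul, inv_mul_cancel₀ h0, map_one]
      obtain ⟨a', rfl⟩ := (isUnit_map_iff φ a).1 hau
      refine ⟨↑a'⁻¹, ?_⟩
      have h1 : algebraMap A K ↑a' * algebraMap A K ↑a'⁻¹ = 1 := by rw [← map_mul, Units.mul_inv, map_one]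
      rw [ha] at h1
      exact ((inv_mul_eq_one₀ h0).1 h1).symm
    let e : A ≃+* (algebraMap A K).range := RingEquiv.ofBijective (algebraMap A K).rangeRestrict
      ⟨fun a b h => IsFractionRing.injective A K (congrArg Subtype.val h), (algebraMap A K).rangeRestrict_surjective⟩
    let χ : X.presheaf.stalk x₀ ⟶ CommRingCat.of A :=
      CommRingCat.ofHom (e.symm.toRingHom.comp (ψA.hom.codRestrict _ hmem))
    let lA : Spec (CommRingCat.of A) ⟶ X := Spec.map χ ≫ X.fromSpecStalk x₀
    have hlA : Spec.map (CommRingCat.ofHom (algebraMap A K)) ≫ lA = σX := by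
      rw [← Category.assoc, ← Spec.map_comp, ← hψA]
      congr 2
      ext o
      exact congrArg Subtype.val (e.apply_symm_apply ⟨ψA o, hmem o⟩)
    have hχ : IsLocalHom χ.hom := ⟨fun o ho => by
      have h1 : φ (χ.hom o) = (Scheme.stalkClosedPointTo m).hom o := by
        refine IsFractionRing.injective B (FractionRing B) ?_
        rw [← hθ, show algebraMap A K (χ.hom o) = ψA o from
          congrArg Subtype.val (e.apply_symm_apply ⟨ψA o, hmem o⟩)]
        exact congrArg (fun q : X.presheaf.stalk x₀ ⟶ CommRingCat.of (FractionRing B) => q.hom o) hψ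
      exact isUnit_of_map_unit (Scheme.stalkClosedPointTo m).hom o (h1 ▸ ho.map φ)⟩
    have hlAf : lA ≫ f = g := by
      refine hom_ext_of_closedPoint K (IsFractionRing.injective A K) _ _ ?_ ?_
      · rw [Scheme.Hom.comp_apply, Scheme.Hom.comp_apply, show Spec.map χ (closedPoint A) = closedPoint _ from
          IsLocalRing.comap_closedPoint χ.hom]
        rw [show X.fromSpecStalk x₀ (closedPoint _) = x₀ from Scheme.fromSpecStalk_closedPoint,
          ← Scheme.Hom.comp_apply, hfm, hg₁, hg]
      · rw [reassoc_of% hlA, Category.assoc, pullback.condition, reassoc_of% hσπ]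
    let s : Spec (CommRingCat.of A) ⟶ pullback f g := pullback.lift lA (𝟙 _) (by rw [Category.id_comp]; exact hlAf)
    refine ⟨s, pullback.lift_snd _ _ _, Spec.map (CommRingCat.ofHom (algebraMap A K)) (closedPoint K), ?_⟩
    have he : Spec.map (CommRingCat.ofHom (algebraMap A K)) ≫ s = σ := by
      apply pullback.hom_ext
      · rw [Category.assoc, pullback.lift_fst, hlA]
      · rw [Category.assoc, pullback.lift_snd, Category.comp_id]
        exact hσπ.symm
    rw [← Scheme.Hom.comp_apply, he, hσ])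
  -- the closure adds nothing near `y`
  let D : Set X := closure Z ∩ Zᶜ
  haveI : LocallyOfFinitePresentation f := inferInstance
  have hD : IsLocallyConstructible D :=
    (compl_compl (closure Z) ▸ isLocallyConstructible_compl
      (OpenDim.isLocallyConstructible_of_isOpen (isClosed_closure (s := Z)).isOpen_compl) :
        IsLocallyConstructible (closure Z)).inter (isLocallyConstructible_compl hZ)
  have hyD : y ∉ closure (f '' D) := by
    intro hmem
    obtain ⟨_, ⟨w, ⟨hwc, hwZ⟩, rfl⟩, hwy⟩ :=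
      exists_specializes_of_mem_closure_locConstr (f.isLocallyConstructible_image hD) hmem
    obtain ⟨z, hz, hzw⟩ := exists_specializes_of_mem_closure_locConstr hZ hwc
    have hfwU : f w ∈ U := hwy.mem_open U.2 hyU
    have hne : z ≠ w := fun h => hwZ (h ▸ hz)
    obtain ⟨A, _, _, _, gX, hgc, hgη⟩ := UnivOpenAtLib.exists_dvr_specialization hzw hne
    obtain ⟨B, _, _, _, _, _, φ, hφ, hφinj⟩ := exists_dvr_algClosed A
    let gX₁ : Spec (CommRingCat.of B) ⟶ X := Spec.map (CommRingCat.ofHom φ) ≫ gX
    have hc₁ : gX₁ (closedPoint B) = w := by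
      rw [← hgc, Scheme.Hom.comp_apply]
      exact congrArg gX (IsLocalRing.comap_closedPoint φ)
    have hη₁ : gX₁ (⟨⊥, Ideal.isPrime_bot⟩ : PrimeSpectrum B) = z := by
      rw [Scheme.Hom.comp_apply]
      refine hgη _ fun h => IsDiscreteValuationRing.not_a_field A ?_
      have h1 := congrArg PrimeSpectrum.asIdeal h
      rw [show maximalIdeal A = (closedPoint A).asIdeal from rfl, ← h1]
      exact Ideal.comap_bot_of_injective φ hφinj
    let g₁ := gX₁ ≫ f
    have hg₁ : g₁ (closedPoint B) = f w := by rw [Scheme.Hom.comp_apply, hc₁]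
    let t : Spec (CommRingCat.of B) ⟶ pullback f g₁ := pullback.lift gX₁ (𝟙 _) (by rw [Category.id_comp])
    -- the fibre over `f w`
    let J : (f ⁻¹ᵁ U).toScheme.IdealSheafData := Scheme.IdealSheafData.vanishingIdeal
      (⟨(f ⁻¹ᵁ U).ι ⁻¹' closure Z, hC⟩ : Closeds ↥(f ⁻¹ᵁ U))
    let e : Spec (Y.residueField (f w)) ⟶ U := IsOpenImmersion.lift U.ι (Y.fromSpecResidueField (f w)) (by
      rw [U.range_ι, Scheme.range_fromSpecResidueField]; exact Set.singleton_subset_iff.2 hfwU)
    haveI : IsProper (J.subschemeι ≫ f ∣_ U) := hP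
    let P₀ := pullback (J.subschemeι ≫ f ∣_ U) e
    let q : P₀ ⟶ f.fiber (f w) := pullback.lift (pullback.fst _ _ ≫ J.subschemeι ≫ (f ⁻¹ᵁ U).ι) (pullback.snd _ _) (by
      have h := congrArg (· ≫ U.ι) (pullback.condition (f := J.subschemeι ≫ f ∣_ U) (g := e))
      simp only [Category.assoc, IsOpenImmersion.lift_fac, e, morphismRestrict_ι] at h
      simpa [Category.assoc] using h)
    haveI : IsLocallyNoetherian (f.fiber (f w)) := by
      haveI : LocallyOfFiniteType (f.fiberToSpecResidueField (f w)) := MorphismProperty.pullback_snd _ _ inferInstance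
      exact LocallyOfFiniteType.isLocallyNoetherian (f.fiberToSpecResidueField (f w))
    haveI : CompactSpace (f.fiber (f w)) := QuasiCompact.compactSpace_of_compactSpace (f.fiberToSpecResidueField (f w))
    haveI : IsNoetherian (f.fiber (f w)) := ⟨⟩
    obtain ⟨x, hxZ, hfx, hcomp⟩ := (h1 (f w) hwy).1
    have hZf : f.fiberι (f w) ⁻¹' Z = connectedComponent ((f.fiberHomeo (f w)).symm ⟨x, hfx⟩) := by
      rw [connectedComponentIn_eq_image (show x ∈ f.base ⁻¹' {f w} from hfx)] at hcomp
      rw [← connectedComponentIn_univ, ← Set.image_univ_of_surjective (f.fiberHomeo (f w)).symm.surjective,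
        ← (f.fiberHomeo (f w)).symm.image_connectedComponentIn (Set.mem_univ _), connectedComponentIn_univ]
      ext v
      constructor
      · intro hv
        obtain ⟨a, ha, hav⟩ := hcomp.le ⟨hv, (f.fiberHomeo (f w) v).2⟩
        refine ⟨a, ha, (f.fiberHomeo (f w)).symm_apply_eq.2 (Subtype.ext hav)⟩
      · rintro ⟨a, ha, rfl⟩
        show f.fiberι (f w) _ ∈ Z
        rw [show f.fiberι (f w) ((f.fiberHomeo (f w)).symm a) = a.1 from f.fiberι_fiberHomeo_symm _ a]
        exact (hcomp.ge ⟨a, ha, rfl⟩).1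
    have hopen : IsOpen (f.fiberι (f w) ⁻¹' Z) := hZf ▸ isOpen_connectedComponent_of_noetherian _
    have hclosed : IsClosed (q ⁻¹' (f.fiberι (f w) ⁻¹' Z)) := (hZf ▸ isClosed_connectedComponent).preimage q.continuous
    let R := Scheme.IdealSheafData.vanishingIdeal (⟨_, hclosed⟩ : Closeds P₀)
    haveI : IsProper ((R.subschemeι ≫ q) ≫ f.fiberToSpecResidueField (f w)) := by
      rw [Category.assoc, show q ≫ f.fiberToSpecResidueField (f w) = pullback.snd _ _ from pullback.lift_snd _ _ _]
      infer_instance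
    have hrange : Set.range (R.subschemeι ≫ q) = f.fiberι (f w) ⁻¹' Z := by
      rw [Scheme.Hom.comp_base, TopCat.coe_comp, Set.range_comp, Scheme.IdealSheafData.range_subschemeι,
        Scheme.IdealSheafData.coe_support_vanishingIdeal]
      rw [Closeds.coe_mk]
      rw [Set.image_preimage_eq_inter_range, Set.inter_eq_left]
      intro v hv
      have hvU : f.fiberι (f w) v ∈ f ⁻¹ᵁ U := by
        show f (f.fiberι (f w) v) ∈ U
        rw [show f (f.fiberι (f w) v) = f w from (f.fiberHomeo (f w) v).2]; exact hfwU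
      obtain ⟨a, ha⟩ : (⟨_, hvU⟩ : (f ⁻¹ᵁ U).toScheme) ∈ Set.range J.subschemeι := by
        rw [Scheme.IdealSheafData.range_subschemeι, Scheme.IdealSheafData.coe_support_vanishingIdeal]
        exact subset_closure hv
      obtain ⟨r, hr, -⟩ := Scheme.Pullback.exists_preimage_pullback (f := J.subschemeι ≫ f ∣_ U) (g := e) a
        (closedPoint _) (by
          apply U.ι.isOpenEmbedding.injective
          rw [← Scheme.Hom.comp_apply, Category.assoc, morphismRestrict_ι, ← Scheme.Hom.comp_apply,
            IsOpenImmersion.lift_fac, Scheme.fromSpecResidueField_apply, Scheme.Hom.comp_apply, ha]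
          exact (f.fiberHomeo (f w) v).2)
      refine ⟨r, (f.fiberι (f w)).isEmbedding.injective ?_⟩
      rw [← Scheme.Hom.comp_apply, show q ≫ f.fiberι (f w) = pullback.fst _ _ ≫ J.subschemeι ≫ (f ⁻¹ᵁ U).ι from
        pullback.lift_fst _ _ _, Scheme.Hom.comp_apply, hr, Scheme.Hom.comp_apply, ha]
      rfl
    let C : Closeds ↥(pullback f g₁) := ⟨closure (pullback.fst f g₁ ⁻¹' Z ∩
      pullback.snd f g₁ ⁻¹' {(⟨⊥, Ideal.isPrime_bot⟩ : PrimeSpectrum B)}), isClosed_closure⟩
    have hres := closure_generic_part h1 h3 hwy hopen (R.subschemeι ≫ q) hrange B g₁ hg₁ C rfl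
    have hts : ∀ v, pullback.snd f g₁ (t v) = v := fun v => by rw [← Scheme.Hom.comp_apply, pullback.lift_snd]; rfl
    have htf : ∀ v, pullback.fst f g₁ (t v) = gX₁ v := fun v => by rw [← Scheme.Hom.comp_apply, pullback.lift_fst]
    have htC : t (closedPoint B) ∈ C := by
      refine specializes_iff_mem_closure.1 ((IsLocalRing.specializes_closedPoint
        (⟨⊥, Ideal.isPrime_bot⟩ : PrimeSpectrum B)).map t.continuous) |> closure_mono ?_
      refine Set.singleton_subset_iff.2 ⟨?_, hts _⟩
      show pullback.fst f g₁ (t _) ∈ Z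
      rw [htf, hη₁]; exact hz
    have := hres.2 ⟨htC, hts _⟩
    rw [Set.mem_preimage, htf, hc₁] at this
    exact hwZ this
  let U' : Y.Opens := ⟨(U : Set Y) ∩ (closure (f '' D))ᶜ, U.2.inter isClosed_closure.isOpen_compl⟩
  have hle : U' ≤ U := fun v hv => hv.1
  have hZU : (f ⁻¹ᵁ U').ι.base ⁻¹' Z = (f ⁻¹ᵁ U').ι.base ⁻¹' closure Z := by
    refine Set.Subset.antisymm (fun v hv => subset_closure hv) fun v hv => ?_
    by_contra hn
    exact v.2.2 (subset_closure ⟨_, ⟨hv, hn⟩, rfl⟩)
  have hC' : IsClosed ((f ⁻¹ᵁ U').ι.base ⁻¹' Z) := hZU ▸ isClosed_closure.preimage (f ⁻¹ᵁ U').ι.continuous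
  refine ⟨U', ⟨hyU, hyD⟩, hC', ?_⟩
  let J : (f ⁻¹ᵁ U).toScheme.IdealSheafData := Scheme.IdealSheafData.vanishingIdeal
    (⟨(f ⁻¹ᵁ U).ι ⁻¹' closure Z, hC⟩ : Closeds ↥(f ⁻¹ᵁ U))
  haveI : IsProper (J.subschemeι ≫ f ∣_ U) := hP
  let J' : (f ⁻¹ᵁ U').toScheme.IdealSheafData := Scheme.IdealSheafData.vanishingIdeal
    (⟨(f ⁻¹ᵁ U').ι.base ⁻¹' Z, hC'⟩ : Closeds ↥(f ⁻¹ᵁ U'))
  show IsProper (J'.subschemeι ≫ f ∣_ U')
  let i : U'.toScheme ⟶ U := Y.homOfLE hle
  let R' := pullback (J.subschemeι ≫ f ∣_ U) i
  let q : R' ⟶ (f ⁻¹ᵁ U') := (isPullback_morphismRestrict f U').flip.lift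
    (pullback.fst _ _ ≫ J.subschemeι ≫ (f ⁻¹ᵁ U).ι) (pullback.snd _ _) (by
      have h := congrArg (· ≫ U.ι) (pullback.condition (f := J.subschemeι ≫ f ∣_ U) (g := i))
      simp only [Category.assoc, i, Scheme.homOfLE_ι, morphismRestrict_ι] at h
      simpa [Category.assoc] using h)
  haveI : IsProper (q ≫ f ∣_ U') := by
    rw [(isPullback_morphismRestrict f U').flip.lift_snd]; infer_instance
  haveI : IsReduced J'.subscheme := DVRCrit.isReduced_vanishingIdeal _
  haveI : UniversallyClosed (J'.subschemeι ≫ f ∣_ U') := by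
    haveI : IsProper q := IsProper.of_comp q (f ∣_ U')
    have hrq : Set.range J'.subschemeι ⊆ Set.range q := by
      rw [Scheme.IdealSheafData.range_subschemeι, Scheme.IdealSheafData.coe_support_vanishingIdeal]
      intro v hv
      have hvU : (f ⁻¹ᵁ U').ι v ∈ f ⁻¹ᵁ U := hle v.2
      obtain ⟨a, ha⟩ : (⟨_, hvU⟩ : (f ⁻¹ᵁ U).toScheme) ∈ Set.range J.subschemeι := by
        rw [Scheme.IdealSheafData.range_subschemeι, Scheme.IdealSheafData.coe_support_vanishingIdeal]
        exact subset_closure hv
      obtain ⟨r, hr, -⟩ := Scheme.Pullback.exists_preimage_pullback (f := J.subschemeι ≫ f ∣_ U) (g := i) a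
        ((f ∣_ U') v) (by
          apply U.ι.isOpenEmbedding.injective
          rw [← Scheme.Hom.comp_apply, Category.assoc, morphismRestrict_ι, ← Scheme.Hom.comp_apply,
            Scheme.homOfLE_ι, Scheme.Hom.comp_apply, ha, ← Scheme.Hom.comp_apply (f ∣_ U'), morphismRestrict_ι]
          rfl)
      refine ⟨r, (f ⁻¹ᵁ U').ι.isOpenEmbedding.injective ?_⟩
      rw [← Scheme.Hom.comp_apply, (isPullback_morphismRestrict f U').flip.lift_fst, Scheme.Hom.comp_apply, hr,
        Scheme.Hom.comp_apply, ha]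
      rfl
    haveI : Surjective (pullback.fst J'.subschemeι q) := ⟨fun a => by
      obtain ⟨r, hr⟩ := hrq ⟨a, rfl⟩
      obtain ⟨w, hw, -⟩ := Scheme.Pullback.exists_preimage_pullback (f := J'.subschemeι) (g := q) a r hr.symm
      exact ⟨w, hw⟩⟩
    haveI : UniversallyClosed (pullback.fst J'.subschemeι q ≫ J'.subschemeι ≫ f ∣_ U') := by
      rw [pullback.condition_assoc]; infer_instance
    exact UniversallyClosed.of_comp_surjective (pullback.fst J'.subschemeι q) _
  exact { }

end Groth.Agent.GenIrredLib
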