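import Mathlib
import Groth.Agent.GenIrredLib.Constr
import Groth.Agent.FPModelLib.Fibre

/-!
# Descent of conditions on the numbers of geometric components to a stage
-/

set_option autoImplicit false
set_option backward.isDefEq.respectTransparency false
set_option linter.style.haveILetI false

universe u

open CategoryTheory CategoryTheory.Limits AlgebraicGeometry Topology

namespace Groth.Agent.GenIrredLib

/-- A field embeds into an algebraically closed field. -/
theorem exists_algClosed_hom (κ : Type u) [Field κ] :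
    ∃ (L : Type u) (_ : Field L) (_ : IsAlgClosed L) (_ : κ →+* L), True :=
  ⟨AlgebraicClosure κ, inferInstance, inferInstance, algebraMap κ _, trivial⟩

variable {I : Type u} [SmallCategory I] [IsCofiltered I] (D : I ⥤ Scheme.{u}) (c : Cone D) (hc : IsLimit c)
  [∀ {i j} (a : i ⟶ j), IsAffineHom (D.map a)]

include hc in
/-- A condition on the numbers of geometric components over the limit holds at some stage. -/
theorem exists_stage_nGeom {i : I} [CompactSpace (D.obj i)] [QuasiSeparatedSpace (D.obj i)] {G T : Scheme.{u}}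
    (g₀ : G ⟶ D.obj i) [QuasiCompact g₀] [LocallyOfFinitePresentation g₀] [QuasiSeparated g₀] {fT : T ⟶ c.pt}
    {q : T ⟶ G} (hsq : IsPullback q fT g₀ (c.π.app i)) (P : ℕ∞ × ℕ∞ → Prop) (h : ∀ s, P (nGeom fT s)) :
    ∃ (j : I) (φ : j ⟶ i), (∀ z, P (nGeom g₀ (D.map φ z))) ∧ ∀ z, P (nGeom (pullback.snd g₀ (D.map φ)) z) := by
  obtain ⟨j, φ, hj⟩ := FPModelLib.exists_stage_forall_mem D c hc (isLocallyConstructible_nGeom g₀ P)
    fun s => Eq.mp (congrArg P (nGeom_baseChange g₀ fT q (c.π.app i) hsq s)) (h s)
  refine ⟨j, φ, hj, fun z => ?_⟩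
  have h1 : nGeom (pullback.snd g₀ (D.map φ)) z = nGeom g₀ (D.map φ z) :=
    nGeom_baseChange g₀ _ _ _ (IsPullback.of_hasPullback g₀ (D.map φ)) z
  rw [h1]
  exact hj z

end Groth.Agent.GenIrredLib
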