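import Mathlib
import Groth.Agent.GenIrredLib.Stage

/-!
# Geometric integrality of fibres: constructibility and descent to a stage
-/

set_option autoImplicit false
set_option backward.isDefEq.respectTransparency false
set_option linter.style.haveILetI false

universe u

open CategoryTheory CategoryTheory.Limits AlgebraicGeometry Topology

namespace Groth.Agent.GenIrredLib

variable {X Y : Scheme.{u}} (f : X ⟶ Y)

theorem geometricallyIntegral_fiber_iff (y : Y) :
    GeometricallyIntegral (f.fiberToSpecResidueField y) ↔
      GeometricallyReduced (f.fiberToSpecResidueField y) ∧ MoreMor.nGeomIrredComp f y = 1 := by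
  rw [← geometricallyIrreducible_fiber_iff]
  exact ⟨fun h => ⟨inferInstance, inferInstance⟩, fun ⟨h₁, h₂⟩ =>
    GeometricallyIntegral.of_geometricallyReduced_of_geometricallyIrreducible _⟩

/-- The geometrically integral fibre locus is locally constructible. -/
theorem isLocallyConstructible_geometricallyIntegral [LocallyOfFinitePresentation f] [QuasiCompact f]
    [QuasiSeparated f] : IsLocallyConstructible {y : Y | GeometricallyIntegral (f.fiberToSpecResidueField y)} := by
  have h := (NearGen.isLocallyConstructible_geometricallyReduced f).inter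
    (isLocallyConstructible_nGeom f fun p => p.1 = 1)
  rwa [show {y : Y | GeometricallyIntegral (f.fiberToSpecResidueField y)} =
    {y : Y | GeometricallyReduced (f.fiberToSpecResidueField y)} ∩ {y : Y | (nGeom f y).1 = 1} from
      Set.ext fun y => geometricallyIntegral_fiber_iff f y]

/-- Geometric integrality of a fibre only depends on its image. -/
theorem geometricallyIntegral_fiber_baseChange {X' Y' : Scheme.{u}} {f' : X' ⟶ Y'} {g' : X' ⟶ X} {g : Y' ⟶ Y}
    (hc : IsPullback g' f' f g) (z : Y') :
    GeometricallyIntegral (f'.fiberToSpecResidueField z) ↔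
      GeometricallyIntegral (f.fiberToSpecResidueField (g z)) := by
  rw [geometricallyIntegral_fiber_iff, geometricallyIntegral_fiber_iff,
    FPModelLib.geometricallyReduced_fiber_iff hc z]
  exact and_congr_right fun _ => Eq.to_iff (congrArg (fun p : ℕ∞ × ℕ∞ => p.1 = 1) (nGeom_baseChange f f' g' g hc z))

variable {I : Type u} [SmallCategory I] [IsCofiltered I] (D : I ⥤ Scheme.{u}) (c : Cone D) (hc : IsLimit c)
  [∀ {i j} (a : i ⟶ j), IsAffineHom (D.map a)]

include hc in
/-- Geometrically integral fibres descend to a stage. -/
theorem exists_stage_geometricallyIntegral {i : I} [CompactSpace (D.obj i)] [QuasiSeparatedSpace (D.obj i)]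
    {G T : Scheme.{u}} (g₀ : G ⟶ D.obj i) [QuasiCompact g₀] [LocallyOfFinitePresentation g₀] [QuasiSeparated g₀]
    {fT : T ⟶ c.pt} {q : T ⟶ G} (hsq : IsPullback q fT g₀ (c.π.app i)) [GeometricallyIntegral fT] :
    ∃ (j : I) (φ : j ⟶ i), GeometricallyIntegral (pullback.snd g₀ (D.map φ)) := by
  obtain ⟨j, φ, h⟩ := FPModelLib.exists_stage_forall_mem D c hc (isLocallyConstructible_geometricallyIntegral g₀)
    fun s => (geometricallyIntegral_fiber_baseChange g₀ hsq s).1 inferInstance
  exact ⟨j, φ, (GeometricallyIntegral.iff_geometricallyIntegral_fiber _).2 fun z =>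
    (geometricallyIntegral_fiber_baseChange g₀ (IsPullback.of_hasPullback g₀ (D.map φ)) z).2 (h z)⟩

end Groth.Agent.GenIrredLib
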