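import Mathlib
import Groth.Prelude.Def_FDesc

/-!
# Descent of geometric reducedness at a point along field extensions
-/

set_option autoImplicit false
set_option backward.isDefEq.respectTransparency false
set_option linter.style.haveILetI false

universe u

open CategoryTheory CategoryTheory.Limits AlgebraicGeometry

namespace Groth.Agent.GenIrredLib

/-- Geometric reducedness at a point is detected after an extension of the base field. -/
theorem isGeomReducedAt_of_isPullback {k L : Type u} [Field k] [Field L] {X X' : Scheme.{u}}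
    {f : X ⟶ Spec (CommRingCat.of k)} {f' : X' ⟶ Spec (CommRingCat.of L)}
    {h : Spec (CommRingCat.of L) ⟶ Spec (CommRingCat.of k)} {m : X' ⟶ X} (hc : IsPullback m f' f h) (x' : X')
    (hred : FBase.IsGeomReducedAt f' x') : FBase.IsGeomReducedAt f (m x') := by
  intro K _ _ z hz
  obtain ⟨v, hvz, hvx⟩ := Scheme.Pullback.exists_preimage_pullback (f := FBase.bcπ f K) (g := m) z x' hz
  let Ω : Type u := (pullback (FBase.bcπ f K) m).residueField v
  let p : Spec (CommRingCat.of Ω) ⟶ pullback (FBase.bcπ f K) m := Scheme.fromSpecResidueField _ v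
  let a : Spec (CommRingCat.of Ω) ⟶ Spec (CommRingCat.of K) := p ≫ pullback.fst _ _ ≫ pullback.snd f _
  let b : Spec (CommRingCat.of Ω) ⟶ Spec (CommRingCat.of L) := p ≫ pullback.snd _ _ ≫ f'
  letI : Algebra L Ω := (Spec.preimage b).hom.toAlgebra
  have hb : Spec.map (CommRingCat.ofHom (algebraMap L Ω)) = b := Spec.map_preimage b
  let P := FBase.bc f' Ω
  have hab : a ≫ Spec.map (CommRingCat.ofHom (algebraMap k K)) = b ≫ h := by
    simp only [a, b, Category.assoc]
    rw [← pullback.condition, ← hc.w, ← pullback.condition_assoc]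
    rfl
  have hP : IsPullback (FBase.bcπ f' Ω) (pullback.snd f' _) f' b := by
    rw [← hb]
    exact IsPullback.of_hasPullback _ _
  have hPk : IsPullback (FBase.bcπ f' Ω ≫ m) (pullback.snd f' _) f (b ≫ h) := hP.paste_horiz hc
  let n : P ⟶ FBase.bc f K := pullback.lift (FBase.bcπ f' Ω ≫ m) (pullback.snd f' _ ≫ a)
    (by rw [Category.assoc _ a, hab]; exact hPk.w)
  have hn : IsPullback n (pullback.snd f' _) (pullback.snd f _) a := by
    refine IsPullback.of_right (h₁₂ := FBase.bcπ f K) (h₂₂ := Spec.map (CommRingCat.ofHom (algebraMap k K)))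
      (v₁₃ := f) ?_ (pullback.lift_snd _ _ _) (IsPullback.of_hasPullback f _)
    rw [hab, show n ≫ FBase.bcπ f K = FBase.bcπ f' Ω ≫ m from pullback.lift_fst _ _ _]
    exact hPk
  haveI : Flat a := by
    obtain ⟨φ, hφ⟩ : ∃ φ, Spec.map φ = a := ⟨Spec.preimage a, Spec.map_preimage a⟩
    rw [← hφ, HasRingHomProperty.Spec_iff (P := @Flat)]
    letI := φ.hom.toAlgebra
    exact inferInstanceAs (Module.Flat K Ω)
  haveI : Flat n := MorphismProperty.of_isPullback hn.flip ‹Flat a›
  let w : Spec (CommRingCat.of Ω) ⟶ P := hP.lift (p ≫ pullback.snd _ _) (𝟙 _) (by simp [b])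
  have hw1 : w ≫ FBase.bcπ f' Ω = p ≫ pullback.snd _ _ := hP.lift_fst _ _ _
  have hwn : w ≫ n = p ≫ pullback.fst _ _ := by
    apply pullback.hom_ext
    · rw [Category.assoc, show n ≫ pullback.fst f _ = FBase.bcπ f' Ω ≫ m from pullback.lift_fst _ _ _,
        ← Category.assoc, hw1, Category.assoc, Category.assoc]
      exact congrArg (p ≫ ·) pullback.condition.symm
    · rw [Category.assoc, show n ≫ pullback.snd f _ = pullback.snd f' _ ≫ a from pullback.lift_snd _ _ _,
        ← Category.assoc, show w ≫ pullback.snd f' _ = 𝟙 _ from hP.lift_snd _ _ _, Category.id_comp]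
      simp [a]
  let t : Spec (CommRingCat.of Ω) := IsLocalRing.closedPoint Ω
  have hpt : p t = v := Scheme.fromSpecResidueField_apply v t
  have h1 : FBase.bcπ f' Ω (w t) = x' := by
    rw [← Scheme.Hom.comp_apply, hw1, Scheme.Hom.comp_apply, hpt, hvx]
  have h2 : n (w t) = z := by
    rw [← Scheme.Hom.comp_apply, hwn, Scheme.Hom.comp_apply, hpt, hvz]
  haveI := hred Ω (w t) h1
  subst h2
  have hflat := Flat.stalkMap n (w t)
  exact isReduced_of_injective (n.stalkMap (w t)).hom (by
    letI := (n.stalkMap (w t)).hom.toAlgebra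
    haveI : IsLocalHom (algebraMap ((FBase.bc f K).presheaf.stalk (n (w t))) (P.presheaf.stalk (w t))) :=
      inferInstanceAs (IsLocalHom (n.stalkMap (w t)).hom)
    haveI : Module.Flat ((FBase.bc f K).presheaf.stalk (n (w t))) (P.presheaf.stalk (w t)) := hflat
    haveI := Module.FaithfullyFlat.of_flat_of_isLocalHom (A := (FBase.bc f K).presheaf.stalk (n (w t)))
      (B := P.presheaf.stalk (w t))
    exact FaithfulSMul.algebraMap_injective _ _)

/-- Geometric reducedness at a point is preserved by extensions of the base field. -/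
theorem isGeomReducedAt_baseChange {k L : Type u} [Field k] [Field L] {X X' : Scheme.{u}}
    {f : X ⟶ Spec (CommRingCat.of k)} {f' : X' ⟶ Spec (CommRingCat.of L)}
    {h : Spec (CommRingCat.of L) ⟶ Spec (CommRingCat.of k)} {m : X' ⟶ X} (hc : IsPullback m f' f h) (x' : X')
    (hred : FBase.IsGeomReducedAt f (m x')) : FBase.IsGeomReducedAt f' x' := by
  intro K _ _ z hz
  letI : Algebra k K := (Spec.preimage (Spec.map (CommRingCat.ofHom (algebraMap L K)) ≫ h)).hom.toAlgebra
  have hk : Spec.map (CommRingCat.ofHom (algebraMap k K)) = Spec.map (CommRingCat.ofHom (algebraMap L K)) ≫ h :=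
    Spec.map_preimage _
  have hP : IsPullback (FBase.bcπ f' K ≫ m) (pullback.snd f' (Spec.map (CommRingCat.ofHom (algebraMap L K)))) f
      (Spec.map (CommRingCat.ofHom (algebraMap k K))) := by
    rw [hk]
    exact (IsPullback.of_hasPullback _ _).paste_horiz hc
  let e : FBase.bc f' K ≅ FBase.bc f K := hP.isoPullback
  haveI := hred K (e.hom z) (by
    rw [← Scheme.Hom.comp_apply, show e.hom ≫ FBase.bcπ f K = FBase.bcπ f' K ≫ m from hP.isoPullback_hom_fst,
      Scheme.Hom.comp_apply, hz])
  exact isReduced_of_injective (asIso (e.hom.stalkMap z)).commRingCatIsoToRingEquiv.symm.toRingHom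
    (asIso (e.hom.stalkMap z)).commRingCatIsoToRingEquiv.symm.injective

/-- Geometric reducedness of fibres at corresponding points of a base change. -/
theorem isGeomReducedAt_fiber_iff {X Y X' Y' : Scheme.{u}} {f : X ⟶ Y} {f' : X' ⟶ Y'} {g : Y' ⟶ Y} {g' : X' ⟶ X}
    (hc : IsPullback g' f' f g) (y' : Y') (z : f'.fiber y') {y : Y} (hy : g y' = y) (w : f.fiber y)
    (hw : f.fiberι y w = g' (f'.fiberι y' z)) :
    FBase.IsGeomReducedAt (f.fiberToSpecResidueField y) w ↔ FBase.IsGeomReducedAt (f'.fiberToSpecResidueField y') z := by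
  subst hy
  have H := isPullback_fiberToSpecResidueField_of_isPullback hc y'
  let m : f'.fiber y' ⟶ f.fiber (g y') := pullback.map _ _ _ _ g' (Spec.map (g.residueFieldMap y')) g hc.w.symm
    (by simp)
  have hm : m z = w := by
    refine (f.fiberι (g y')).isEmbedding.injective ?_
    rw [hw, ← Scheme.Hom.comp_apply, show m ≫ f.fiberι (g y') = f'.fiberι y' ≫ g' from pullback.lift_fst _ _ _,
      Scheme.Hom.comp_apply]
  rw [← hm]
  exact ⟨fun h => isGeomReducedAt_baseChange (k := Y.residueField (g y')) (L := Y'.residueField y') H z h,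
    fun h => isGeomReducedAt_of_isPullback (k := Y.residueField (g y')) (L := Y'.residueField y') H z h⟩

end Groth.Agent.GenIrredLib
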