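import Mathlib
import Groth.Agent.GenIrredLib.GeomInt
import Groth.Agent.GenIrredLib.GeomRedPt
import Groth.Agent.GenIrredLib.GeomRedGlobal
import Groth.Agent.GenIrredLib.SectionNear
import Groth.Agent.DVRFamilyLib.Basic
import Groth.Agent.DVRCrit.Field
import Groth.Agent.UnivOpenAtLib.Dvr
import Groth.Agent.GeomRk.Fibre
import Groth.Agent.GeomIrred.FinSep
import Groth.Agent.FPModelLib.ProperModel

/-!
# Geometrically integral fibres of proper flat morphisms form an open set
-/

set_option autoImplicit false
set_option backward.isDefEq.respectTransparency false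
set_option linter.style.haveILetI false

universe u

open CategoryTheory CategoryTheory.Limits AlgebraicGeometry IsLocalRing TopologicalSpace Topology

namespace Groth.Agent.GenIrredLib

/-- A Noetherian local ring with a regular element whose quotient is a domain is a domain. -/
theorem isDomain_of_regular_of_isPrime {R : Type u} [CommRing R] [IsLocalRing R] [IsNoetherianRing R] (π : R)
    (hreg : ∀ r : R, π * r = 0 → r = 0) (hπ : (Ideal.span {π}).IsPrime) : IsDomain R := by
  refine @NoZeroDivisors.to_isDomain _ _ inferInstance ⟨fun {a b} hab => ?_⟩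
  suffices key : ∀ n : ℕ, ∀ a b : R, a * b = 0 → a ∈ Ideal.span {π ^ n} ∨ b = 0 by
    by_cases hb : b = 0
    · exact .inr hb
    left
    have hI : ∀ n : ℕ, a ∈ (Ideal.span {π}) ^ n := fun n => by
      rw [Ideal.span_singleton_pow]; exact (key n a b hab).resolve_right hb
    rw [← Ideal.mem_bot, ← Ideal.iInf_pow_eq_bot_of_isLocalRing (Ideal.span {π}) hπ.ne_top]
    exact (Submodule.mem_iInf _).2 hI
  intro n
  induction n with
  | zero => exact fun a b _ => .inl (by simp)
  | succ n ih =>
    intro a b hab
    rcases (ih a b hab) with h | h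
    · obtain ⟨c, rfl⟩ := Ideal.mem_span_singleton'.1 h
      have hcb : c * b = 0 := by
        have h1 : ∀ m : ℕ, ∀ r : R, π ^ m * r = 0 → r = 0 := fun m => by
          induction m with
          | zero => simp
          | succ m ihm => exact fun r hr => hreg r (ihm _ (by rw [← mul_assoc, ← pow_succ]; exact hr))
        exact h1 n _ (by rw [← hab]; ring)
      by_cases hc : c ∈ Ideal.span {π}
      · obtain ⟨d, rfl⟩ := Ideal.mem_span_singleton'.1 hc
        exact .inl (Ideal.mem_span_singleton'.2 ⟨d, by ring⟩)
      · right
        -- every power of the element divides `b`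
        have hall : ∀ m : ℕ, b ∈ Ideal.span {π} ^ m := fun m => by
          rw [Ideal.span_singleton_pow]
          induction m with
          | zero => simp
          | succ m ihm =>
            obtain ⟨e, rfl⟩ := Ideal.mem_span_singleton'.1 ihm
            have he : c * e = 0 := by
              have h1 : ∀ k : ℕ, ∀ r : R, π ^ k * r = 0 → r = 0 := fun k => by
                induction k with
                | zero => simp
                | succ k ihk => exact fun r hr => hreg r (ihk _ (by rw [← mul_assoc, ← pow_succ]; exact hr))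
              exact h1 m _ (by rw [← hcb]; ring)
            obtain ⟨e', rfl⟩ := Ideal.mem_span_singleton'.1
              ((hπ.mem_or_mem (show c * e ∈ Ideal.span {π} by rw [he]; exact zero_mem _)).resolve_left hc)
            exact Ideal.mem_span_singleton'.2 ⟨e', by ring⟩
        rw [← Ideal.mem_bot, ← Ideal.iInf_pow_eq_bot_of_isLocalRing (Ideal.span {π}) hπ.ne_top]
        exact (Submodule.mem_iInf _).2 hall
    · exact .inr h

variable {A : Type u} [CommRing A] [IsDomain A] [IsDiscreteValuationRing A]
  {X : Scheme.{u}} (f : X ⟶ Spec (CommRingCat.of A))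

/-- The local ring of a flat scheme over a discrete valuation ring at a point of the special fibre is a domain when
the local ring of the special fibre is. -/
theorem isDomain_stalk_of_isDomain_special [LocallyOfFiniteType f] [Flat f] (w : f.fiber (closedPoint A))
    (hw : IsDomain ((f.fiber (closedPoint A)).presheaf.stalk w)) :
    IsDomain (X.presheaf.stalk (f.fiberι (closedPoint A) w)) := by
  haveI : IsLocallyNoetherian X := LocallyOfFiniteType.isLocallyNoetherian f
  obtain ⟨ϖ, hϖ⟩ := IsDiscreteValuationRing.exists_irreducible A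
  set x := f.fiberι (closedPoint A) w
  have hfx : f x = closedPoint A := (f.range_fiberι _).le ⟨w, rfl⟩
  let S := (Spec (CommRingCat.of A)).presheaf.stalk (f x)
  let σ : S →+* X.presheaf.stalk x := (f.stalkMap x).hom
  have hker : RingHom.ker ((f.fiberι (closedPoint A)).stalkMap w).hom = (maximalIdeal S).map σ :=
    FlatLocus.ker_fiberι_stalkMap f (closedPoint A) w
  obtain ⟨π, hπ⟩ : ∃ π, maximalIdeal S = Ideal.span {π} :=
    ⟨_, DVRFamilyLib.maximalIdeal_stalk_closedPoint ϖ hϖ.maximalIdeal_eq _ hfx⟩
  let e : S ≃+* A := by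
    let y := f x
    change ((Spec (CommRingCat.of A)).presheaf.stalk y) ≃+* A
    rw [show y = closedPoint A from hfx]
    exact (stalkClosedPointIso (CommRingCat.of A)).commRingCatIsoToRingEquiv
  haveI : IsDomain S := e.injective.isDomain e.toRingHom
  have hπ0 : π ≠ 0 := fun h => by
    rw [h, Ideal.span_singleton_zero, ← IsLocalRing.isField_iff_maximalIdeal_eq] at hπ
    exact IsDiscreteValuationRing.not_isField A (e.symm.toMulEquiv.isField hπ)
  haveI := hw
  refine isDomain_of_regular_of_isPrime (σ π) (fun r hr => ?_) ?_
  · algebraize [σ]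
    haveI : Module.Flat S (X.presheaf.stalk x) := Flat.stalkMap f x
    have h1 : IsSMulRegular (X.presheaf.stalk x) π := Module.Flat.isSMulRegular_of_isRegular (IsRegular.of_ne_zero hπ0)
    exact h1 (show π • r = π • 0 by rw [Algebra.smul_def, smul_zero]; exact hr)
  · rw [← Set.image_singleton, ← Ideal.map_span, ← hπ, ← hker]
    exact RingHom.ker_isPrime _

/-- The local rings of a flat scheme over a discrete valuation ring at points of an integral special fibre are
domains. -/
theorem isDomain_stalk_of_integral_special [LocallyOfFiniteType f] [Flat f]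
    (hint : AlgebraicGeometry.IsIntegral (f.fiber (closedPoint A))) (w : f.fiber (closedPoint A)) :
    IsDomain (X.presheaf.stalk (f.fiberι (closedPoint A) w)) :=
  isDomain_stalk_of_isDomain_special f w inferInstance

/-- A flat proper scheme over a discrete valuation ring with integral special fibre is irreducible, hence so is its
generic fibre. -/
theorem irreducibleSpace_generic_fiber [IsProper f] [Flat f]
    (hint : AlgebraicGeometry.IsIntegral (f.fiber (closedPoint A))) {η : Spec (CommRingCat.of A)}
    (hη : η ≠ closedPoint A) : IrreducibleSpace (f.fiber η) := by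
  haveI : IsLocallyNoetherian X := LocallyOfFiniteType.isLocallyNoetherian f
  let ι := f.fiberι (closedPoint A)
  let ξ := ι (genericPoint (f.fiber (closedPoint A)))
  -- the unique generic generization of a point of the special fibre
  have hgen : ∀ v : f.fiber (closedPoint A), ∃ μ : X, μ ⤳ ι v ∧ ∀ z, z ⤳ ι v → μ ⤳ z := fun v => by
    haveI := isDomain_stalk_of_integral_special f hint v
    refine ⟨X.fromSpecStalk (ι v) (⟨⊥, Ideal.isPrime_bot⟩ : PrimeSpectrum (X.presheaf.stalk (ι v))), ?_, fun z hz => ?_⟩
    · have h1 : X.fromSpecStalk (ι v) (⟨⊥, Ideal.isPrime_bot⟩ : PrimeSpectrum (X.presheaf.stalk (ι v))) ∈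
          Set.range (X.fromSpecStalk (ι v)) := ⟨_, rfl⟩
      rwa [Scheme.range_fromSpecStalk] at h1
    · obtain ⟨P, rfl⟩ : z ∈ Set.range (X.fromSpecStalk (ι v)) := by rwa [Scheme.range_fromSpecStalk]
      exact ((PrimeSpectrum.le_iff_specializes _ P).1 bot_le).map (X.fromSpecStalk (ι v)).continuous
  obtain ⟨μ, hμξ, hμ⟩ := hgen (genericPoint _)
  have hall : ∀ x : X, μ ⤳ x := by
    intro x
    obtain ⟨x₀, hxx₀, hfx₀⟩ := f.isClosedMap.specializingMap (IsLocalRing.specializes_closedPoint (f x))
    obtain ⟨v, rfl⟩ : x₀ ∈ Set.range ι := by rw [f.range_fiberι]; exact hfx₀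
    obtain ⟨μ', hμ'v, hμ'⟩ := hgen v
    have hξv : ξ ⤳ ι v := (genericPoint_specializes v).map ι.continuous
    exact ((hμ μ' ((hμ' ξ hξv).trans specializes_rfl)).trans (hμ' x hxx₀))
  haveI : IrreducibleSpace X :=
    { toNonempty := ⟨μ⟩
      toPreirreducibleSpace := ⟨fun U V hU hV ⟨a, _, ha⟩ ⟨b, _, hb⟩ =>
        ⟨μ, trivial, (hall a).mem_open hU ha, (hall b).mem_open hV hb⟩⟩ }
  have hμη : f μ = η := by
    obtain ⟨u, hu, huη⟩ := Flat.generalizingMap (f := f) (show η ⤳ f ξ by
      rw [show f ξ = closedPoint A from (f.range_fiberι _).le ⟨_, rfl⟩]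
      exact IsLocalRing.specializes_closedPoint η)
    have h1 : f μ ⤳ η := huη ▸ (hall u).map f.continuous
    have hzero : ∀ z : Spec (CommRingCat.of A), z ⤳ η → z = η := fun z hz => by
      have h2 : η.asIdeal = ⊥ := by
        by_contra h0
        haveI := IsPrime.to_maximal_ideal (hpi := η.isPrime) h0
        exact hη (PrimeSpectrum.ext (IsLocalRing.eq_maximalIdeal this))
      refine PrimeSpectrum.ext (le_antisymm ((PrimeSpectrum.le_iff_specializes (R := A) z η).2 hz) ?_)
      rw [h2]; exact bot_le
    exact hzero _ h1
  obtain ⟨m, hm⟩ : μ ∈ Set.range (f.fiberι η) := by rw [f.range_fiberι]; exact hμη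
  exact
    { toNonempty := ⟨m⟩
      toPreirreducibleSpace := ⟨fun U V hU hV ⟨a, _, ha⟩ ⟨b, _, hb⟩ =>
        have hsp : ∀ c, m ⤳ c := fun c =>
          (f.fiberι η).isEmbedding.isInducing.specializes_iff.1 (hm ▸ hall _)
        ⟨m, trivial, (hsp a).mem_open hU ha, (hsp b).mem_open hV hb⟩⟩ }

/-- A scheme over a field which is geometrically reduced at all points is geometrically reduced. -/
theorem geometricallyReduced_of_forall_isGeomReducedAt {k : Type u} [Field k] {Z : Scheme.{u}}
    (g : Z ⟶ Spec (CommRingCat.of k)) (h : ∀ z, FBase.IsGeomReducedAt g z) : GeometricallyReduced g := by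
  refine ⟨fun K _ a W p q H => ?_⟩
  obtain ⟨φ, rfl⟩ : ∃ φ, Spec.map φ = a := ⟨Spec.preimage a, Spec.map_preimage a⟩
  letI : Algebra k K := φ.hom.toAlgebra
  haveI : ∀ x : ↥(FBase.bc g K), _root_.IsReduced ((FBase.bc g K).presheaf.stalk x) := fun x => h _ K x rfl
  haveI : AlgebraicGeometry.IsReduced (FBase.bc g K) := isReduced_of_isReduced_stalk _
  haveI : AlgebraicGeometry.IsReduced (pullback g (Spec.map φ)) := ‹AlgebraicGeometry.IsReduced (FBase.bc g K)›
  exact isReduced_of_isOpenImmersion H.isoPullback.hom

/-- Over a Noetherian base the geometrically integral fibres of a proper flat morphism form an open set. -/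
theorem isOpen_geometricallyIntegral_noetherian {X Y : Scheme.{u}} [IsLocallyNoetherian Y] (f : X ⟶ Y)
    [IsProper f] [Flat f] : IsOpen {y : Y | GeometricallyIntegral (f.fiberToSpecResidueField y)} := by
  haveI : LocallyOfFinitePresentation f := LocallyOfFinitePresentation.iff_locallyOfFiniteType.2 inferInstance
  refine isOpen_iff_mem_nhds.2 fun y hy => ?_
  have hy' := (geometricallyIntegral_fiber_iff f y).1 hy
  -- near `y` the fibres are geometrically reduced
  let Ω : Set X := {x | FBase.IsGeomReducedAt (f.fiberToSpecResidueField (f.base x)) (f.asFiber x)}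
  have hΩ : IsOpen Ω := GeomRk.isOpen_geomReduced_of_flat f
  let V : Set Y := (f '' Ωᶜ)ᶜ
  have hV : IsOpen V := (f.isClosedMap _ hΩ.isClosed_compl).isOpen_compl
  have hyV : y ∈ V := by
    rintro ⟨x, hx, rfl⟩
    exact hx (isGeomReducedAt_of_geometricallyReduced (k := Y.residueField (f x)) hy'.1 _)
  have hVred : ∀ z ∈ V, GeometricallyReduced (f.fiberToSpecResidueField z) := fun z hz =>
    geometricallyReduced_of_forall_isGeomReducedAt (k := Y.residueField z) _ fun w => by
      have hfw : f (f.fiberι z w) = z := (f.range_fiberι z).le ⟨w, rfl⟩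
      have h1 : f.fiberι z w ∈ Ω := by
        by_contra h
        exact hz ⟨_, h, hfw⟩
      have h2 : ∀ (z' : Y) (hz' : z' = z) (w' : f.fiber z'), f.fiberι z' w' = f.fiberι z w →
          FBase.IsGeomReducedAt (f.fiberToSpecResidueField z') w' →
          FBase.IsGeomReducedAt (f.fiberToSpecResidueField z) w := by
        rintro z' rfl w' hw' h'
        rwa [(f.fiberι z').isEmbedding.injective hw'] at h'
      exact h2 _ hfw _ (f.fiberι_asFiber _) h1
  obtain ⟨W, hW, hyW, -⟩ := exists_isAffineOpen_mem_and_subset (X := Y) (x := y) (U := ⊤) trivial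
  haveI : IsNoetherianRing Γ(Y, W) := IsLocallyNoetherian.component_noetherian ⟨W, hW⟩
  haveI : NoetherianSpace ↥W.toScheme :=
    (TopologicalSpace.noetherianSpace_iff_of_homeomorph hW.isoSpec.hom.homeomorph).2
      (inferInstanceAs (NoetherianSpace (PrimeSpectrum Γ(Y, W))))
  have hc : IsConstructible (W.ι ⁻¹' {z : Y | GeometricallyIntegral (f.fiberToSpecResidueField z)}) :=
    ((isLocallyConstructible_geometricallyIntegral f).preimage_of_isOpenEmbedding W.ι.isOpenEmbedding).isConstructible
  suffices hgen : ∀ z, z ⤳ y → GeometricallyIntegral (f.fiberToSpecResidueField z) by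
    have h1 : W.ι ⁻¹' {z : Y | GeometricallyIntegral (f.fiberToSpecResidueField z)} ∈ 𝓝 (⟨y, hyW⟩ : W.toScheme) :=
      ConstrNoeth.mem_nhds_of_dense hc fun T hT hirr hyT => by
        have hg := hirr.isGenericPoint_genericPoint hT
        exact hg.def.ge.trans (closure_mono (Set.singleton_subset_iff.2
          ⟨hgen _ ((hg.specializes hyT).map W.ι.continuous), hg.mem⟩))
    exact Filter.mem_of_superset (W.ι.isOpenEmbedding.isOpenMap.image_mem_nhds h1) (Set.image_preimage_subset _ _)
  intro z hz
  by_cases hne : z = y
  · exact hne ▸ hy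
  haveI := hVred z (hz.mem_open hV hyV)
  haveI : GeometricallyIrreducible (f.fiberToSpecResidueField z) := by
    refine GeomIrred.geometricallyIrreducible_of_finite_separable (k := Y.residueField z) _ fun L _ _ _ _ => ?_
    obtain ⟨A, _, _, _, g₀, hgc, hgη⟩ := UnivOpenAtLib.exists_dvr_specialization hz hne
    let η₀ : Spec (CommRingCat.of A) := (⟨⊥, Ideal.isPrime_bot⟩ : PrimeSpectrum A)
    have hη₀ : g₀ η₀ = z := hgη η₀ fun he => IsDiscreteValuationRing.not_a_field A (congrArg PrimeSpectrum.asIdeal he).symm
    subst hη₀
    let K := FractionRing A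
    let s : Spec (CommRingCat.of K) ⟶ Y := Spec.map (CommRingCat.ofHom (algebraMap A K)) ≫ g₀
    have hs : s (closedPoint K) = g₀ η₀ := by
      show g₀ (PrimeSpectrum.comap (algebraMap A K) (closedPoint K)) = g₀ η₀
      congr 1
      refine PrimeSpectrum.ext ?_
      show (maximalIdeal K).comap (algebraMap A K) = ⊥
      rw [maximalIdeal_eq_bot, ← RingHom.ker_eq_comap_bot, (RingHom.injective_iff_ker_eq_bot _).1 (IsFractionRing.injective A K)]
    obtain ⟨φ, hφ⟩ : ∃ φ : Y.residueField (g₀ η₀) ⟶ CommRingCat.of K, Spec.map φ ≫ Y.fromSpecResidueField _ = s := by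
      have h1 := hs
      revert h1
      generalize g₀ η₀ = z'
      rintro rfl
      exact ⟨_, Y.descResidueField_stalkClosedPointTo_fromSpecResidueField _ s⟩
    let F := AlgebraicClosure K
    letI : Algebra (Y.residueField (g₀ η₀)) F := ((algebraMap K F).comp φ.hom).toAlgebra
    let ψ : L →ₐ[Y.residueField (g₀ η₀)] F := IsAlgClosed.lift
    obtain ⟨gens, hgens⟩ := (Module.Finite.fg_top : (⊤ : Submodule (Y.residueField (g₀ η₀)) L).FG)
    let L' : IntermediateField K F := IntermediateField.adjoin K (ψ '' (gens : Set L))
    have hLL' : ∀ l : L, ψ l ∈ L' := fun l => by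
      have hl : l ∈ Submodule.span (Y.residueField (g₀ η₀)) (gens : Set L) := hgens ▸ Submodule.mem_top
      induction hl using Submodule.span_induction with
      | mem x hx => exact IntermediateField.subset_adjoin K _ ⟨x, hx, rfl⟩
      | zero => rw [map_zero]; exact zero_mem _
      | add a b _ _ ha hb => rw [map_add]; exact add_mem ha hb
      | smul c x _ hx =>
        rw [map_smul, Algebra.smul_def]
        exact mul_mem (IntermediateField.algebraMap_mem L' (φ.hom c)) hx
    haveI : FiniteDimensional K L' :=
      haveI := (gens.finite_toSet.image ψ).to_subtype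
      IntermediateField.finiteDimensional_adjoin fun x _ => Algebra.IsIntegral.isIntegral x
    have hfg : (⊤ : IntermediateField K L').FG := IntermediateField.fg_top_iff.2 inferInstance
    obtain ⟨B, hB, hAB, hAm⟩ := DVRCrit.exists_dvr_dominating_fg (L := L') A (IsDiscreteValuationRing.not_isField A) K hfg
    haveI := hB
    let β : A →+* B := (algebraMap A L').codRestrict B.toSubring hAB
    let g : Spec (CommRingCat.of B) ⟶ Y := Spec.map (CommRingCat.ofHom β) ≫ g₀
    have hgcB : g (closedPoint B) = y := by
      rw [← hgc]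
      show g₀ (PrimeSpectrum.comap β (closedPoint B)) = g₀ (closedPoint A)
      congr 1
      refine PrimeSpectrum.ext (((Ideal.IsPrime.comap β).ne_top |> fun h => le_maximalIdeal h).antisymm fun a ha => ?_)
      exact ValuationSubring.coe_mem_nonunits_iff.1 (hAm a ha)
    let f' := pullback.snd f g
    haveI : IsProper f' := MorphismProperty.pullback_snd _ _ inferInstance
    haveI : Flat f' := MorphismProperty.pullback_snd _ _ inferInstance
    have hint : AlgebraicGeometry.IsIntegral (f'.fiber (closedPoint B)) := by
      have H := isPullback_fiberToSpecResidueField_of_isPullback (IsPullback.of_hasPullback f g) (closedPoint B)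
      subst hgcB
      exact hy.geometrically_isIntegral _ _ _ H
    let a : Spec (CommRingCat.of L') ⟶ Spec (CommRingCat.of B) := Spec.map (CommRingCat.ofHom B.subtype)
    let η : Spec (CommRingCat.of B) := a (closedPoint L')
    have hη : η ≠ closedPoint B := fun he => by
      refine IsDiscreteValuationRing.not_a_field B ?_
      have h1 : (maximalIdeal L').comap B.subtype = maximalIdeal B := congrArg PrimeSpectrum.asIdeal he
      rw [← h1, maximalIdeal_eq_bot, ← RingHom.ker_eq_comap_bot]
      exact (RingHom.injective_iff_ker_eq_bot _).1 Subtype.val_injective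
    haveI := irreducibleSpace_generic_fiber f' hint hη
    -- the base change to the large field is an open dense part
    let t : Spec (CommRingCat.of L') ⟶ Spec (CommRingCat.of L) :=
      Spec.map (CommRingCat.ofHom (ψ.toRingHom.codRestrict L'.toSubfield.toSubring hLL'))
    have hta : a ≫ g = t ≫ Spec.map (CommRingCat.ofHom (algebraMap (Y.residueField (g₀ η₀)) L)) ≫
        Y.fromSpecResidueField (g₀ η₀) := by
      have hl : a ≫ g = Spec.map (CommRingCat.ofHom (algebraMap A L')) ≫ g₀ := by
        show Spec.map _ ≫ Spec.map _ ≫ g₀ = _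
        rw [← Category.assoc, ← Spec.map_comp]
        rfl
      rw [hl, show CommRingCat.ofHom (algebraMap A L') = CommRingCat.ofHom (algebraMap A K) ≫
        CommRingCat.ofHom (algebraMap K L') from by rw [← CommRingCat.ofHom_comp, ← IsScalarTower.algebraMap_eq],
        Spec.map_comp, Category.assoc]
      show _ ≫ s = _
      rw [← hφ, ← Category.assoc, ← Category.assoc]
      congr 1
      show _ = Spec.map _ ≫ Spec.map _
      rw [← Spec.map_comp, ← Spec.map_comp]
      congr 1
      exact CommRingCat.hom_ext (RingHom.ext fun c => Subtype.ext (ψ.commutes c).symm)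
    haveI : IsPreimmersion a := IsPreimmersion.of_isLocalization (nonZeroDivisors B)
    haveI : IrreducibleSpace ↥(pullback f' a) := by
      have hr : Set.range (pullback.fst f' a) = Set.range (f'.fiberι η) := by
        rw [Scheme.Pullback.range_fst, f'.range_fiberι]
        congr 1
        exact Set.ext fun w => ⟨fun ⟨v, hv⟩ => hv ▸ congrArg a (Subsingleton.elim v _), fun hw => ⟨closedPoint L', hw.symm⟩⟩
      have h1 : IsIrreducible (Set.range (f'.fiberι η)) := by
        rw [← Set.image_univ]
        exact (IrreducibleSpace.isIrreducible_univ _).image _ (f'.fiberι η).continuous.continuousOn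
      haveI : IrreducibleSpace ↥(Set.range (pullback.fst f' a)) := Subtype.irreducibleSpace (hr ▸ h1)
      exact (pullback.fst f' a).isEmbedding.toHomeomorph.irreducibleSpace_iff.2 inferInstance
    haveI : IrreducibleSpace ↥(pullback f (a ≫ g)) :=
      (pullbackLeftPullbackSndIso f g a).hom.homeomorph.irreducibleSpace_iff.1 inferInstance
    let l : Spec (CommRingCat.of L) ⟶ Y :=
      Spec.map (CommRingCat.ofHom (algebraMap (Y.residueField (g₀ η₀)) L)) ≫ Y.fromSpecResidueField (g₀ η₀)
    haveI : Surjective t := ⟨fun v => ⟨closedPoint L', Subsingleton.elim _ _⟩⟩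
    let u : pullback f (a ≫ g) ⟶ pullback f l :=
      (pullback.congrHom rfl hta).hom ≫ (pullbackLeftPullbackSndIso f l t).inv ≫ pullback.fst (pullback.snd f l) t
    have hu : Function.Surjective u := by
      haveI : Surjective u := inferInstance
      exact u.surjective
    haveI : IrreducibleSpace ↥(pullback f l) := by
      refine irreducibleSpace_def _ |>.2 ?_
      rw [Set.top_eq_univ, ← hu.range_eq, ← Set.image_univ]
      exact (IrreducibleSpace.isIrreducible_univ _).image _ u.continuous.continuousOn
    exact (pullbackLeftPullbackSndIso f (Y.fromSpecResidueField (g₀ η₀))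
      (Spec.map (CommRingCat.ofHom (algebraMap (Y.residueField (g₀ η₀)) L)))).hom.homeomorph.irreducibleSpace_iff.2
        (inferInstanceAs (IrreducibleSpace ↥(pullback f l)))
  exact GeometricallyIntegral.of_geometricallyReduced_of_geometricallyIrreducible _

/-- The geometrically integral fibres of a proper flat morphism of finite presentation form an open set. -/
theorem isOpen_geometricallyIntegral {X Y : Scheme.{u}} (f : X ⟶ Y) [IsProper f] [Flat f]
    [LocallyOfFinitePresentation f] : IsOpen {y : Y | GeometricallyIntegral (f.fiberToSpecResidueField y)} := by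
  refine isOpen_iff_mem_nhds.2 fun y hy => ?_
  obtain ⟨U, hU, hyU, -⟩ := exists_isAffineOpen_mem_and_subset (X := Y) (x := y) (U := ⊤) trivial
  let j := hU.fromSpec
  let g := pullback.snd f j
  haveI : IsProper g := MorphismProperty.pullback_snd _ _ inferInstance
  haveI : Flat g := MorphismProperty.pullback_snd _ _ inferInstance
  haveI : LocallyOfFinitePresentation g := MorphismProperty.pullback_snd _ _ inferInstance
  obtain ⟨i, X₀, f₀, q, hlfp, hp, hfl, hsq⟩ := FPModelLib.exists_proper_flat_zmodel g
  haveI := hp
  haveI := hfl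
  have hopen := (isOpen_geometricallyIntegral_noetherian f₀).preimage (FPModelLib.zπ _ i).continuous
  obtain ⟨y₁, rfl⟩ : y ∈ Set.range j := by rw [hU.range_fromSpec]; exact hyU
  have key : ∀ w, GeometricallyIntegral (f.fiberToSpecResidueField (j w)) ↔
      GeometricallyIntegral (f₀.fiberToSpecResidueField (FPModelLib.zπ _ i w)) := fun w =>
    (geometricallyIntegral_fiber_baseChange f (IsPullback.of_hasPullback f j) w).symm.trans
      (geometricallyIntegral_fiber_baseChange f₀ hsq w)
  refine Filter.mem_of_superset (j.isOpenEmbedding.isOpenMap.image_mem_nhds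
    (hopen.mem_nhds ((key y₁).1 hy))) ?_
  rintro _ ⟨w, hw, rfl⟩
  exact (key w).2 hw

end Groth.Agent.GenIrredLib
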