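import Mathlib
import Groth.Prelude.Def_FDesc
import Groth.Agent.GeomRedPtLib.Basic
import Groth.Agent.GeomIrred.Basic
import Groth.Agent.AffLim.Integral
import Groth.Agent.FinCondEasy.Components
import Groth.Agent.CompTopLib.Basic
import Groth.Agent.GenIrredLib.IntegralFibres
import Groth.Agent.RatNormal.Basic

/-!
# Pointwise geometric integrality
-/

set_option autoImplicit false
set_option backward.isDefEq.respectTransparency false
set_option linter.style.haveILetI false

universe u

open CategoryTheory CategoryTheory.Limits AlgebraicGeometry TopologicalSpace Topology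
open scoped TensorProduct

attribute [local instance] Curv2.stalkAlgebra

namespace Groth.Agent.GenIrredLib

/-- Descent of pointwise geometric integrality along an extension of the base field. -/
theorem isGeomPtIntegralAt_of_isPullback {k L : Type u} [Field k] [Field L] {X X' : Scheme.{u}}
    {f : X ⟶ Spec (CommRingCat.of k)} {f' : X' ⟶ Spec (CommRingCat.of L)}
    {h : Spec (CommRingCat.of L) ⟶ Spec (CommRingCat.of k)} {m : X' ⟶ X} (hc : IsPullback m f' f h) (x' : X')
    (hint : FBase.IsGeomPtIntegralAt f' x') : FBase.IsGeomPtIntegralAt f (m x') := by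
  intro K _ _ z hz
  obtain ⟨v, hvz, hvx⟩ := Scheme.Pullback.exists_preimage_pullback (f := FBase.bcπ f K) (g := m) z x' hz
  let Ω : Type u := (pullback (FBase.bcπ f K) m).residueField v
  let p : Spec (CommRingCat.of Ω) ⟶ pullback (FBase.bcπ f K) m := Scheme.fromSpecResidueField _ v
  let a : Spec (CommRingCat.of Ω) ⟶ Spec (CommRingCat.of K) := p ≫ pullback.fst _ _ ≫ pullback.snd f _
  let b : Spec (CommRingCat.of Ω) ⟶ Spec (CommRingCat.of L) := p ≫ pullback.snd _ _ ≫ f'
  letI : Algebra L Ω := (Spec.preimage b).hom.toAlgebra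
  have hb : Spec.map (CommRingCat.ofHom (algebraMap L Ω)) = b := Spec.map_preimage b
  let P := FBase.bc f' Ω
  have hab : a ≫ Spec.map (CommRingCat.ofHom (algebraMap k K)) = b ≫ h := by
    simp only [a, b, Category.assoc]
    rw [← pullback.condition, ← hc.w, ← pullback.condition_assoc]
    rfl
  have hP : IsPullback (FBase.bcπ f' Ω) (pullback.snd f' _) f' b := by
    rw [← hb]
    exact IsPullback.of_hasPullback _ _
  have hPk : IsPullback (FBase.bcπ f' Ω ≫ m) (pullback.snd f' _) f (b ≫ h) := hP.paste_horiz hc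
  let n : P ⟶ FBase.bc f K := pullback.lift (FBase.bcπ f' Ω ≫ m) (pullback.snd f' _ ≫ a)
    (by rw [Category.assoc _ a, hab]; exact hPk.w)
  have hn : IsPullback n (pullback.snd f' _) (pullback.snd f _) a := by
    refine IsPullback.of_right (h₁₂ := FBase.bcπ f K) (h₂₂ := Spec.map (CommRingCat.ofHom (algebraMap k K)))
      (v₁₃ := f) ?_ (pullback.lift_snd _ _ _) (IsPullback.of_hasPullback f _)
    rw [hab, show n ≫ FBase.bcπ f K = FBase.bcπ f' Ω ≫ m from pullback.lift_fst _ _ _]
    exact hPk
  haveI : Flat a := by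
    obtain ⟨φ, hφ⟩ : ∃ φ, Spec.map φ = a := ⟨Spec.preimage a, Spec.map_preimage a⟩
    rw [← hφ, HasRingHomProperty.Spec_iff (P := @Flat)]
    letI := φ.hom.toAlgebra
    exact inferInstanceAs (Module.Flat K Ω)
  haveI : Flat n := MorphismProperty.of_isPullback hn.flip ‹Flat a›
  let w : Spec (CommRingCat.of Ω) ⟶ P := hP.lift (p ≫ pullback.snd _ _) (𝟙 _) (by simp [b])
  have hw1 : w ≫ FBase.bcπ f' Ω = p ≫ pullback.snd _ _ := hP.lift_fst _ _ _
  have hwn : w ≫ n = p ≫ pullback.fst _ _ := by
    apply pullback.hom_ext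
    · rw [Category.assoc, show n ≫ pullback.fst f _ = FBase.bcπ f' Ω ≫ m from pullback.lift_fst _ _ _,
        ← Category.assoc, hw1, Category.assoc, Category.assoc]
      exact congrArg (p ≫ ·) pullback.condition.symm
    · rw [Category.assoc, show n ≫ pullback.snd f _ = pullback.snd f' _ ≫ a from pullback.lift_snd _ _ _,
        ← Category.assoc, show w ≫ pullback.snd f' _ = 𝟙 _ from hP.lift_snd _ _ _, Category.id_comp]
      simp [a]
  let t : Spec (CommRingCat.of Ω) := IsLocalRing.closedPoint Ω
  have hpt : p t = v := Scheme.fromSpecResidueField_apply v t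
  have h1 : FBase.bcπ f' Ω (w t) = x' := by
    rw [← Scheme.Hom.comp_apply, hw1, Scheme.Hom.comp_apply, hpt, hvx]
  have h2 : n (w t) = z := by
    rw [← Scheme.Hom.comp_apply, hwn, Scheme.Hom.comp_apply, hpt, hvz]
  haveI := hint Ω (w t) h1
  subst h2
  have hflat := Flat.stalkMap n (w t)
  have hinj : Function.Injective (n.stalkMap (w t)).hom := by
    letI := (n.stalkMap (w t)).hom.toAlgebra
    haveI : IsLocalHom (algebraMap ((FBase.bc f K).presheaf.stalk (n (w t))) (P.presheaf.stalk (w t))) :=
      inferInstanceAs (IsLocalHom (n.stalkMap (w t)).hom)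
    haveI : Module.Flat ((FBase.bc f K).presheaf.stalk (n (w t))) (P.presheaf.stalk (w t)) := hflat
    haveI := Module.FaithfullyFlat.of_flat_of_isLocalHom (A := (FBase.bc f K).presheaf.stalk (n (w t)))
      (B := P.presheaf.stalk (w t))
    exact FaithfulSMul.algebraMap_injective _ _
  exact hinj.isDomain (n.stalkMap (w t)).hom

/-- Pointwise geometric integrality is preserved by extensions of the base field. -/
theorem isGeomPtIntegralAt_baseChange {k L : Type u} [Field k] [Field L] {X X' : Scheme.{u}}
    {f : X ⟶ Spec (CommRingCat.of k)} {f' : X' ⟶ Spec (CommRingCat.of L)}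
    {h : Spec (CommRingCat.of L) ⟶ Spec (CommRingCat.of k)} {m : X' ⟶ X} (hc : IsPullback m f' f h) (x' : X')
    (hint : FBase.IsGeomPtIntegralAt f (m x')) : FBase.IsGeomPtIntegralAt f' x' := by
  intro K _ _ z hz
  letI : Algebra k K := (Spec.preimage (Spec.map (CommRingCat.ofHom (algebraMap L K)) ≫ h)).hom.toAlgebra
  have hk : Spec.map (CommRingCat.ofHom (algebraMap k K)) = Spec.map (CommRingCat.ofHom (algebraMap L K)) ≫ h :=
    Spec.map_preimage _
  have hP : IsPullback (FBase.bcπ f' K ≫ m) (pullback.snd f' (Spec.map (CommRingCat.ofHom (algebraMap L K)))) f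
      (Spec.map (CommRingCat.ofHom (algebraMap k K))) := by
    rw [hk]
    exact (IsPullback.of_hasPullback _ _).paste_horiz hc
  let e : FBase.bc f' K ≅ FBase.bc f K := hP.isoPullback
  haveI := hint K (e.hom z) (by
    rw [← Scheme.Hom.comp_apply, show e.hom ≫ FBase.bcπ f K = FBase.bcπ f' K ≫ m from hP.isoPullback_hom_fst,
      Scheme.Hom.comp_apply, hz])
  exact (asIso (e.hom.stalkMap z)).commRingCatIsoToRingEquiv.symm.injective.isDomain
    (asIso (e.hom.stalkMap z)).commRingCatIsoToRingEquiv.symm.toRingHom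

/-- Pointwise geometric integrality of fibres at corresponding points of a base change. -/
theorem isGeomPtIntegralAt_fiber_iff {X Y X' Y' : Scheme.{u}} {f : X ⟶ Y} {f' : X' ⟶ Y'} {g : Y' ⟶ Y}
    {g' : X' ⟶ X} (hc : IsPullback g' f' f g) (y' : Y') (z : f'.fiber y') {y : Y} (hy : g y' = y) (w : f.fiber y)
    (hw : f.fiberι y w = g' (f'.fiberι y' z)) :
    FBase.IsGeomPtIntegralAt (f.fiberToSpecResidueField y) w ↔
      FBase.IsGeomPtIntegralAt (f'.fiberToSpecResidueField y') z := by
  subst hy
  have H := isPullback_fiberToSpecResidueField_of_isPullback hc y'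
  let m : f'.fiber y' ⟶ f.fiber (g y') := pullback.map _ _ _ _ g' (Spec.map (g.residueFieldMap y')) g hc.w.symm
    (by simp)
  have hm : m z = w := by
    refine (f.fiberι (g y')).isEmbedding.injective ?_
    rw [hw, ← Scheme.Hom.comp_apply, show m ≫ f.fiberι (g y') = f'.fiberι y' ≫ g' from pullback.lift_fst _ _ _,
      Scheme.Hom.comp_apply]
  rw [← hm]
  exact ⟨fun h => isGeomPtIntegralAt_baseChange (k := Y.residueField (g y')) (L := Y'.residueField y') H z h,
    fun h => isGeomPtIntegralAt_of_isPullback (k := Y.residueField (g y')) (L := Y'.residueField y') H z h⟩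

/-- The local ring at a pointwise geometrically integral point is a domain. -/
theorem isDomain_stalk_of_isGeomPtIntegralAt {k : Type u} [Field k] {X : Scheme.{u}}
    (f : X ⟶ Spec (CommRingCat.of k)) (x : X) (h : FBase.IsGeomPtIntegralAt f x) :
    IsDomain (X.presheaf.stalk x) := by
  let π := pullback.fst f (Spec.map (CommRingCat.ofHom (algebraMap k k)))
  haveI : IsIso (Spec.map (CommRingCat.ofHom (algebraMap k k))) := by
    rw [show Spec.map (CommRingCat.ofHom (algebraMap k k)) = 𝟙 _ from Spec.map_id (CommRingCat.of k)]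
    infer_instance
  haveI : IsIso π := inferInstanceAs (IsIso (pullback.fst f _))
  obtain ⟨x', rfl⟩ := π.surjective x
  haveI : IsDomain ((pullback f (Spec.map (CommRingCat.ofHom (algebraMap k k)))).presheaf.stalk x') := h k x' rfl
  exact (asIso (π.stalkMap x')).commRingCatIsoToRingEquiv.injective.isDomain
    (asIso (π.stalkMap x')).commRingCatIsoToRingEquiv.toRingHom

/-- Over an algebraically closed field pointwise geometric integrality is integrality. -/
theorem isGeomPtIntegralAt_iff_isDomain {k : Type u} [Field k] [IsAlgClosed k] {X : Scheme.{u}}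
    (f : X ⟶ Spec (CommRingCat.of k)) (x : X) :
    FBase.IsGeomPtIntegralAt f x ↔ IsDomain (X.presheaf.stalk x) := by
  refine ⟨fun h => isDomain_stalk_of_isGeomPtIntegralAt f x h, fun h K _ _ x' hx' => ?_⟩
  letI : X.Over (Spec (CommRingCat.of k)) := ⟨f⟩
  haveI := h
  haveI : IsDomain (X.presheaf.stalk x ⊗[k] K) := GeomIrred.isDomain_tensor
  obtain ⟨q, hq⟩ : FBase.bcπ f K x' ∈ Set.range (X.fromSpecStalk x) := ⟨IsLocalRing.closedPoint _,
    (Scheme.fromSpecStalk_closedPoint).trans hx'.symm⟩
  obtain ⟨p, hp, -⟩ := Scheme.exists_preimage_of_isPullback (GeomRedPtLib.isPullback_tensorPt (k := k) K x) x' q hq.symm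
  let t := GeomRedPtLib.tensorPt k X K x
  change IsDomain ((Curv2.bc k X K).presheaf.stalk x')
  subst hp
  haveI : AlgebraicGeometry.IsIntegral (Spec (CommRingCat.of (X.presheaf.stalk x ⊗[k] K))) := inferInstance
  haveI : IsDomain ((Spec (CommRingCat.of (X.presheaf.stalk x ⊗[k] K))).presheaf.stalk p) := inferInstance
  have hinj : Function.Injective (t.stalkMap p).hom := by
    algebraize [(t.stalkMap p).hom]
    haveI : IsLocalHom (algebraMap ((Curv2.bc k X K).presheaf.stalk (t p))
        ((Spec (CommRingCat.of (X.presheaf.stalk x ⊗[k] K))).presheaf.stalk p)) := t.toLRSHom.prop p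
    haveI : Module.Flat ((Curv2.bc k X K).presheaf.stalk (t p))
        ((Spec (CommRingCat.of (X.presheaf.stalk x ⊗[k] K))).presheaf.stalk p) := Flat.stalkMap t p
    haveI := Module.FaithfullyFlat.of_flat_of_isLocalHom (A := (Curv2.bc k X K).presheaf.stalk (t p))
      (B := (Spec (CommRingCat.of (X.presheaf.stalk x ⊗[k] K))).presheaf.stalk p)
    exact FaithfulSMul.algebraMap_injective _ _
  exact hinj.isDomain (t.stalkMap p).hom

/-- One algebraically closed extension decides pointwise geometric integrality. -/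
theorem isGeomPtIntegralAt_iff_of_algClosed {k Ω : Type u} [Field k] [Field Ω] [Algebra k Ω] [IsAlgClosed Ω]
    {X : Scheme.{u}} (f : X ⟶ Spec (CommRingCat.of k)) (x' : ↥(FBase.bc f Ω)) :
    FBase.IsGeomPtIntegralAt f (FBase.bcπ f Ω x') ↔ IsDomain ((FBase.bc f Ω).presheaf.stalk x') := by
  refine Iff.trans ⟨fun h => ?_, fun h => ?_⟩ (isGeomPtIntegralAt_iff_isDomain (FBase.bcStr f Ω) x')
  · exact isGeomPtIntegralAt_baseChange (IsPullback.of_hasPullback f _) x' h
  · exact isGeomPtIntegralAt_of_isPullback (IsPullback.of_hasPullback f _) x' h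

/-- The pointwise geometrically integral points of a scheme locally of finite type over a field form an open set. -/
theorem isOpen_isGeomPtIntegralAt {k : Type u} [Field k] {X : Scheme.{u}}
    (f : X ⟶ Spec (CommRingCat.of k)) [LocallyOfFiniteType f] : IsOpen {x : X | FBase.IsGeomPtIntegralAt f x} := by
  let Ω := AlgebraicClosure k
  let π := FBase.bcπ f Ω
  haveI : IsIntegralHom (Spec.map (CommRingCat.ofHom (algebraMap k Ω))) := by
    rw [IsIntegralHom.SpecMap_iff]
    exact Algebra.IsIntegral.isIntegral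
  haveI : IsIntegralHom π := MorphismProperty.pullback_fst _ _ inferInstance
  haveI : Surjective (Spec.map (CommRingCat.ofHom (algebraMap k Ω))) :=
    ⟨fun v => ⟨IsLocalRing.closedPoint Ω, Subsingleton.elim (α := PrimeSpectrum k) _ _⟩⟩
  haveI : Surjective π := MorphismProperty.pullback_fst _ _ inferInstance
  haveI : LocallyOfFiniteType (FBase.bcStr f Ω) := MorphismProperty.pullback_snd _ _ inferInstance
  haveI : IsLocallyNoetherian (FBase.bc f Ω) := LocallyOfFiniteType.isLocallyNoetherian (FBase.bcStr f Ω)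
  let D : Set ↥(FBase.bc f Ω) := {x' | IsDomain ((FBase.bc f Ω).presheaf.stalk x')}
  have hD : IsOpen D := isOpen_iff_forall_mem_open.2 fun x' hx' => by
    haveI : IsDomain ((FBase.bc f Ω).presheaf.stalk x') := hx'
    obtain ⟨U, hxU, hU⟩ := AffLim.exists_isIntegral_nhd x'
    refine ⟨U, fun v hv => ?_, U.2, hxU⟩
    haveI := hU
    exact RatNormal.isDomain_stalk_of_isIntegral v (W := U) hv
  have heq : {x : X | FBase.IsGeomPtIntegralAt f x} = (π '' Dᶜ)ᶜ := by
    ext x
    constructor
    · rintro hx ⟨x', hx', rfl⟩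
      exact hx' ((isGeomPtIntegralAt_iff_of_algClosed f x').1 hx)
    · intro hx
      obtain ⟨x', rfl⟩ := π.surjective x
      refine (isGeomPtIntegralAt_iff_of_algClosed f x').2 ?_
      by_contra hh
      exact hx ⟨x', hh, rfl⟩
  rw [heq]
  exact (π.isClosedMap _ hD.isClosed_compl).isOpen_compl

/-- A Noetherian scheme has domains as local rings exactly when it is reduced with as many irreducible as connected
components. -/
theorem forall_isDomain_iff (T : Scheme.{u}) [AlgebraicGeometry.IsNoetherian T] :
    (∀ t : T, IsDomain (T.presheaf.stalk t)) ↔ AlgebraicGeometry.IsReduced T ∧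
      Nat.card ↥(irreducibleComponents (T : Type u)) = Nat.card (_root_.ConnectedComponents T) := by
  classical
  haveI : Finite ↥(irreducibleComponents (T : Type u)) :=
    (TopologicalSpace.NoetherianSpace.finite_irreducibleComponents (α := T)).to_subtype
  let φ : ↥(irreducibleComponents (T : Type u)) → _root_.ConnectedComponents T :=
    fun Z => ConnectedComponents.mk Z.2.1.nonempty.some
  have hφ : ∀ (Z : ↥(irreducibleComponents (T : Type u))), ∀ z ∈ Z.1, ConnectedComponents.mk z = φ Z := fun Z z hz =>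
    ConnectedComponents.coe_eq_coe'.2
      (Z.2.1.isConnected.isPreconnected.subset_connectedComponent Z.2.1.nonempty.some_mem hz)
  have hsurj : Function.Surjective φ := fun c => by
    obtain ⟨t, rfl⟩ := ConnectedComponents.surjective_coe c
    exact ⟨⟨_, irreducibleComponent_mem_irreducibleComponents t⟩, (hφ _ t mem_irreducibleComponent).symm⟩
  haveI : Finite (_root_.ConnectedComponents T) := Finite.of_surjective φ hsurj
  constructor
  · intro h
    haveI : ∀ t : T, _root_.IsReduced (T.presheaf.stalk t) := fun t => by haveI := h t; infer_instance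
    refine ⟨isReduced_of_isReduced_stalk T, Nat.card_eq_of_bijective φ ⟨fun Z Z' he => ?_, hsurj⟩⟩
    have hd := (FinCondEasy.pairwiseDisjoint_iff T).2 fun t => by
      haveI := h t
      rw [nilradical_eq_zero]
      exact Ideal.isPrime_bot
    have hcl : IsClopen Z.1 := ⟨isClosed_of_mem_irreducibleComponents _ Z.2,
      CompTopLib.isOpen_of_disjoint (fun A hA B hB hne => hd hA hB hne)
        (fun x => ⟨Set.univ, isOpen_univ, trivial,
          (TopologicalSpace.NoetherianSpace.finite_irreducibleComponents (α := T)).subset fun A hA => hA.1⟩) Z.2⟩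
    refine Subtype.ext (hd.elim Z.2 Z'.2 (Set.not_disjoint_iff.2 ⟨_, ?_, Z'.2.1.nonempty.some_mem⟩))
    exact hcl.connectedComponent_subset Z.2.1.nonempty.some_mem (ConnectedComponents.coe_eq_coe'.1 he.symm)
  · rintro ⟨hred, hcard⟩ t
    haveI := hred
    have hbij : Function.Bijective φ := hsurj.bijective_of_nat_card_le hcard.le
    have hp := (FinCondEasy.pairwiseDisjoint_iff T).1 (fun Z hZ Z' hZ' hne => Set.disjoint_left.2 fun z hz hz' =>
      hne (congrArg Subtype.val (hbij.1 (a₁ := ⟨Z, hZ⟩) (a₂ := ⟨Z', hZ'⟩) ((hφ ⟨Z, hZ⟩ z hz).symm.trans (hφ ⟨Z', hZ'⟩ z hz'))))) t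
    rw [nilradical_eq_zero] at hp
    haveI := hp
    exact IsDomain.of_bot_isPrime _

/-- Pointwise geometric integrality everywhere, counted over an algebraically closed extension. -/
theorem forall_isGeomPtIntegralAt_iff {k Ω : Type u} [Field k] [Field Ω] [Algebra k Ω] [IsAlgClosed Ω]
    {X : Scheme.{u}} (f : X ⟶ Spec (CommRingCat.of k)) [LocallyOfFiniteType f] [QuasiCompact f] :
    (∀ x : X, FBase.IsGeomPtIntegralAt f x) ↔
      (GeometricallyReduced f ∧
        Nat.card ↥(irreducibleComponents ↥(FBase.bc f Ω)) = Nat.card (_root_.ConnectedComponents ↥(FBase.bc f Ω))) := by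
  haveI : LocallyOfFiniteType (FBase.bcStr f Ω) := MorphismProperty.pullback_snd _ _ inferInstance
  haveI : QuasiCompact (FBase.bcStr f Ω) := MorphismProperty.pullback_snd _ _ inferInstance
  haveI : IsLocallyNoetherian (FBase.bc f Ω) := LocallyOfFiniteType.isLocallyNoetherian (FBase.bcStr f Ω)
  haveI : CompactSpace ↥(FBase.bc f Ω) := QuasiCompact.compactSpace_of_compactSpace (FBase.bcStr f Ω)
  haveI : AlgebraicGeometry.IsNoetherian (FBase.bc f Ω) := ⟨⟩
  haveI : Surjective (Spec.map (CommRingCat.ofHom (algebraMap k Ω))) :=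
    ⟨fun v => ⟨IsLocalRing.closedPoint Ω, Subsingleton.elim (α := PrimeSpectrum k) _ _⟩⟩
  haveI : Surjective (FBase.bcπ f Ω) := MorphismProperty.pullback_fst _ _ inferInstance
  have hall : (∀ x : X, FBase.IsGeomPtIntegralAt f x) ↔ ∀ t : ↥(FBase.bc f Ω), IsDomain ((FBase.bc f Ω).presheaf.stalk t) :=
    ⟨fun h t => (isGeomPtIntegralAt_iff_of_algClosed f t).1 (h _), fun h x => by
      obtain ⟨t, rfl⟩ := (FBase.bcπ f Ω).surjective x
      exact (isGeomPtIntegralAt_iff_of_algClosed f t).2 (h t)⟩
  constructor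
  · intro h
    refine ⟨geometricallyReduced_of_forall_isGeomReducedAt f fun x K _ _ x' hx' => ?_,
      ((forall_isDomain_iff _).1 (hall.1 h)).2⟩
    haveI := h x K x' hx'
    infer_instance
  · rintro ⟨hg, hc⟩
    refine hall.2 ((forall_isDomain_iff _).2 ⟨?_, hc⟩)
    exact hg.geometrically_isReduced _ _ _ (IsPullback.of_hasPullback f (Spec.map (CommRingCat.ofHom (algebraMap k Ω))))

end Groth.Agent.GenIrredLib
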