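import Mathlib
import Groth.Agent.OpenDim.DVRFlat
import Groth.Agent.GenIrredLib.SectionBC

/-!
# Section components over a discrete valuation ring with reduced special fibre
-/

set_option autoImplicit false
set_option linter.style.haveILetI false
set_option backward.isDefEq.respectTransparency false
set_option backward.defeqAttrib.useBackward true

open CategoryTheory AlgebraicGeometry Topology TopologicalSpace IsLocalRing

universe u

namespace Groth.Agent.GenIrredLib

/-- Inverting a regular element with radical principal ideal in a local ring gives a connected spectrum. -/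
theorem preconnectedSpace_away {R : Type u} [CommRing R] [IsLocalRing R] (p : R)
    (hrad : (Ideal.span {p}).radical ≤ Ideal.span {p}) (htor : ∀ r : R, p * r = 0 → r = 0)
    (R' : Type u) [CommRing R'] [Algebra R R'] [IsLocalization.Away p R'] :
    PreconnectedSpace (PrimeSpectrum R') := by
  have hreg : p ∈ nonZeroDivisors R :=
    mem_nonZeroDivisors_iff.2 ⟨fun z hz => htor z hz, fun z hz => htor z ((mul_comm _ _).trans hz)⟩
  have hinj : Function.Injective (algebraMap R R') := IsLocalization.injective R' (Submonoid.powers_le.2 hreg)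
  have hu : IsUnit (algebraMap R R' p) := IsLocalization.Away.algebraMap_isUnit p
  have key : ∀ (n : ℕ) (z : R') (b : R), z * z = z → z * algebraMap R R' (p ^ n) = algebraMap R R' b →
      z = 0 ∨ z = 1 := by
    intro n
    induction n with
    | zero =>
      intro z b hz hb
      rw [pow_zero, map_one, mul_one] at hb
      subst hb
      have hb : b * b = b := hinj (by rw [map_mul, hz])
      rcases IsLocalRing.isUnit_or_isUnit_one_sub_self b with h | h
      · right
        rw [show b = 1 from h.mul_left_cancel (by rw [hb, mul_one]), map_one]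
      · left
        rw [show b = 0 from h.mul_left_cancel (by rw [sub_mul, one_mul, hb, sub_self, mul_zero]), map_zero]
    | succ n ih =>
      intro z b hz hb
      have hb2 : b * b = b * p ^ (n + 1) := hinj (by
        rw [map_mul, map_mul, ← hb, ← mul_assoc, mul_right_comm z _ z, hz])
      obtain ⟨c, hc⟩ := Ideal.mem_span_singleton'.1 (hrad ⟨2, Ideal.mem_span_singleton'.2 ⟨b * p ^ n, by
        rw [sq, hb2, pow_succ, mul_assoc]⟩⟩)
      refine ih z c hz ?_
      rw [← hc, map_mul, pow_succ, map_mul, ← mul_assoc] at hb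
      exact hu.mul_right_cancel hb
  refine preconnectedSpace_iff_clopen.2 fun s hs => ?_
  obtain ⟨e, he, rfl⟩ := PrimeSpectrum.isClopen_iff.1 hs
  obtain ⟨n, b, hb⟩ := IsLocalization.Away.surj p e
  rcases key n e b he (by rw [map_pow]; exact hb) with rfl | rfl
  · left; rw [PrimeSpectrum.basicOpen_zero]; rfl
  · right; rw [PrimeSpectrum.basicOpen_one]; rfl

variable {A : Type u} [CommRing A] [IsDomain A] [IsDiscreteValuationRing A]
  {X : Scheme.{u}} (f : X ⟶ Spec (CommRingCat.of A))

/-- The generizations of a point of a reduced special fibre in the generic fibre form a connected set. -/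
theorem isConnected_generizations (x : X) (hx : f x = closedPoint A) (hflat : (f.stalkMap x).hom.Flat)
    (w : f.fiber (f x)) (hw : f.fiberι (f x) w = x)
    (hred : _root_.IsReduced ((f.fiber (f x)).presheaf.stalk w)) :
    _root_.IsConnected {z : X | z ⤳ x ∧ f z ≠ closedPoint A} := by
  obtain ⟨ϖ, hϖirr⟩ := IsDiscreteValuationRing.exists_irreducible A
  have hϖ : maximalIdeal A = Ideal.span {ϖ} := hϖirr.maximalIdeal_eq
  let x' := f.fiberι (f x) w
  rw [← hw] at hflat
  have hset : {z : X | z ⤳ x ∧ f z ≠ closedPoint A} = {z : X | z ⤳ x' ∧ f z ≠ closedPoint A} := by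
    simp only [x', hw]
  rw [hset]
  let S := (Spec (CommRingCat.of A)).presheaf.stalk (f x')
  let R := X.presheaf.stalk x'
  have hfx' : f x' = closedPoint A := (congrArg f hw).trans hx
  let e : S ≃+* A := by
    let y := f x'
    change ((Spec (CommRingCat.of A)).presheaf.stalk y) ≃+* A
    rw [show y = closedPoint A from hfx']
    exact (stalkClosedPointIso (CommRingCat.of A)).commRingCatIsoToRingEquiv
  haveI : IsDomain S := e.injective.isDomain e.toRingHom
  let σ : S →+* R := (f.stalkMap x').hom
  have hker : RingHom.ker ((f.fiberι (f x)).stalkMap w).hom = (maximalIdeal S).map σ :=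
    FlatLocus.ker_fiberι_stalkMap f (f x) w
  obtain ⟨π, hπ⟩ : ∃ π, maximalIdeal S = Ideal.span {π} :=
    ⟨_, DVRFamilyLib.maximalIdeal_stalk_closedPoint ϖ hϖ _ hfx'⟩
  have hπ0 : π ≠ 0 := fun h => by
    rw [h, Ideal.span_singleton_zero, ← IsLocalRing.isField_iff_maximalIdeal_eq] at hπ
    exact IsDiscreteValuationRing.not_isField A (e.symm.toMulEquiv.isField hπ)
  have hspan : (maximalIdeal S).map σ = Ideal.span {σ π} := by
    rw [hπ, Ideal.map_span, Set.image_singleton]
  have hrad : (Ideal.span {σ π}).radical ≤ Ideal.span {σ π} := by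
    intro r ⟨n, hn⟩
    rw [← hspan, ← hker, RingHom.mem_ker] at hn ⊢
    rw [map_pow] at hn
    exact IsReduced.eq_zero _ ⟨n, hn⟩
  have htor : ∀ r : R, σ π * r = 0 → r = 0 := fun r hr => by
    algebraize [σ]
    haveI : Module.Flat S R := hflat
    have h1 : IsSMulRegular R π := Module.Flat.isSMulRegular_of_isRegular (IsRegular.of_ne_zero hπ0)
    exact h1 (show π • r = π • 0 by rw [Algebra.smul_def, smul_zero]; exact hr)
  have hsq : ∀ P : PrimeSpectrum R, f (X.fromSpecStalk x' P) =
      (Spec (CommRingCat.of A)).fromSpecStalk (f x') (PrimeSpectrum.comap σ P) := fun P => by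
    rw [← Scheme.Hom.comp_apply, ← Scheme.SpecMap_stalkMap_fromSpecStalk f, Scheme.Hom.comp_apply]
    rfl
  have hclosed : ∀ P : PrimeSpectrum R, σ π ∈ P.asIdeal ↔ f (X.fromSpecStalk x' P) = f x' := fun P => by
    have h0 : (Spec (CommRingCat.of A)).fromSpecStalk (f x') (closedPoint S) = f x' :=
      Scheme.fromSpecStalk_closedPoint
    rw [hsq]
    constructor
    · intro hP
      have hcp : PrimeSpectrum.comap σ P = closedPoint S := PrimeSpectrum.ext
        (le_antisymm (le_maximalIdeal (PrimeSpectrum.comap σ P).isPrime.ne_top)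
          (show maximalIdeal S ≤ _ by rw [hπ, Ideal.span_singleton_le_iff_mem]; exact hP))
      rw [hcp]
      exact h0
    · intro hP
      have hcp : PrimeSpectrum.comap σ P = closedPoint S :=
        (Scheme.Hom.isEmbedding _).injective (hP.trans h0.symm)
      show π ∈ (PrimeSpectrum.comap σ P).asIdeal
      rw [hcp]
      exact hπ.ge (Ideal.mem_span_singleton_self π)
  let R' := Localization.Away (σ π)
  haveI := preconnectedSpace_away (σ π) hrad htor R'
  haveI : Nontrivial R' :=
    (IsLocalization.injective R' (M := Submonoid.powers (σ π)) (Submonoid.powers_le.2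
      (mem_nonZeroDivisors_iff.2 ⟨fun z hz => htor z hz, fun z hz => htor z ((mul_comm _ _).trans hz)⟩))).nontrivial
  haveI : ConnectedSpace (PrimeSpectrum R') := ⟨inferInstance⟩
  have heq : {z : X | z ⤳ x' ∧ f z ≠ closedPoint A} =
      Set.range (fun P : PrimeSpectrum R' => X.fromSpecStalk x' (PrimeSpectrum.comap (algebraMap R R') P)) := by
    ext z
    constructor
    · rintro ⟨hz, hfz⟩
      obtain ⟨P, rfl⟩ : z ∈ Set.range (X.fromSpecStalk x') := by
        rw [Scheme.range_fromSpecStalk]
        exact hz
      obtain ⟨Q, hQ⟩ : (P : PrimeSpectrum R) ∈ Set.range (PrimeSpectrum.comap (algebraMap R R')) := by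
        rw [PrimeSpectrum.localization_away_comap_range R' (σ π)]
        exact fun h => hfz (((hclosed P).1 h).trans hfx')
      exact ⟨Q, congrArg _ hQ⟩
    · rintro ⟨Q, rfl⟩
      refine ⟨?_, fun h => ?_⟩
      · have : X.fromSpecStalk x' (PrimeSpectrum.comap (algebraMap R R') Q) ∈ Set.range (X.fromSpecStalk x') := ⟨_, rfl⟩
        rwa [Scheme.range_fromSpecStalk] at this
      · have h1 := (PrimeSpectrum.localization_away_comap_range R' (σ π)).le ⟨Q, rfl⟩
        exact h1 ((hclosed _).2 (h.trans hfx'.symm))
  rw [heq]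
  exact isConnected_range ((X.fromSpecStalk x').continuous.comp (PrimeSpectrum.continuous_comap _))

variable [LocallyOfFiniteType f] (σ : Spec (CommRingCat.of A) ⟶ X) (hσ : σ ≫ f = 𝟙 _)

include hσ in
/-- Section components are stable under generization from a reduced flat special component. -/
theorem mem_sectionComponents_of_specializes_dvr
    (hC : ∀ x ∈ MoreMor.sectionComponents f σ, f x = closedPoint A → (f.stalkMap x).hom.Flat ∧
      ∃ w : f.fiber (f x), f.fiberι (f x) w = x ∧ _root_.IsReduced ((f.fiber (f x)).presheaf.stalk w))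
    {x' x : X} (h : x' ⤳ x) (hx : x ∈ MoreMor.sectionComponents f σ) (hfx : f x = closedPoint A)
    (hfx' : f x' ≠ closedPoint A) : x' ∈ MoreMor.sectionComponents f σ := by
  classical
  haveI : IsLocallyNoetherian X := LocallyOfFiniteType.isLocallyNoetherian f
  let η : Spec (CommRingCat.of A) := (⟨⊥, Ideal.isPrime_bot⟩ : PrimeSpectrum A)
  have hη : ∀ z : Spec (CommRingCat.of A), z ≠ closedPoint A → z = η := fun z hz => by
    by_contra hne
    refine hz (PrimeSpectrum.ext ?_)
    have h1 : z.asIdeal ≠ ⊥ := fun h => hne (PrimeSpectrum.ext h)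
    exact IsLocalRing.eq_maximalIdeal (Ideal.IsPrime.isMaximal z.isPrime h1)
  have hηc : η ≠ closedPoint A := fun h =>
    IsDiscreteValuationRing.not_a_field A (congrArg PrimeSpectrum.asIdeal h).symm
  have hfσ : ∀ t, f (σ t) = t := fun t => by rw [← Scheme.Hom.comp_apply, hσ]; rfl
  let C := connectedComponentIn (f ⁻¹' {closedPoint A}) (σ (closedPoint A))
  have hmem : ∀ z ∈ C, z ∈ MoreMor.sectionComponents f σ ∧ f z = closedPoint A := fun z hz => by
    have hfz : f z = closedPoint A := connectedComponentIn_subset (f ⁻¹' {closedPoint A}) _ hz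
    refine ⟨?_, hfz⟩
    show z ∈ connectedComponentIn (f ⁻¹' {f z}) (σ (f z))
    rw [hfz]
    exact hz
  let G : X → Set X := fun z => {z' | z' ⤳ z ∧ f z' ≠ closedPoint A}
  have hG : ∀ z ∈ C, _root_.IsConnected (G z) := fun z hz => by
    obtain ⟨h1, h2⟩ := hmem z hz
    obtain ⟨hflat, w, hw, hred⟩ := hC z h1 h2
    exact isConnected_generizations f z h2 hflat w hw hred
  have hsub : ∀ z, G z ⊆ f ⁻¹' {η} := fun z z' hz' => hη _ hz'.2
  let D : C → Set X := fun z => connectedComponentIn (f ⁻¹' {η}) (hG z z.2).nonempty.choose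
  have hGD : ∀ z : C, G z ⊆ D z := fun z =>
    (hG z z.2).isPreconnected.subset_connectedComponentIn (hG z z.2).nonempty.choose_spec (hsub z)
  have hD : IsLocallyConstant D := (IsLocallyConstant.iff_eventually_eq D).2 fun z => by
    obtain ⟨U, hU, hzU, -⟩ := exists_isAffineOpen_mem_and_subset (X := X) (x := z.1) (U := ⊤) trivial
    haveI : IsNoetherianRing Γ(X, U) := IsLocallyNoetherian.component_noetherian ⟨U, hU⟩
    haveI : TopologicalSpace.NoetherianSpace ↥U.toScheme :=
      (TopologicalSpace.noetherianSpace_iff_of_homeomorph hU.isoSpec.hom.homeomorph).2 (inferInstanceAs (NoetherianSpace (PrimeSpectrum Γ(X, U))))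
    let bad : Set (Set ↥U.toScheme) := {W | W ∈ irreducibleComponents ↥U.toScheme ∧ (⟨z.1, hzU⟩ : U.toScheme) ∉ W}
    have hfin : bad.Finite :=
      (TopologicalSpace.NoetherianSpace.finite_irreducibleComponents (α := ↥U.toScheme)).subset fun W hW => hW.1
    let N : Set X := U.ι '' (⋃ W ∈ bad, W)ᶜ
    have hNo : IsOpen N := U.ι.isOpenEmbedding.isOpenMap _
      (hfin.isClosed_biUnion fun W hW => isClosed_of_mem_irreducibleComponents W hW.1).isOpen_compl
    have hzN : z.1 ∈ N := ⟨⟨z.1, hzU⟩, fun hh => by
      obtain ⟨W, hW, hzW⟩ := Set.mem_iUnion₂.1 hh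
      exact hW.2 hzW, rfl⟩
    filter_upwards [(hNo.preimage continuous_subtype_val).mem_nhds hzN] with y hyN
    obtain ⟨g, hg⟩ := (hG y y.2).nonempty
    obtain ⟨g₀, hg₀, rfl⟩ : g ∈ N := hg.1.mem_open hNo hyN
    let W := irreducibleComponent g₀
    have hWz : (⟨z.1, hzU⟩ : U.toScheme) ∈ W := by
      by_contra hh
      exact hg₀ (Set.mem_biUnion (show W ∈ bad from ⟨irreducibleComponent_mem_irreducibleComponents g₀, hh⟩)
        mem_irreducibleComponent)
    let ξ := (isIrreducible_irreducibleComponent (x := g₀)).genericPoint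
    have hξ : IsGenericPoint ξ W := by
      have := (isIrreducible_irreducibleComponent (x := g₀)).isGenericPoint_genericPoint_closure
      rwa [isClosed_irreducibleComponent.closure_eq] at this
    have h1 : U.ι ξ ⤳ U.ι g₀ := (hξ.specializes mem_irreducibleComponent).map U.ι.continuous
    have h2 : U.ι ξ ⤳ z.1 := (hξ.specializes hWz).map U.ι.continuous
    have hfξ : f (U.ι ξ) ≠ closedPoint A := fun hh => by
      have h3 := h1.map f.continuous
      rw [hh, hη _ hg.2] at h3
      have hle : (closedPoint A : PrimeSpectrum A) ≤ η := (PrimeSpectrum.le_iff_specializes (closedPoint A) η).2 h3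
      exact hηc (PrimeSpectrum.ext (le_antisymm bot_le hle))
    have hy : U.ι ξ ∈ D y := hGD y ⟨h1.trans hg.1, hfξ⟩
    have hz : U.ι ξ ∈ D z := hGD z ⟨h2, hfξ⟩
    exact (connectedComponentIn_eq hy).trans (connectedComponentIn_eq hz).symm
  have hxC : x ∈ C := by
    have h1 : x ∈ connectedComponentIn (f ⁻¹' {f x}) (σ (f x)) := hx
    rwa [hfx] at h1
  let c : C := ⟨σ (closedPoint A), mem_connectedComponentIn (hfσ _)⟩
  haveI : PreconnectedSpace C :=
    Subtype.preconnectedSpace isPreconnected_connectedComponentIn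
  have heq : D ⟨x, hxC⟩ = D c :=
    hD.apply_eq_of_isPreconnected isPreconnected_univ trivial trivial
  have hσmem : σ η ∈ D c := hGD c ⟨(IsLocalRing.specializes_closedPoint η).map σ.continuous, by rw [hfσ]; exact hηc⟩
  have hx'mem : x' ∈ D ⟨x, hxC⟩ := hGD ⟨x, hxC⟩ ⟨h, hfx'⟩
  show x' ∈ connectedComponentIn (f ⁻¹' {f x'}) (σ (f x'))
  rw [hη _ hfx', ← connectedComponentIn_eq hσmem, ← show D ⟨x, hxC⟩ = connectedComponentIn _ _ from heq]
  exact hx'mem

end Groth.Agent.GenIrredLib
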