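import Mathlib
import Groth.Agent.GenIrredLib.SectionNear
import Groth.Agent.NearGen.ConstrScheme
import Groth.Agent.FPModelLib.Model
import Groth.Agent.FPModelLib.ZSys
import Groth.Agent.ConstrNoeth.Basic

/-!
# Constructibility of section components
-/

set_option autoImplicit false
set_option backward.isDefEq.respectTransparency false
set_option linter.style.haveILetI false

universe u

open CategoryTheory CategoryTheory.Limits AlgebraicGeometry Topology

namespace Groth.Agent.GenIrredLib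

variable {X Y : Scheme.{u}} (f : X ⟶ Y) (s : Y ⟶ X) (hs : s ≫ f = 𝟙 Y)

include hs in
/-- Section components are clopen over an open piece of the closure of a point. -/
theorem exists_clopen_over_closure [LocallyOfFiniteType f] [QuasiCompact f] (y : Y) :
    ∃ V : Set ↑Y, V ⊆ closure {y} ∧ y ∈ V ∧ IsOpen (Subtype.val ⁻¹' V : Set ↑(closure ({y} : Set ↑Y))) ∧
      IsClopen (Subtype.val ⁻¹' MoreMor.sectionComponents f s : Set ↑(f ⁻¹' V)) := by
  obtain ⟨Y₁, i, _, hi⟩ : ∃ (Z : Scheme.{u}) (i : Z ⟶ Y), IsClosedImmersion i ∧ Set.range i = closure {y} :=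
    ⟨_, (Scheme.IdealSheafData.vanishingIdeal ⟨closure {y}, isClosed_closure⟩).subschemeι, inferInstance, by
      rw [Scheme.IdealSheafData.range_subschemeι, Scheme.IdealSheafData.coe_support_vanishingIdeal]; rfl⟩
  haveI : IrreducibleSpace Y₁ := by
    have h1 : IsIrreducible (Set.range i) := hi ▸ isIrreducible_singleton.closure
    haveI : IrreducibleSpace ↥(Set.range i) :=
      { isPreirreducible_univ := (isPreirreducible_iff_preirreducibleSpace.1 h1.isPreirreducible).isPreirreducible_univ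
        toNonempty := h1.nonempty.to_subtype }
    exact i.isEmbedding.toHomeomorph.irreducibleSpace_iff.2 ‹_›
  have hη : i (genericPoint Y₁) = y := by
    refine (IsGenericPoint.eq ?_ (isGenericPoint_closure (x := y)))
    have h2 := (genericPoint_spec Y₁).image i.continuous
    rwa [Set.image_univ, hi, closure_closure] at h2
  let g' := pullback.fst f i
  let σ : Y₁ ⟶ pullback f i :=
    pullback.lift (i ≫ s) (𝟙 _) (by rw [Category.assoc, hs, Category.comp_id, Category.id_comp])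
  have hbc := sectionComponents_baseChange f s hs (pullback.snd f i) g' i (IsPullback.of_hasPullback f i) σ
    (pullback.lift_snd _ _ _) (pullback.lift_fst _ _ _)
  obtain ⟨V₁, hV₁, hcl⟩ := exists_clopen_sectionComponents (pullback.snd f i) σ (pullback.lift_snd _ _ _)
  have hw : ∀ w, f (g' w) = i (pullback.snd f i w) := fun w => by
    rw [← Scheme.Hom.comp_apply, pullback.condition, Scheme.Hom.comp_apply]
  have hsurj : ∀ x, f x ∈ i '' (V₁ : Set Y₁) → ∃ w, g' w = x ∧ pullback.snd f i w ∈ V₁ := fun x ⟨v, hv, hvx⟩ => by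
    obtain ⟨w, rfl⟩ := (Scheme.Pullback.range_fst f i).ge (show x ∈ f ⁻¹' Set.range i from ⟨v, hvx⟩)
    refine ⟨w, rfl, ?_⟩
    rwa [i.isEmbedding.injective ((hw w).symm.trans hvx.symm)]
  refine ⟨i '' (V₁ : Set Y₁), hi ▸ Set.image_subset_range _ _, ⟨_, hV₁, hη⟩, ?_, ?_⟩
  · obtain ⟨O, hO, hOe⟩ := i.isEmbedding.isInducing.isOpen_iff.1 V₁.2
    have heq : (Subtype.val ⁻¹' (i '' (V₁ : Set Y₁)) : Set ↑(closure ({y} : Set ↑Y))) = Subtype.val ⁻¹' O := by
      ext ⟨z, hz⟩
      obtain ⟨v, rfl⟩ := hi.ge hz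
      simp only [Set.mem_preimage, i.isEmbedding.injective.mem_set_image]
      exact (Set.ext_iff.1 hOe v).symm
    rw [heq]
    exact hO.preimage continuous_subtype_val
  have key : ∀ E : Set ↥(pullback f i), IsClosed (Subtype.val ⁻¹' E : Set ↑(pullback.snd f i ⁻¹' (V₁ : Set Y₁))) →
      ∀ F : Set X, g' ⁻¹' F = E → IsClosed (Subtype.val ⁻¹' F : Set ↑(f ⁻¹' (i '' (V₁ : Set Y₁)))) := by
    intro E hE F hF
    obtain ⟨C, hC, hCE⟩ := isClosed_induced_iff.1 hE
    have heq : (Subtype.val ⁻¹' F : Set ↑(f ⁻¹' (i '' (V₁ : Set Y₁)))) = Subtype.val ⁻¹' (g' '' C) := by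
      ext ⟨x, hx⟩
      obtain ⟨w, rfl, hwV⟩ := hsurj x hx
      simp only [Set.mem_preimage, g'.isClosedEmbedding.injective.mem_set_image]
      exact (Set.ext_iff.1 hF w).trans (Set.ext_iff.1 hCE ⟨w, hwV⟩).symm
    rw [heq]
    exact (g'.isClosedEmbedding.isClosedMap C hC).preimage continuous_subtype_val
  refine ⟨key _ hcl.1 _ hbc.symm, ?_⟩
  rw [← isClosed_compl_iff, ← Set.preimage_compl]
  exact key (MoreMor.sectionComponents (pullback.snd f i) σ)ᶜ
    (by rw [Set.preimage_compl]; exact isClosed_compl_iff.2 hcl.2) _ (by rw [Set.preimage_compl, hbc])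

include hs in
/-- In a Noetherian space section components form a constructible set. -/
theorem isConstructible_sectionComponents_noetherian [TopologicalSpace.NoetherianSpace X] [LocallyOfFiniteType f]
    [QuasiCompact f] : IsConstructible (MoreMor.sectionComponents f s) := by
  refine ConstrNoeth.isConstructible_of_irreducible fun T hT hirr hd => ?_
  have hξ : IsGenericPoint hirr.genericPoint T := by
    have := hirr.isGenericPoint_genericPoint_closure
    rwa [hT.closure_eq] at this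
  let y := f hirr.genericPoint
  obtain ⟨V, hVc, hyV, hVo, hcl⟩ := exists_clopen_over_closure f s hs y
  obtain ⟨O, hO, hOV⟩ := isOpen_induced_iff.1 hVo
  have hTy : ∀ x ∈ T, f x ∈ closure {y} := fun x hx =>
    (((hξ.specializes hx).map f.continuous).mem_closure :)
  have hTV : ∀ x ∈ f ⁻¹' O ∩ T, f x ∈ V := fun x hx => (Set.ext_iff.1 hOV ⟨f x, hTy x hx.2⟩).1 hx.1
  have hne : (f ⁻¹' O ∩ T).Nonempty :=
    ⟨hirr.genericPoint, (Set.ext_iff.1 hOV ⟨y, subset_closure rfl⟩).2 hyV, hξ.mem⟩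
  refine ⟨f ⁻¹' O, hO.preimage f.continuous, hne, fun x hx => ?_⟩
  let W : Set ↑(f ⁻¹' V) := Subtype.val ⁻¹' (f ⁻¹' O ∩ T)
  have hWirr : _root_.IsPreconnected W := by
    refine (IsInducing.subtypeVal.isPreconnected_image).1 ?_
    rw [Subtype.image_preimage_coe, Set.inter_eq_right.2 (show f ⁻¹' O ∩ T ⊆ f ⁻¹' V from hTV), Set.inter_comm]
    refine IsPreirreducible.isPreconnected fun U U' hU hU' ⟨a, ha, haU⟩ ⟨b, hb, hbU⟩ => ?_
    obtain ⟨c, hc, ⟨hcO, hcU⟩, -, hcU'⟩ := hirr.isPreirreducible (f ⁻¹' O ∩ U) (f ⁻¹' O ∩ U')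
      ((hO.preimage f.continuous).inter hU) ((hO.preimage f.continuous).inter hU')
      ⟨a, ha.1, ha.2, haU⟩ ⟨b, hb.1, hb.2, hbU⟩
    exact ⟨c, ⟨hc, hcO⟩, hcU, hcU'⟩
  obtain ⟨z, hzO, hzE, hzT⟩ : ∃ z, z ∈ f ⁻¹' O ∧ z ∈ MoreMor.sectionComponents f s ∧ z ∈ T := by
    obtain ⟨z, hzO, hzE, hzT⟩ := mem_closure_iff.1 (hd hne.choose_spec.2) _ (hO.preimage f.continuous) hne.choose_spec.1
    exact ⟨z, hzO, hzE, hzT⟩
  exact hWirr.subset_isClopen hcl ⟨⟨z, hTV z ⟨hzO, hzT⟩⟩, ⟨hzO, hzT⟩, hzE⟩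
    (show (⟨x, hTV x hx⟩ : ↑(f ⁻¹' V)) ∈ W from hx)

end Groth.Agent.GenIrredLib
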