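import Mathlib
import Groth.Agent.GenIrredLib.DVRConnected
import Groth.Agent.GenIrredLib.SectionConstr
import Groth.Agent.OpenDim.Flatness
import Groth.Agent.UnivOpenAtLib.Dvr

/-!
# Openness of section components (EGA IV 15.6.4)
-/

set_option autoImplicit false
set_option linter.style.haveILetI false
set_option backward.isDefEq.respectTransparency false
set_option backward.defeqAttrib.useBackward true

open CategoryTheory CategoryTheory.Limits AlgebraicGeometry Topology TopologicalSpace

universe u

namespace Groth.Agent.GenIrredLib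

variable {X Y : Scheme.{u}} (f : X ⟶ Y) (s : Y ⟶ X) (hs : s ≫ f = 𝟙 Y)

theorem mem_sectionComponents_of_mem {y : Y} {w : X} (hw : w ∈ connectedComponentIn (f ⁻¹' {y}) (s y)) :
    w ∈ MoreMor.sectionComponents f s ∧ f w = y := by
  have hfw : f w = y := connectedComponentIn_subset (f ⁻¹' {y}) _ hw
  refine ⟨?_, hfw⟩
  show w ∈ connectedComponentIn (f ⁻¹' {f w}) (s (f w))
  rwa [hfw]

theorem mem_component_of_mem {x : X} (hx : x ∈ MoreMor.sectionComponents f s) :
    x ∈ connectedComponentIn (f ⁻¹' {f x}) (s (f x)) := hx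

include hs in
/-- Generizations of points of a universally open, geometrically reduced section component are in the section
components. -/
theorem mem_sectionComponents_of_specializes [IsLocallyNoetherian Y] [LocallyOfFiniteType f] {x' x : X}
    (h : x' ⤳ x) (hx : x ∈ MoreMor.sectionComponents f s)
    (hC : ∀ w ∈ connectedComponentIn (f ⁻¹' {f x}) (s (f x)), EGA43.IsUnivOpenAt f w ∧
        FBase.IsGeomReducedAt (f.fiberToSpecResidueField (f.base w)) (f.asFiber w)) :
    x' ∈ MoreMor.sectionComponents f s := by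
  have hfs : ∀ t, f (s t) = t := fun t => by rw [← Scheme.Hom.comp_apply, hs]; rfl
  by_cases hz : f x' = f x
  · show x' ∈ connectedComponentIn (f ⁻¹' {f x'}) (s (f x'))
    rw [hz]
    exact OpenDim.mem_comp_of_specializes f hx hz h
  have hne : x' ≠ x := fun he => hz (congrArg f he)
  haveI : IsLocallyNoetherian X := LocallyOfFiniteType.isLocallyNoetherian f
  obtain ⟨A, _, _, _, g, hgc, hgη⟩ := UnivOpenAtLib.exists_dvr_specialization h hne
  let hY : Spec (CommRingCat.of A) ⟶ Y := g ≫ f
  let σ := OpenDim.bcSec f s hs hY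
  let τ : Spec (CommRingCat.of A) ⟶ pullback f hY := pullback.lift g (𝟙 _) (Category.id_comp _).symm
  let f' := pullback.snd f hY
  let m := pullback.fst f hY
  have hbc := sectionComponents_baseChange f s hs f' m hY (IsPullback.of_hasPullback f hY) σ
    (OpenDim.bcSec_snd f s hs hY) (pullback.lift_fst _ _ _)
  have hτf : ∀ t, f' (τ t) = t := fun t => by
    rw [← Scheme.Hom.comp_apply, show τ ≫ f' = 𝟙 _ from pullback.lift_snd _ _ _]; rfl
  have hτm : ∀ t, m (τ t) = g t := fun t => by
    rw [← Scheme.Hom.comp_apply, show τ ≫ m = g from pullback.lift_fst _ _ _]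
  obtain ⟨η, hη⟩ : ∃ η : Spec (CommRingCat.of A), η ≠ IsLocalRing.closedPoint A :=
    ⟨(⟨⊥, Ideal.isPrime_bot⟩ : PrimeSpectrum A),
      fun he => IsDiscreteValuationRing.not_a_field A (congrArg PrimeSpectrum.asIdeal he).symm⟩
  have hxT : τ (IsLocalRing.closedPoint A) ∈ MoreMor.sectionComponents f' σ := by
    rw [hbc, Set.mem_preimage, hτm]
    exact hgc.symm ▸ hx
  suffices τ η ∈ MoreMor.sectionComponents f' σ by
    rw [hbc, Set.mem_preimage, hτm] at this
    exact (hgη η hη) ▸ this
  refine mem_sectionComponents_of_specializes_dvr f' σ (OpenDim.bcSec_snd f s hs hY) (fun v hv hfv => ?_)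
    ((IsLocalRing.specializes_closedPoint η).map τ.continuous) hxT (hτf _) (by rw [hτf]; exact hη)
  -- flatness and reducedness along the closed component
  have hfm : f (m v) = hY (IsLocalRing.closedPoint A) := by
    rw [← hfv, ← Scheme.Hom.comp_apply, pullback.condition, Scheme.Hom.comp_apply]
  have hyc : hY (IsLocalRing.closedPoint A) = f x := by
    show f (g (IsLocalRing.closedPoint A)) = f x
    rw [hgc]
  have hmv : m v ∈ connectedComponentIn (f ⁻¹' {f x}) (s (f x)) := by
    rw [hbc] at hv
    have h1 := mem_component_of_mem f s hv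
    rwa [hfm.trans hyc] at h1
  obtain ⟨w, hw⟩ : v ∈ Set.range (f'.fiberι (f' v)) := by rw [f'.range_fiberι]; rfl
  have hred' : _root_.IsReduced ((f'.fiber (f' v)).presheaf.stalk w) :=
    OpenDim.isReduced_bc_fibre f hY _ w (x := m v) (y := f (m v)) (congrArg m hw)
      (by rw [hfv]; exact hfm.symm) (f.asFiber (m v)) (f.fiberι_asFiber _) (hC _ hmv).2
  have hflat := OpenDim.flat_of_open_reduced f' v hfv (fun ζ hfζ hζv _ => ?_) w hw hred'
  · rw [hw] at hflat
    exact ⟨hflat, w, hw, hred'⟩
  refine UnivOpenAtLib.isOpenAt_of_isPullback (hC (m ζ) ?_).1 (IsPullback.of_hasPullback f hY) ζ rfl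
  refine OpenDim.mem_comp_of_specializes f hmv ?_ (hζv.map m.continuous)
  rw [← Scheme.Hom.comp_apply, pullback.condition, Scheme.Hom.comp_apply, hfζ.trans hfv, hyc]

include hs in
/-- The Noetherian quasi-compact case. -/
theorem mem_interior_noetherian [IsLocallyNoetherian Y] [LocallyOfFiniteType f] [QuasiCompact f]
    [NoetherianSpace X] (y : Y)
    (hC : ∀ w ∈ connectedComponentIn (f ⁻¹' {y}) (s y), EGA43.IsUnivOpenAt f w ∧
        FBase.IsGeomReducedAt (f.fiberToSpecResidueField (f.base w)) (f.asFiber w)) :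
    connectedComponentIn (f ⁻¹' {y}) (s y) ⊆ interior (MoreMor.sectionComponents f s) := by
  intro x hx
  obtain ⟨hxS, hfx⟩ := mem_sectionComponents_of_mem f s hx
  refine mem_interior_iff_mem_nhds.2 (ConstrNoeth.mem_nhds_of_dense
    (isConstructible_sectionComponents_noetherian f s hs) fun T hT hirr hxT => ?_)
  have hξ := hirr.isGenericPoint_genericPoint hT
  have hmem : hirr.genericPoint ∈ MoreMor.sectionComponents f s :=
    mem_sectionComponents_of_specializes f s hs (hξ.specializes hxT) hxS fun w hw => hC w (by rwa [hfx] at hw)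
  exact hξ.def.ge.trans (closure_mono (Set.singleton_subset_iff.2 ⟨hmem, hξ.mem⟩))

end Groth.Agent.GenIrredLib
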