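import Mathlib
import Groth.Agent.GenIrredLib.SectionOpen

/-!
# Openness of section components without quasi-compactness
-/

set_option autoImplicit false
set_option linter.style.haveILetI false
set_option backward.isDefEq.respectTransparency false

open CategoryTheory CategoryTheory.Limits AlgebraicGeometry Topology TopologicalSpace

universe u

namespace Groth.Agent.GenIrredLib

/-- An affine open of a locally Noetherian scheme is a Noetherian space. -/
theorem noetherianSpace_affineOpen {X : Scheme.{u}} [IsLocallyNoetherian X] {W : X.Opens} (hW : IsAffineOpen W) :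
    NoetherianSpace ↥(W : Set X) := by
  haveI : IsNoetherianRing Γ(X, W) := IsLocallyNoetherian.component_noetherian ⟨W, hW⟩
  exact (TopologicalSpace.noetherianSpace_iff_of_homeomorph hW.isoSpec.hom.homeomorph).2
    (inferInstanceAs (NoetherianSpace (PrimeSpectrum Γ(X, W))))

/-- A compact open of a locally Noetherian scheme is a Noetherian space. -/
theorem noetherianSpace_compactOpen {X : Scheme.{u}} [IsLocallyNoetherian X] {W : Set X} (hWo : IsOpen W)
    (hW : IsCompact W) : NoetherianSpace ↥W := by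
  classical
  choose A hA hxA hAW using fun x : W =>
    exists_isAffineOpen_mem_and_subset (X := X) (x := x.1) (U := ⟨W, hWo⟩) x.2
  obtain ⟨t, ht⟩ := hW.elim_finite_subcover (fun x => (A x : Set X)) (fun x => (A x).2)
    (fun x hx => Set.mem_iUnion.2 ⟨⟨x, hx⟩, hxA ⟨x, hx⟩⟩)
  have heq : W = ⋃ x : t, (A x.1 : Set X) := by
    refine subset_antisymm (fun x hx => ?_) (Set.iUnion_subset fun x => hAW x.1)
    obtain ⟨i, hi, hxi⟩ := Set.mem_iUnion₂.1 (ht hx)
    exact Set.mem_iUnion.2 ⟨⟨i, hi⟩, hxi⟩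
  rw [heq]
  haveI : ∀ x : t, NoetherianSpace ↥(A x.1 : Set X) := fun x => noetherianSpace_affineOpen (hA x.1)
  exact NoetherianSpace.iUnion fun x : t => (A x.1 : Set X)

variable {X Y : Scheme.{u}} (f : X ⟶ Y) (s : Y ⟶ X) (hs : s ≫ f = 𝟙 Y)

include hs in
/-- A point of a section component is connected to the section inside a compact open. -/
theorem exists_compactOpen_connected [IsLocallyNoetherian X] (z : Y) {p : X}
    (hp : p ∈ connectedComponentIn (f ⁻¹' {z}) (s z)) :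
    ∃ U : X.Opens, IsCompact (U : Set X) ∧ s z ∈ U ∧ p ∈ connectedComponentIn ((U : Set X) ∩ f ⁻¹' {z}) (s z) := by
  classical
  have hfs : f (s z) = z := by rw [← Scheme.Hom.comp_apply, hs]; rfl
  let C := connectedComponentIn (f ⁻¹' {z}) (s z)
  let R : Set C := {q | ∃ U : X.Opens, IsCompact (U : Set X) ∧ s z ∈ U ∧
    q.1 ∈ connectedComponentIn ((U : Set X) ∩ f ⁻¹' {z}) (s z)}
  have step : ∀ q : C, ∃ N ∈ 𝓝 q, ∀ q' ∈ N, (q ∈ R ↔ q' ∈ R) := by
    intro q
    obtain ⟨W, hW, hqW, -⟩ := exists_isAffineOpen_mem_and_subset (X := X) (x := q.1) (U := ⊤) trivial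
    let F : Set X := (W : Set X) ∩ f ⁻¹' {z}
    have hqz : f q.1 = z := connectedComponentIn_subset (f ⁻¹' {z}) _ q.2
    haveI : NoetherianSpace ↥(W : Set X) := noetherianSpace_affineOpen hW
    haveI : NoetherianSpace ↥F :=
      (IsEmbedding.inclusion (Set.inter_subset_left : F ⊆ (W : Set X))).isInducing.noetherianSpace
    obtain ⟨O, hO, hOe⟩ := isOpen_induced_iff.1 (isOpen_connectedComponent_of_noetherian (⟨q.1, hqW, hqz⟩ : F))
    refine ⟨Subtype.val ⁻¹' (O ∩ W), ((hO.inter W.2).preimage continuous_subtype_val).mem_nhds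
      ⟨(Set.ext_iff.1 hOe ⟨q.1, hqW, hqz⟩).2 mem_connectedComponent, hqW⟩, fun q' hq' => ?_⟩
    have hq'z : f q'.1 = z := connectedComponentIn_subset (f ⁻¹' {z}) _ q'.2
    have hconn : q'.1 ∈ connectedComponentIn F q.1 := by
      rw [connectedComponentIn_eq_image (F := F) ⟨hqW, hqz⟩]
      exact ⟨⟨q'.1, hq'.2, hq'z⟩, (Set.ext_iff.1 hOe ⟨q'.1, hq'.2, hq'z⟩).1 hq'.1, rfl⟩
    have key : ∀ a b : X, b ∈ connectedComponentIn F a → ∀ U : X.Opens, IsCompact (U : Set X) → s z ∈ U →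
        a ∈ connectedComponentIn ((U : Set X) ∩ f ⁻¹' {z}) (s z) →
        b ∈ connectedComponentIn (((U ⊔ W : X.Opens) : Set X) ∩ f ⁻¹' {z}) (s z) := by
      intro a b hb U _ hsU ha
      have hsub : connectedComponentIn ((U : Set X) ∩ f ⁻¹' {z}) (s z) ⊆
          connectedComponentIn (((U ⊔ W : X.Opens) : Set X) ∩ f ⁻¹' {z}) (s z) :=
        isPreconnected_connectedComponentIn.subset_connectedComponentIn (mem_connectedComponentIn ⟨hsU, hfs⟩)
          ((connectedComponentIn_subset _ _).trans (Set.inter_subset_inter_left _ (Set.subset_union_left)))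
      rw [connectedComponentIn_eq (hsub ha)]
      refine isPreconnected_connectedComponentIn.subset_connectedComponentIn ?_
        ((connectedComponentIn_subset _ _).trans (Set.inter_subset_inter_left _ Set.subset_union_right)) hb
      by_contra hh
      rw [connectedComponentIn_eq_empty (fun h => hh (mem_connectedComponentIn h))] at hb
      exact hb
    constructor
    · rintro ⟨U, hU, hsU, hqU⟩
      exact ⟨U ⊔ W, hU.union hW.isCompact, .inl hsU, key _ _ hconn U hU hsU hqU⟩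
    · rintro ⟨U, hU, hsU, hqU⟩
      refine ⟨U ⊔ W, hU.union hW.isCompact, .inl hsU, key _ _ ?_ U hU hsU hqU⟩
      rw [← connectedComponentIn_eq hconn]
      exact mem_connectedComponentIn ⟨hqW, hqz⟩
  haveI : PreconnectedSpace C := Subtype.preconnectedSpace isPreconnected_connectedComponentIn
  have hR : IsClopen R := by
    refine ⟨isOpen_compl_iff.1 (isOpen_iff_mem_nhds.2 fun q hq => ?_), isOpen_iff_mem_nhds.2 fun q hq => ?_⟩
    · obtain ⟨N, hN, h⟩ := step q
      exact Filter.mem_of_superset hN fun q' hq' hc => hq ((h q' hq').2 hc)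
    · obtain ⟨N, hN, h⟩ := step q
      exact Filter.mem_of_superset hN fun q' hq' => (h q' hq').1 hq
  obtain ⟨W, hW, hsW, -⟩ := exists_isAffineOpen_mem_and_subset (X := X) (x := s z) (U := ⊤) trivial
  have hne : (⟨s z, mem_connectedComponentIn hfs⟩ : C) ∈ R :=
    ⟨W, hW.isCompact, hsW, mem_connectedComponentIn ⟨hsW, hfs⟩⟩
  exact (hR.eq_univ ⟨_, hne⟩).ge (Set.mem_univ (⟨p, hp⟩ : C))

include hs in
/-- Near a point of a section component, its irreducible closed supersets meet the section components in opens. -/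
theorem exists_open_piece [IsLocallyNoetherian Y] [LocallyOfFiniteType f] {ξ : X}
    (hξ : ξ ∈ MoreMor.sectionComponents f s) :
    ∃ O : Set X, IsOpen O ∧ ξ ∈ O ∧ O ∩ closure {ξ} ⊆ MoreMor.sectionComponents f s := by
  haveI : IsLocallyNoetherian X := LocallyOfFiniteType.isLocallyNoetherian f
  let z := f ξ
  have hfs : ∀ t, f (s t) = t := fun t => by rw [← Scheme.Hom.comp_apply, hs]; rfl
  obtain ⟨U, hU, hsU, hξU⟩ := exists_compactOpen_connected f s hs z (p := ξ) hξ
  let Y₀ : Y.Opens := s ⁻¹ᵁ U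
  let U' : X.Opens := U ⊓ f ⁻¹ᵁ Y₀
  haveI : NoetherianSpace ↥U'.toScheme := by
    haveI := noetherianSpace_compactOpen U.2 hU
    exact (IsEmbedding.inclusion (show (U' : Set X) ⊆ U from fun a ha => ha.1)).isInducing.noetherianSpace
  have hle : U' ≤ f ⁻¹ᵁ Y₀ := inf_le_right
  let f₀ := f.resLE Y₀ U' hle
  haveI : LocallyOfFiniteType f₀ := by
    haveI : LocallyOfFiniteType (f₀ ≫ Y₀.ι) := by
      rw [Scheme.Hom.resLE_comp_ι]
      infer_instance
    exact locallyOfFiniteType_of_comp f₀ Y₀.ι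
  haveI : QuasiCompact f₀ := ⟨fun V _ _ => NoetherianSpace.isCompact _⟩
  have hsle : Y₀ ≤ s ⁻¹ᵁ U' := fun t ht => ⟨ht, show f (s t) ∈ Y₀ from (hfs t).symm ▸ ht⟩
  let s₀ := s.resLE U' Y₀ hsle
  have hs₀ : s₀ ≫ f₀ = 𝟙 _ := by
    rw [← cancel_mono Y₀.ι, Category.assoc, Scheme.Hom.resLE_comp_ι, ← Category.assoc, Scheme.Hom.resLE_comp_ι,
      Category.assoc, hs, Category.comp_id, Category.id_comp]
  have hf₀ : ∀ a, Y₀.ι (f₀ a) = f (U'.ι a) := fun a => by
    rw [← Scheme.Hom.comp_apply, Scheme.Hom.resLE_comp_ι, Scheme.Hom.comp_apply]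
  have hs₀ι : ∀ t, U'.ι (s₀ t) = s (Y₀.ι t) := fun t => by
    rw [← Scheme.Hom.comp_apply, Scheme.Hom.resLE_comp_ι, Scheme.Hom.comp_apply]
  have hsub : U'.ι '' MoreMor.sectionComponents f₀ s₀ ⊆ MoreMor.sectionComponents f s := by
    rintro _ ⟨a, ha, rfl⟩
    have h1 : a ∈ connectedComponentIn (f₀ ⁻¹' {f₀ a}) (s₀ (f₀ a)) := ha
    show U'.ι a ∈ connectedComponentIn (f ⁻¹' {f (U'.ι a)}) (s (f (U'.ι a)))
    refine (isPreconnected_connectedComponentIn.image U'.ι U'.ι.continuous.continuousOn).subset_connectedComponentIn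
      ⟨s₀ (f₀ a), mem_connectedComponentIn (show f₀ (s₀ (f₀ a)) = f₀ a by rw [← Scheme.Hom.comp_apply, hs₀]; rfl),
        by rw [hs₀ι, hf₀]⟩ ?_ ⟨a, h1, rfl⟩
    rintro _ ⟨b, hb, rfl⟩
    show f (U'.ι b) = f (U'.ι a)
    rw [← hf₀, ← hf₀, show f₀ b = f₀ a from connectedComponentIn_subset (f₀ ⁻¹' {f₀ a}) _ hb]
  have hzY₀ : z ∈ Y₀ := hsU
  have hξU' : ξ ∈ U' := by
    have := connectedComponentIn_subset _ _ hξU
    exact ⟨this.1, show f ξ ∈ Y₀ from hzY₀⟩
  let ξ₀ : U'.toScheme := ⟨ξ, hξU'⟩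
  have hf₀ξ : f₀ ξ₀ = ⟨z, hzY₀⟩ := Y₀.ι.isOpenEmbedding.injective (hf₀ ξ₀)
  have hξ₀ : ξ₀ ∈ MoreMor.sectionComponents f₀ s₀ := by
    show ξ₀ ∈ connectedComponentIn (f₀ ⁻¹' {f₀ ξ₀}) (s₀ (f₀ ξ₀))
    have hsub2 : ((U : Set X) ∩ f ⁻¹' {z}) ⊆ U'.ι '' (f₀ ⁻¹' {f₀ ξ₀}) := fun a ha =>
      ⟨⟨a, ha.1, show f a ∈ Y₀ by rw [show f a = z from ha.2]; exact hzY₀⟩,
        Y₀.ι.isOpenEmbedding.injective ((hf₀ _).trans (by rw [hf₀ξ]; exact ha.2)), rfl⟩
    have h2 : _root_.IsPreconnected (U'.ι ⁻¹' connectedComponentIn ((U : Set X) ∩ f ⁻¹' {z}) (s z)) := by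
      refine U'.ι.isOpenEmbedding.isInducing.isPreconnected_image.1 ?_
      rw [Set.image_preimage_eq_inter_range, Set.inter_eq_left.2]
      · exact isPreconnected_connectedComponentIn
      · exact ((connectedComponentIn_subset _ _).trans hsub2).trans (Set.image_subset_range _ _)
    refine h2.subset_connectedComponentIn ?_ (fun b hb => ?_) hξU
    · rw [Set.mem_preimage, hs₀ι, hf₀ξ]
      exact mem_connectedComponentIn ⟨hsU, hfs z⟩
    · obtain ⟨b', hb', hbb⟩ := hsub2 (connectedComponentIn_subset _ _ hb)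
      exact (U'.ι.isOpenEmbedding.injective hbb) ▸ hb'
  have hirr : IsIrreducible (closure ({ξ₀} : Set U'.toScheme)) := isIrreducible_singleton.closure
  obtain ⟨O, hO, ⟨a, haO, ha⟩, hOE⟩ := ConstrNoeth.exists_open_of_constructible
    (isConstructible_sectionComponents_noetherian f₀ s₀ hs₀) hirr
    (closure_mono (Set.singleton_subset_iff.2 ⟨hξ₀, subset_closure rfl⟩))
  have hξO : ξ₀ ∈ O := (specializes_iff_mem_closure.2 ha).mem_open hO haO
  refine ⟨U'.ι '' O, U'.ι.isOpenEmbedding.isOpenMap _ hO, ⟨ξ₀, hξO, rfl⟩, ?_⟩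
  rintro _ ⟨⟨b, hb, rfl⟩, hbc⟩
  refine hsub ⟨b, hOE ⟨hb, ?_⟩, rfl⟩
  rw [U'.ι.isOpenEmbedding.isInducing.closure_eq_preimage_closure_image, Set.image_singleton]
  exact hbc

include hs in
/-- The section components are a neighbourhood of a universally open geometrically reduced component. -/
theorem subset_interior_sectionComponents [IsLocallyNoetherian Y] [LocallyOfFiniteType f] (y : Y)
    (hC : ∀ w ∈ connectedComponentIn (f ⁻¹' {y}) (s y), EGA43.IsUnivOpenAt f w ∧
        FBase.IsGeomReducedAt (f.fiberToSpecResidueField (f.base w)) (f.asFiber w)) :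
    connectedComponentIn (f ⁻¹' {y}) (s y) ⊆ interior (MoreMor.sectionComponents f s) := by
  intro x hx
  obtain ⟨hxS, hfx⟩ := mem_sectionComponents_of_mem f s hx
  haveI : IsLocallyNoetherian X := LocallyOfFiniteType.isLocallyNoetherian f
  obtain ⟨W, hW, hxW, -⟩ := exists_isAffineOpen_mem_and_subset (X := X) (x := x) (U := ⊤) trivial
  haveI : NoetherianSpace ↥(W : Set X) := noetherianSpace_affineOpen hW
  suffices ∀ T : Set ↥(W : Set X), IsClosed T → ∃ O, IsOpen O ∧ (⟨x, hxW⟩ : ↥(W : Set X)) ∈ O ∧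
      ∀ a ∈ O ∩ T, a.1 ∈ MoreMor.sectionComponents f s by
    obtain ⟨O, hO, hxO, hOE⟩ := this Set.univ isClosed_univ
    refine mem_interior.2 ⟨Subtype.val '' O, ?_, W.2.isOpenEmbedding_subtypeVal.isOpenMap _ hO, ⟨_, hxO, rfl⟩⟩
    rintro _ ⟨a, ha, rfl⟩
    exact hOE a ⟨ha, trivial⟩
  refine ConstrNoeth.irreducible_induction ⟨Set.univ, isOpen_univ, trivial, by simp⟩ ?_ ?_
  · rintro A B - - ⟨O, hO, hxO, hA⟩ ⟨O', hO', hxO', hB⟩
    exact ⟨O ∩ O', hO.inter hO', ⟨hxO, hxO'⟩, fun a ha =>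
      ha.2.elim (fun h => hA a ⟨ha.1.1, h⟩) fun h => hB a ⟨ha.1.2, h⟩⟩
  · intro T hT hirr ih
    by_cases hxT : (⟨x, hxW⟩ : ↥(W : Set X)) ∈ T
    · haveI : QuasiSober ↥(W : Set X) := W.2.isOpenEmbedding_subtypeVal.quasiSober
      have hgen := hirr.isGenericPoint_genericPoint hT
      let ξ : X := hirr.genericPoint.1
      have hξS : ξ ∈ MoreMor.sectionComponents f s :=
        mem_sectionComponents_of_specializes f s hs ((hgen.specializes hxT).map continuous_subtype_val) hxS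
          fun w hw => hC w (by rwa [hfx] at hw)
      obtain ⟨V, hV, hξV, hVE⟩ := exists_open_piece f s hs hξS
      let V' : Set ↥(W : Set X) := Subtype.val ⁻¹' V
      have hV' : IsOpen V' := hV.preimage continuous_subtype_val
      obtain ⟨O, hO, hxO, hOE⟩ := ih (T \ V') (hT.sdiff hV')
        (Set.sdiff_subset.ssubset_of_ne fun e => (e.ge hgen.mem).2 hξV)
      refine ⟨O, hO, hxO, fun a ha => ?_⟩
      by_cases haV : a ∈ V'
      · exact hVE ⟨haV, ((hgen.specializes ha.2).map continuous_subtype_val).mem_closure⟩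
      · exact hOE a ⟨ha.1, ha.2, haV⟩
    · exact ⟨Tᶜ, hT.isOpen_compl, hxT, fun a ha => absurd ha.2 ha.1⟩

end Groth.Agent.GenIrredLib
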