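import Mathlib
import Groth.Agent.GenIrredLib.SectionConstr

/-!
# Noetherian models of morphisms with a section
-/

set_option autoImplicit false
set_option backward.isDefEq.respectTransparency false
set_option linter.style.haveILetI false

universe u

open CategoryTheory CategoryTheory.Limits AlgebraicGeometry Topology

namespace Groth.Agent.GenIrredLib

/-- A finitely presented morphism with a section over an affine base comes from a Noetherian base. -/
theorem exists_section_model (R : CommRingCat.{u}) {W : Scheme.{u}} (g : W ⟶ Spec R) [LocallyOfFinitePresentation g]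
    [CompactSpace W] [QuasiSeparatedSpace W] (σ : Spec R ⟶ W) (hσ : σ ≫ g = 𝟙 _) :
    ∃ (i : (FPModelLib.ZIdx R)ᵒᵖ) (G : Scheme.{u}) (g₀ : G ⟶ (FPModelLib.zSys R).obj i) (q : W ⟶ G)
      (σ₀ : (FPModelLib.zSys R).obj i ⟶ G),
      σ₀ ≫ g₀ = 𝟙 _ ∧ FPModelLib.IsModel g ((FPModelLib.zCone R).π.app i) g₀ q ∧
        σ ≫ q = (FPModelLib.zCone R).π.app i ≫ σ₀ := by
  obtain ⟨i, G, g₀, q, hm⟩ :=
    FPModelLib.exists_model (FPModelLib.zSys R) (FPModelLib.zCone R) (FPModelLib.isLimitZCone R)
      (show W ⟶ (FPModelLib.zCone R).pt from g)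
  let D := FPModelLib.zSys R
  let c := FPModelLib.zCone R
  have hR : FPModelLib.IsModel (𝟙 c.pt) (c.π.app i) (𝟙 (D.obj i)) (c.π.app i) :=
    ⟨inferInstance, inferInstance, inferInstance, IsPullback.of_vert_isIso ⟨by simp⟩⟩
  obtain ⟨k, mk, hmk, hvm⟩ := FPModelLib.exists_hom_stage D c (FPModelLib.isLimitZCone R) hR hm
    (show c.pt ⟶ W from σ) hσ
  let e : D.obj k.left ⟶ (AffLim.baseChange D i (𝟙 (D.obj i))).obj k :=
    pullback.lift (D.map k.hom) (𝟙 _) (by simp)
  refine ⟨k.left, _, pullback.snd g₀ (D.map k.hom), FlatStage.vMap D c i g₀ hm.isPullback k, e ≫ mk, ?_,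
    hm.stage D c k, ?_⟩
  · rw [Category.assoc, hmk]
    exact pullback.lift_snd _ _ _
  · have he : c.π.app k.left ≫ e = FlatStage.vMap D c i (𝟙 (D.obj i)) hR.isPullback k := by
      apply pullback.hom_ext
      · rw [FlatStage.vMap_fst, Category.assoc, pullback.lift_fst]
        exact c.w k.hom
      · rw [FlatStage.vMap_snd, Category.assoc, pullback.lift_snd, Category.comp_id]
        exact (Category.id_comp _).symm
    exact hvm.symm.trans ((congrArg (· ≫ mk) he.symm).trans (Category.assoc _ _ _))

variable {X Y : Scheme.{u}} (f : X ⟶ Y) (s : Y ⟶ X) (hs : s ≫ f = 𝟙 Y)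

include hs in
/-- Section components of a morphism of finite presentation form a locally constructible set. -/
theorem isLocallyConstructible_sectionComponents [LocallyOfFinitePresentation f] [QuasiCompact f]
    [QuasiSeparated f] : IsLocallyConstructible (MoreMor.sectionComponents f s) := by
  intro x
  obtain ⟨U, hU, hxU, -⟩ := exists_isAffineOpen_mem_and_subset (X := Y) (x := f x) (U := ⊤) trivial
  let g := pullback.snd f hU.fromSpec
  let j := pullback.fst f hU.fromSpec
  haveI : CompactSpace ↥(pullback f hU.fromSpec) := QuasiCompact.compactSpace_of_compactSpace g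
  haveI : QuasiSeparatedSpace ↥(pullback f hU.fromSpec) := quasiSeparatedSpace_of_quasiSeparated g
  let σ : Spec Γ(Y, U) ⟶ pullback f hU.fromSpec :=
    pullback.lift (hU.fromSpec ≫ s) (𝟙 _) (by rw [Category.assoc, hs, Category.comp_id, Category.id_comp])
  obtain ⟨i, G, g₀, q, σ₀, hσ₀, hm, hσq⟩ := exists_section_model Γ(Y, U) g σ (pullback.lift_snd _ _ _)
  haveI := hm.compact
  haveI := hm.qs
  haveI := hm.lfp
  haveI : QuasiCompact g₀ := quasiCompact_of_compactSpace _
  haveI : TopologicalSpace.NoetherianSpace G := by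
    haveI : IsLocallyNoetherian G := LocallyOfFiniteType.isLocallyNoetherian g₀
    haveI : AlgebraicGeometry.IsNoetherian G := ⟨⟩
    infer_instance
  have hE := isConstructible_sectionComponents_noetherian g₀ σ₀ hσ₀
  haveI : IsAffineHom ((FPModelLib.zCone Γ(Y, U)).π.app i) :=
    inferInstanceAs (IsAffineHom (Spec.map _))
  haveI : IsAffineHom q := MorphismProperty.of_isPullback hm.isPullback.flip ‹IsAffineHom ((FPModelLib.zCone Γ(Y, U)).π.app i)›
  have hbc := sectionComponents_baseChange g₀ σ₀ hσ₀ g q ((FPModelLib.zCone Γ(Y, U)).π.app i) hm.isPullback σ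
    (pullback.lift_snd _ _ _) hσq
  have hbc' := sectionComponents_baseChange f s hs g j hU.fromSpec (IsPullback.of_hasPullback f hU.fromSpec) σ
    (pullback.lift_snd _ _ _) (pullback.lift_fst _ _ _)
  have hE' : IsConstructible (j ⁻¹' MoreMor.sectionComponents f s) := by
    rw [← hbc', hbc]
    refine hE.preimage q.continuous fun t hto htr => ?_
    intro t' ht' ht'o
    exact QuasiSeparatedSpace.inter_isCompact _ _ (hto.preimage q.continuous)
      (q.isCompact_preimage (U := ⟨t, hto⟩) htr.isCompact) ht'o ht'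
  let O : X.Opens := j.opensRange
  refine ⟨O, O.2.mem_nhds ?_, O.2, ?_⟩
  · show x ∈ Set.range j
    rw [Scheme.Pullback.range_fst, hU.range_fromSpec]
    exact hxU
  · let h := j.isOpenEmbedding.isEmbedding.toHomeomorph
    have h1 := hE'.preimage_of_isOpenEmbedding h.symm.isOpenEmbedding
    have h2 : (Subtype.val ⁻¹' MoreMor.sectionComponents f s : Set ↑(Set.range j)) =
        h.symm ⁻¹' (j ⁻¹' MoreMor.sectionComponents f s) := by
      ext z
      show z.1 ∈ MoreMor.sectionComponents f s ↔ j (h.symm z) ∈ MoreMor.sectionComponents f s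
      rw [show j (h.symm z) = z.1 from congrArg Subtype.val (h.apply_symm_apply z)]
    rw [← h2] at h1
    exact h1

end Groth.Agent.GenIrredLib
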