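import Mathlib
import Groth.Agent.GenIrredLib.SectionModel
import Groth.Agent.GenIrredLib.SectionLocal
import Groth.Agent.GenIrredLib.GeomRedPt
import Groth.Agent.GenIrredLib.GeomRedGlobal
import Groth.Agent.FPModelLib.BaseId
import Groth.Agent.FlatStage.Smooth
import Groth.Agent.UnivOpenAtLib.Dvr

/-!
# Openness of section components of flat morphisms of finite presentation
-/

set_option autoImplicit false
set_option backward.isDefEq.respectTransparency false
set_option linter.style.haveILetI false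

universe u

open CategoryTheory CategoryTheory.Limits AlgebraicGeometry Topology

namespace Groth.Agent.GenIrredLib

/-- Points and base change: every point of the base change over given points exists. -/
theorem exists_point_of_isPullback {X Y X' Y' : Scheme.{u}} {f : X ⟶ Y} {f' : X' ⟶ Y'} {g : Y' ⟶ Y} {g' : X' ⟶ X}
    (hc : IsPullback g' f' f g) (x : X) (y' : Y') (h : f x = g y') : ∃ x' : X', g' x' = x ∧ f' x' = y' := by
  obtain ⟨v, h1, h2⟩ := Scheme.Pullback.exists_preimage_pullback x y' h
  refine ⟨hc.isoPullback.inv v, ?_, ?_⟩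
  · rw [← Scheme.Hom.comp_apply, hc.isoPullback_inv_fst, h1]
  · rw [← Scheme.Hom.comp_apply, hc.isoPullback_inv_snd, h2]

/-- A flat finitely presented morphism with a section over an affine base comes from a flat such morphism over a
Noetherian base. -/
theorem exists_flat_section_model (R : CommRingCat.{u}) {W : Scheme.{u}} (g : W ⟶ Spec R)
    [LocallyOfFinitePresentation g] [Flat g] [CompactSpace W] [QuasiSeparatedSpace W] (σ : Spec R ⟶ W)
    (hσ : σ ≫ g = 𝟙 _) :
    ∃ (i : (FPModelLib.ZIdx R)ᵒᵖ) (G : Scheme.{u}) (g₀ : G ⟶ (FPModelLib.zSys R).obj i) (q : W ⟶ G)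
      (σ₀ : (FPModelLib.zSys R).obj i ⟶ G),
      σ₀ ≫ g₀ = 𝟙 _ ∧ Flat g₀ ∧ LocallyOfFinitePresentation g₀ ∧
        IsPullback q g g₀ ((FPModelLib.zCone R).π.app i) ∧ σ ≫ q = (FPModelLib.zCone R).π.app i ≫ σ₀ := by
  obtain ⟨i, G, g₀, q, σ₀, hσ₀, hm, hσq⟩ := exists_section_model R g σ hσ
  haveI := hm.compact
  haveI := hm.lfp
  let D := FPModelLib.zSys R
  let c := FPModelLib.zCone R
  have hY : IsPullback (c.π.app i) (𝟙 c.pt) (𝟙 (D.obj i)) (c.π.app i) := IsPullback.id_vert _
  obtain ⟨k, hk⟩ := FlatStage.exists_flat D c i g₀ (𝟙 (D.obj i)) hY hm.isPullback (FPModelLib.isLimitZCone R)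
  haveI := FPModelLib.prop_snd_of_baseChangeMap D g₀ k hk
  have h1 := hm.stage D c k
  refine ⟨k.left, _, pullback.snd g₀ (D.map k.hom), _, pullback.lift (D.map k.hom ≫ σ₀) (𝟙 _)
    (by rw [Category.assoc, hσ₀, Category.comp_id, Category.id_comp]), pullback.lift_snd _ _ _,
    inferInstance, h1.lfp, h1.isPullback, ?_⟩
  apply pullback.hom_ext
  · rw [Category.assoc, Category.assoc, FlatStage.vMap_fst, pullback.lift_fst, hσq, ← Category.assoc, c.w]
  · rw [Category.assoc, Category.assoc, FlatStage.vMap_snd, pullback.lift_snd]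
    exact ((reassoc_of% hσ) _).trans (Category.comp_id _).symm

variable {X Y : Scheme.{u}} (f : X ⟶ Y) (s : Y ⟶ X) (hs : s ≫ f = 𝟙 Y)

include hs in
/-- Section components of a flat morphism of finite presentation near a geometrically reduced component. -/
theorem subset_interior_sectionComponents_of_flat [Flat f] [LocallyOfFinitePresentation f] [QuasiCompact f]
    [QuasiSeparated f] (y : Y)
    (hred : ∀ x' : ↥(f.fiber y), f.fiberι y x' ∈ connectedComponentIn (f ⁻¹' {y}) (s y) →
      FBase.IsGeomReducedAt (f.fiberToSpecResidueField y) x') :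
    connectedComponentIn (f ⁻¹' {y}) (s y) ⊆ interior (MoreMor.sectionComponents f s) := by
  intro x hx
  obtain ⟨hxS, hfx⟩ := mem_sectionComponents_of_mem f s hx
  obtain ⟨U, hU, hyU, -⟩ := exists_isAffineOpen_mem_and_subset (X := Y) (x := y) (U := ⊤) trivial
  let g := pullback.snd f hU.fromSpec
  let j := pullback.fst f hU.fromSpec
  haveI : CompactSpace ↥(pullback f hU.fromSpec) := QuasiCompact.compactSpace_of_compactSpace g
  haveI : QuasiSeparatedSpace ↥(pullback f hU.fromSpec) := quasiSeparatedSpace_of_quasiSeparated g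
  let σ : Spec Γ(Y, U) ⟶ pullback f hU.fromSpec :=
    pullback.lift (hU.fromSpec ≫ s) (𝟙 _) (by rw [Category.assoc, hs, Category.comp_id, Category.id_comp])
  have hσ : σ ≫ g = 𝟙 _ := pullback.lift_snd _ _ _
  have hbc' := sectionComponents_baseChange f s hs g j hU.fromSpec (IsPullback.of_hasPullback f hU.fromSpec) σ
    hσ (pullback.lift_fst _ _ _)
  obtain ⟨y₁, hy₁⟩ : y ∈ Set.range hU.fromSpec := by rw [hU.range_fromSpec]; exact hyU
  obtain ⟨x₁, hjx, hgx⟩ := exists_point_of_isPullback (IsPullback.of_hasPullback f hU.fromSpec) x y₁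
    (hfx.trans hy₁.symm)
  obtain ⟨i, G, g₀, q, σ₀, hσ₀, hfl, hlfp, hm, hσq⟩ := exists_flat_section_model Γ(Y, U) g σ hσ
  let y₀ := (FPModelLib.zCone Γ(Y, U)).π.app i y₁
  have hbc := sectionComponents_baseChange g₀ σ₀ hσ₀ g q ((FPModelLib.zCone Γ(Y, U)).π.app i) hm σ hσ hσq
  haveI : UniversallyOpen g₀ := inferInstance
  have hall := UnivOpenAtLib.universallyOpen_iff_forall.1 ‹UniversallyOpen g₀›
  have key := subset_interior_sectionComponents g₀ σ₀ hσ₀ y₀ fun w hw => ⟨hall w, by
    obtain ⟨hwS, hgw⟩ := mem_sectionComponents_of_mem g₀ σ₀ hw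
    obtain ⟨w₁, hqw, hgw₁⟩ := exists_point_of_isPullback hm w y₁ hgw
    have hw₁S : w₁ ∈ MoreMor.sectionComponents g σ := by rw [hbc, Set.mem_preimage, hqw]; exact hwS
    have hfw : f (j w₁) = y := by
      rw [← Scheme.Hom.comp_apply, pullback.condition, Scheme.Hom.comp_apply, hgw₁, hy₁]
    have hjwC : j w₁ ∈ connectedComponentIn (f ⁻¹' {y}) (s y) := by
      rw [hbc', Set.mem_preimage] at hw₁S
      have := mem_component_of_mem f s hw₁S
      rwa [hfw] at this
    obtain ⟨x', hx'⟩ : j w₁ ∈ Set.range (f.fiberι y) := by rw [f.range_fiberι]; exact hfw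
    obtain ⟨z, hz⟩ : w₁ ∈ Set.range (g.fiberι y₁) := by rw [g.range_fiberι]; exact hgw₁
    have h1 := (isGeomReducedAt_fiber_iff (IsPullback.of_hasPullback f hU.fromSpec) y₁ z hy₁ x'
      (by rw [hx', hz])).1 (hred x' (by rw [hx']; exact hjwC))
    exact (isGeomReducedAt_fiber_iff hm y₁ z (hgw.symm) (g₀.asFiber w)
      ((g₀.fiberι_asFiber w).trans (by rw [hz, hqw]))).2 h1⟩
  have hqx : q x₁ ∈ interior (MoreMor.sectionComponents g₀ σ₀) := by
    refine key ?_
    have h1 : x₁ ∈ MoreMor.sectionComponents g σ := by rw [hbc', Set.mem_preimage, hjx]; exact hxS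
    rw [hbc, Set.mem_preimage] at h1
    have h2 := mem_component_of_mem g₀ σ₀ h1
    have h3 : g₀ (q x₁) = y₀ := by
      rw [← Scheme.Hom.comp_apply, hm.w, Scheme.Hom.comp_apply, hgx]; rfl
    rwa [h3] at h2
  refine mem_interior.2 ⟨j '' (q ⁻¹' interior (MoreMor.sectionComponents g₀ σ₀)), ?_,
    j.isOpenEmbedding.isOpenMap _ (isOpen_interior.preimage q.continuous), ⟨x₁, hqx, hjx⟩⟩
  rintro _ ⟨a, ha, rfl⟩
  have h1 : a ∈ MoreMor.sectionComponents g σ := by rw [hbc]; exact interior_subset (s := MoreMor.sectionComponents g₀ σ₀) (show q a ∈ _ from ha)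
  rwa [hbc'] at h1

include hs in
/-- Section components of a flat finitely presented morphism with geometrically reduced fibres are open. -/
theorem isOpen_sectionComponents_of_flat [Flat f] [LocallyOfFinitePresentation f] [QuasiCompact f]
    [QuasiSeparated f] (hred : ∀ y, GeometricallyReduced (f.fiberToSpecResidueField y)) :
    IsOpen (MoreMor.sectionComponents f s) := by
  refine isOpen_iff_mem_nhds.2 fun x hx => mem_interior_iff_mem_nhds.1 ?_
  exact subset_interior_sectionComponents_of_flat f s hs (f x)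
    (fun x' _ => isGeomReducedAt_of_geometricallyReduced (k := Y.residueField (f x)) (hred (f x)) x')
    (mem_component_of_mem f s hx)

end Groth.Agent.GenIrredLib
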