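import Mathlib
import Groth.Agent.GenIrredLib.PtIntegral
import Groth.Agent.GenIrredLib.DVRCount
import Groth.Agent.GenIrredLib.SectionFlat
import Groth.Agent.GeomRk.Point
import Groth.Agent.GeomIrred.FinSep
import Groth.Agent.GenFree.Scheme

/-!
# The pointwise geometrically integral locus of a morphism
-/

set_option autoImplicit false
set_option backward.isDefEq.respectTransparency false
set_option linter.style.haveILetI false

universe u

open CategoryTheory CategoryTheory.Limits AlgebraicGeometry IsLocalRing TopologicalSpace Topology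
open scoped TensorProduct

namespace Groth.Agent.GenIrredLib

/-- Pointwise geometric integrality is local on the source. -/
theorem isGeomPtIntegralAt_openImmersion_iff {k : Type u} [Field k] {Z Z' : Scheme.{u}}
    (g : Z ⟶ Spec (CommRingCat.of k)) (j : Z' ⟶ Z) [IsOpenImmersion j] (g' : Z' ⟶ Spec (CommRingCat.of k))
    (hg : j ≫ g = g') (z : Z') : FBase.IsGeomPtIntegralAt g' z ↔ FBase.IsGeomPtIntegralAt g (j z) := by
  have key : ∀ (K : Type u) [Field K] [Algebra k K], ∃ n : FBase.bc g' K ⟶ FBase.bc g K, IsOpenImmersion n ∧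
      IsPullback (FBase.bcπ g' K) n j (FBase.bcπ g K) := fun K _ _ => by
    let n : FBase.bc g' K ⟶ FBase.bc g K := pullback.lift (FBase.bcπ g' K ≫ j) (pullback.snd g' _)
      (by rw [Category.assoc, hg]; exact pullback.condition)
    have h : IsPullback (FBase.bcπ g' K) n j (FBase.bcπ g K) := by
      refine IsPullback.of_bot (v₂₁ := pullback.snd g (Spec.map (CommRingCat.ofHom (algebraMap k K)))) (v₂₂ := g)
        (h₃₁ := Spec.map (CommRingCat.ofHom (algebraMap k K))) ?_ (pullback.lift_fst _ _ _).symm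
        (IsPullback.of_hasPullback _ _)
      rw [pullback.lift_snd, hg]
      exact IsPullback.of_hasPullback _ _
    exact ⟨n, MorphismProperty.of_isPullback h ‹IsOpenImmersion j›, h⟩
  constructor
  · intro h K _ _ x' hx'
    obtain ⟨n, hn, hpb⟩ := key K
    obtain ⟨a, ha, hb⟩ := Scheme.exists_preimage_of_isPullback hpb z x' hx'.symm
    subst hb
    haveI := h K a ha
    exact (asIso (n.stalkMap a)).commRingCatIsoToRingEquiv.injective.isDomain
      (asIso (n.stalkMap a)).commRingCatIsoToRingEquiv.toRingHom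
  · intro h K _ _ x' hx'
    obtain ⟨n, hn, hpb⟩ := key K
    haveI := h K (n x') (by
      rw [← Scheme.Hom.comp_apply, ← hpb.w, Scheme.Hom.comp_apply]
      exact congrArg j hx')
    exact (asIso (n.stalkMap x')).commRingCatIsoToRingEquiv.symm.injective.isDomain
      (asIso (n.stalkMap x')).commRingCatIsoToRingEquiv.symm.toRingHom

variable {X Y : Scheme.{u}} (f : X ⟶ Y)

/-- The points at which the fibre is pointwise geometrically integral. -/
def ptIntegralSet : Set X :=
  {x | FBase.IsGeomPtIntegralAt (f.fiberToSpecResidueField (f.base x)) (f.asFiber x)}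

theorem fiberι_mem_ptIntegralSet_iff (y : Y) (w : f.fiber y) :
    f.fiberι y w ∈ ptIntegralSet f ↔ FBase.IsGeomPtIntegralAt (f.fiberToSpecResidueField y) w := by
  have h : ∀ (y' : Y) (_ : y' = y) (w' : f.fiber y'), f.fiberι y' w' = f.fiberι y w →
      (FBase.IsGeomPtIntegralAt (f.fiberToSpecResidueField y') w' ↔
        FBase.IsGeomPtIntegralAt (f.fiberToSpecResidueField y) w) := by
    rintro y' rfl w' hw'
    rw [(f.fiberι y').isEmbedding.injective hw']
  exact h _ ((f.range_fiberι y).le ⟨w, rfl⟩) _ (f.fiberι_asFiber _)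

theorem forall_mem_ptIntegralSet_iff (y : Y) : (∀ x, f x = y → x ∈ ptIntegralSet f) ↔
    ∀ w : f.fiber y, FBase.IsGeomPtIntegralAt (f.fiberToSpecResidueField y) w := by
  refine ⟨fun h w => (fiberι_mem_ptIntegralSet_iff f y w).1 (h _ ((f.range_fiberι y).le ⟨w, rfl⟩)), fun h x hx => ?_⟩
  obtain ⟨w, rfl⟩ : x ∈ Set.range (f.fiberι y) := by rw [f.range_fiberι]; exact hx
  exact (fiberι_mem_ptIntegralSet_iff f y w).2 (h w)

/-- The pointwise geometrically integral locus is compatible with base change. -/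
theorem mem_ptIntegralSet_of_isPullback {X' Y' : Scheme.{u}} {f' : X' ⟶ Y'} {g : Y' ⟶ Y} {g' : X' ⟶ X}
    (hc : IsPullback g' f' f g) (z : X') : g' z ∈ ptIntegralSet f ↔ z ∈ ptIntegralSet f' := by
  obtain ⟨w, hw⟩ : g' z ∈ Set.range (f.fiberι (g (f' z))) := by
    rw [f.range_fiberι]
    show f (g' z) = g (f' z)
    rw [← Scheme.Hom.comp_apply, hc.w, Scheme.Hom.comp_apply]
  rw [← hw, fiberι_mem_ptIntegralSet_iff]
  exact isGeomPtIntegralAt_fiber_iff hc (f' z) (f'.asFiber z) rfl w (by rw [hw, f'.fiberι_asFiber z])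

/-- Over a field the locus consists of the pointwise geometrically integral points. -/
theorem mem_ptIntegralSet_field {k : Type u} [Field k] {Z : Scheme.{u}} (g : Z ⟶ Spec (CommRingCat.of k)) (z : Z) :
    z ∈ ptIntegralSet g ↔ FBase.IsGeomPtIntegralAt g z := by
  obtain ⟨y, hy⟩ : ∃ y, g z = y := ⟨_, rfl⟩
  obtain ⟨w, rfl⟩ : z ∈ Set.range (g.fiberι y) := by rw [g.range_fiberι]; exact hy
  rw [fiberι_mem_ptIntegralSet_iff]
  have H : IsPullback (g.fiberι y) (g.fiberToSpecResidueField y) g
      ((Spec (CommRingCat.of k)).fromSpecResidueField y) := IsPullback.of_hasPullback _ _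
  exact ⟨fun h => isGeomPtIntegralAt_of_isPullback
      (L := (Spec (CommRingCat.of k)).residueField y) H w h,
    fun h => isGeomPtIntegralAt_baseChange (L := (Spec (CommRingCat.of k)).residueField y) H w h⟩

/-- The pointwise geometrically integral locus of an open subscheme. -/
theorem mem_ptIntegralSet_openImmersion {X' : Scheme.{u}} (j : X' ⟶ X) [IsOpenImmersion j] (z : X') :
    z ∈ ptIntegralSet (j ≫ f) ↔ j z ∈ ptIntegralSet f := by
  obtain ⟨y, hy⟩ : ∃ y, (j ≫ f) z = y := ⟨_, rfl⟩
  obtain ⟨w, rfl⟩ : z ∈ Set.range ((j ≫ f).fiberι y) := by rw [(j ≫ f).range_fiberι]; exact hy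
  let e := pullbackRightPullbackFstIso f (Y.fromSpecResidueField y) j
  let n : (j ≫ f).fiber y ⟶ f.fiber y := e.inv ≫ pullback.snd j _
  haveI : IsOpenImmersion (pullback.snd j (pullback.fst f (Y.fromSpecResidueField y))) :=
    MorphismProperty.pullback_snd _ _ inferInstance
  haveI : IsOpenImmersion n := inferInstanceAs (IsOpenImmersion (e.inv ≫ pullback.snd j _))
  have h1 : n ≫ f.fiberι y = (j ≫ f).fiberι y ≫ j := by
    show (e.inv ≫ pullback.snd j _) ≫ pullback.fst f _ = pullback.fst (j ≫ f) _ ≫ j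
    rw [Category.assoc, ← pullback.condition, ← Category.assoc, pullbackRightPullbackFstIso_inv_fst]
  have h2 : n ≫ f.fiberToSpecResidueField y = (j ≫ f).fiberToSpecResidueField y := by
    show (e.inv ≫ pullback.snd j _) ≫ pullback.snd f _ = pullback.snd (j ≫ f) _
    rw [Category.assoc, pullbackRightPullbackFstIso_inv_snd_snd]
  rw [show j ((j ≫ f).fiberι y w) = f.fiberι y (n w) by rw [← Scheme.Hom.comp_apply, ← h1, Scheme.Hom.comp_apply],
    fiberι_mem_ptIntegralSet_iff, fiberι_mem_ptIntegralSet_iff]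
  exact isGeomPtIntegralAt_openImmersion_iff (k := Y.residueField y) _ n _ h2 w

/-- A zero product in a localisation comes from a subring whose localisation is a domain. -/
theorem mk'_eq_zero_or_of_injective {A B : Type u} [CommRing A] [CommRing B] (φ : A →+* B)
    (hφ : Function.Injective φ) (Q : Ideal B) [Q.IsPrime] [IsDomain (Localization.AtPrime (Q.comap φ))]
    (a b t : A) (s₁ s₂ : Q.primeCompl) (ht : φ t ∉ Q) (h : φ t * (φ a * φ b) = 0) :
    IsLocalization.mk' (Localization.AtPrime Q) (φ a) s₁ = 0 ∨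
      IsLocalization.mk' (Localization.AtPrime Q) (φ b) s₂ = 0 := by
  have hab : algebraMap A (Localization.AtPrime (Q.comap φ)) (a * b) = 0 :=
    (IsLocalization.map_eq_zero_iff (Q.comap φ).primeCompl _ _).2 ⟨⟨t, ht⟩, hφ (by
      show φ (t * (a * b)) = φ 0
      rw [map_mul, map_mul, map_zero]
      exact h)⟩
  have hzero : ∀ (v : A) (s : Q.primeCompl), algebraMap A (Localization.AtPrime (Q.comap φ)) v = 0 →
      IsLocalization.mk' (Localization.AtPrime Q) (φ v) s = 0 := by
    intro v s hv
    obtain ⟨m, hm⟩ := (IsLocalization.map_eq_zero_iff (Q.comap φ).primeCompl _ _).1 hv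
    exact (IsLocalization.mk'_eq_zero_iff _ _).2 ⟨⟨φ m.1, m.2⟩, by
      show φ m.1 * φ v = 0
      rw [← map_mul, hm, map_zero]⟩
  rw [map_mul] at hab
  exact (mul_eq_zero.1 hab).imp (hzero a s₁) (hzero b s₂)

/-- Elements of a tensor product with an algebraic extension come from all large enough finite subextensions. -/
theorem exists_finite_forall_ge_mem_range {k Ω C : Type u} [Field k] [Field Ω] [Algebra k Ω]
    [Algebra.IsAlgebraic k Ω] [CommRing C] [Algebra k C] (r : Ω ⊗[k] C) :
    ∃ L : IntermediateField k Ω, FiniteDimensional k L ∧ ∀ L' : IntermediateField k Ω, L ≤ L' →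
      ∃ r' : L' ⊗[k] C, Algebra.TensorProduct.map L'.val (AlgHom.id k C) r' = r := by
  induction r with
  | zero => exact ⟨⊥, inferInstance, fun L' _ => ⟨0, map_zero _⟩⟩
  | tmul c b =>
    exact ⟨IntermediateField.adjoin k {c},
      IntermediateField.adjoin.finiteDimensional (Algebra.IsIntegral.isIntegral c),
      fun L' hL' => ⟨(⟨c, hL' (IntermediateField.mem_adjoin_simple_self k c)⟩ : L') ⊗ₜ b,
        Algebra.TensorProduct.map_tmul _ _ _ _⟩⟩
  | add a b ha hb =>
    obtain ⟨L, hL, ha⟩ := ha
    obtain ⟨L', hL', hb⟩ := hb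
    refine ⟨L ⊔ L', inferInstance, fun M hM => ?_⟩
    obtain ⟨a', ha'⟩ := ha M (le_sup_left.trans hM)
    obtain ⟨b', hb'⟩ := hb M (le_sup_right.trans hM)
    exact ⟨a' + b', by rw [map_add, ha', hb']⟩

/-- Pointwise geometric integrality is decided by the finite extensions inside an algebraic closure. -/
theorem isGeomPtIntegralAt_of_forall_finite {k : Type u} [Field k] {Z : Scheme.{u}}
    (g : Z ⟶ Spec (CommRingCat.of k)) [LocallyOfFiniteType g] (x : Z)
    (h : ∀ L : IntermediateField k (AlgebraicClosure k), FiniteDimensional k L → ∀ z : ↥(FBase.bc g L),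
      FBase.bcπ g L z = x → IsDomain ((FBase.bc g L).presheaf.stalk z)) : FBase.IsGeomPtIntegralAt g x := by
  let Ω := AlgebraicClosure k
  obtain ⟨c, q, rfl⟩ := GeomRk.exists_chart g x
  haveI : Surjective (Spec.map (CommRingCat.ofHom (algebraMap k Ω))) :=
    ⟨fun v => ⟨IsLocalRing.closedPoint Ω, Subsingleton.elim (α := PrimeSpectrum k) _ _⟩⟩
  haveI : Surjective (FBase.bcπ g Ω) := MorphismProperty.pullback_fst _ _ inferInstance
  obtain ⟨z', hz'⟩ := (FBase.bcπ g Ω).surjective (c.j q)
  obtain ⟨Q, hQ, rfl⟩ := c.exists_bc_point Ω q z' hz'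
  rw [← hz', isGeomPtIntegralAt_iff_of_algClosed]
  obtain ⟨e⟩ := c.exists_bc_stalk_equiv Ω Q
  suffices IsDomain (Localization.AtPrime Q.asIdeal) from e.injective.isDomain e.toRingHom
  let R := Localization.AtPrime Q.asIdeal
  refine @NoZeroDivisors.to_isDomain _ _ inferInstance ⟨fun {a b} hab => ?_⟩
  obtain ⟨⟨r, s₁⟩, rfl⟩ : ∃ p : (Ω ⊗[k] c.C) × Q.asIdeal.primeCompl, IsLocalization.mk' R p.1 p.2 = a := by
    obtain ⟨r, s₁, h⟩ := IsLocalization.exists_mk'_eq Q.asIdeal.primeCompl a
    exact ⟨⟨r, s₁⟩, h⟩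
  obtain ⟨r', s₂, rfl⟩ := IsLocalization.exists_mk'_eq Q.asIdeal.primeCompl b
  rw [← IsLocalization.mk'_mul, IsLocalization.mk'_eq_zero_iff] at hab
  obtain ⟨t, ht⟩ := hab
  obtain ⟨L₁, hL₁, h₁⟩ := exists_finite_forall_ge_mem_range (Ω := Ω) (C := c.C) r
  obtain ⟨L₂, hL₂, h₂⟩ := exists_finite_forall_ge_mem_range (Ω := Ω) (C := c.C) r'
  obtain ⟨L₃, hL₃, h₃⟩ := exists_finite_forall_ge_mem_range (Ω := Ω) (C := c.C) t.1
  let L := L₁ ⊔ L₂ ⊔ L₃
  let φ := Algebra.TensorProduct.map L.val (AlgHom.id k c.C)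
  have hφ : Function.Injective φ := Module.Flat.rTensor_preserves_injective_linearMap (M := c.C)
    L.val.toLinearMap Subtype.val_injective
  obtain ⟨a, rfl⟩ := h₁ L (le_sup_left.trans le_sup_left)
  obtain ⟨b, rfl⟩ := h₂ L (le_sup_right.trans le_sup_left)
  obtain ⟨t₀, ht₀⟩ := h₃ L le_sup_right
  let QL : PrimeSpectrum (L ⊗[k] c.C) := PrimeSpectrum.comap φ.toRingHom Q
  obtain ⟨eL⟩ := c.exists_bc_stalk_equiv L QL
  haveI := h L inferInstance (c.bcMap L QL) (by
    refine (c.bcπ_bcMap L QL).trans (congrArg c.j (PrimeSpectrum.ext ?_))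
    refine Eq.trans ?_ hQ
    show (Q.asIdeal.comap φ.toRingHom).comap _ = _
    rw [Ideal.comap_comap]
    congr 1)
  haveI : IsDomain (Localization.AtPrime (Q.asIdeal.comap φ.toRingHom)) := eL.symm.injective.isDomain eL.symm.toRingHom
  rw [show t.1 = φ t₀ from ht₀.symm] at ht
  exact mk'_eq_zero_or_of_injective φ.toRingHom hφ Q.asIdeal a b t₀ s₁ s₂
    (fun hm => t.2 (ht₀ ▸ hm)) ht

/-- A section of a flat scheme over a discrete valuation ring through a pointwise geometrically integral point of the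
special fibre meets the generic fibre in such a point. -/
theorem mem_ptIntegralSet_dvr {A : Type u} [CommRing A] [IsDomain A] [IsDiscreteValuationRing A] {X : Scheme.{u}}
    (f : X ⟶ Spec (CommRingCat.of A)) [Flat f] [LocallyOfFiniteType f] (σ : Spec (CommRingCat.of A) ⟶ X)
    (hσ : σ ≫ f = 𝟙 _) (hc : σ (closedPoint A) ∈ ptIntegralSet f) (η : Spec (CommRingCat.of A))
    (hη : η ≠ closedPoint A) : σ η ∈ ptIntegralSet f := by
  let K := FractionRing A
  let Ω := AlgebraicClosure K
  let a : Spec (CommRingCat.of K) ⟶ Spec (CommRingCat.of A) := Spec.map (CommRingCat.ofHom (algebraMap A K))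
  have ha : a (closedPoint K) = η := by
    refine PrimeSpectrum.ext ?_
    show (maximalIdeal K).comap (algebraMap A K) = η.asIdeal
    rw [maximalIdeal_eq_bot, ← RingHom.ker_eq_comap_bot,
      (RingHom.injective_iff_ker_eq_bot _).1 (IsFractionRing.injective A K)]
    by_contra h0
    haveI := IsPrime.to_maximal_ideal (hpi := η.isPrime) fun h => h0 h.symm
    exact hη (PrimeSpectrum.ext (IsLocalRing.eq_maximalIdeal this))
  let g := pullback.snd f a
  let σK : Spec (CommRingCat.of K) ⟶ pullback f a :=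
    pullback.lift (a ≫ σ) (𝟙 _) (by rw [Category.assoc, hσ, Category.comp_id, Category.id_comp])
  have hσK : pullback.fst f a (σK (closedPoint K)) = σ η := by
    rw [← Scheme.Hom.comp_apply, pullback.lift_fst, Scheme.Hom.comp_apply, ha]
  rw [← hσK, mem_ptIntegralSet_of_isPullback f (IsPullback.of_hasPullback f a), mem_ptIntegralSet_field]
  refine isGeomPtIntegralAt_of_forall_finite g _ fun L hL z hz => ?_
  haveI := hL
  have hfg : (⊤ : IntermediateField K L).FG := IntermediateField.fg_top_iff.2 inferInstance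
  obtain ⟨B, hB, hAB, hAm⟩ :=
    DVRCrit.exists_dvr_dominating_fg (L := L) A (IsDiscreteValuationRing.not_isField A) K hfg
  haveI := hB
  let β : A →+* B := (algebraMap A L).codRestrict B.toSubring hAB
  let b : Spec (CommRingCat.of B) ⟶ Spec (CommRingCat.of A) := Spec.map (CommRingCat.ofHom β)
  have hbc : b (closedPoint B) = closedPoint A := by
    refine PrimeSpectrum.ext (((Ideal.IsPrime.comap β).ne_top |> fun h => le_maximalIdeal h).antisymm fun r hr => ?_)
    exact ValuationSubring.coe_mem_nonunits_iff.1 (hAm r hr)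
  let aL : Spec (CommRingCat.of L) ⟶ Spec (CommRingCat.of B) := Spec.map (CommRingCat.ofHom B.subtype)
  let t : Spec (CommRingCat.of L) ⟶ Spec (CommRingCat.of K) := Spec.map (CommRingCat.ofHom (algebraMap K L))
  have htb : aL ≫ b = t ≫ a := by
    show Spec.map _ ≫ Spec.map _ = Spec.map _ ≫ Spec.map _
    rw [← Spec.map_comp, ← Spec.map_comp, ← CommRingCat.ofHom_comp, ← CommRingCat.ofHom_comp,
      ← IsScalarTower.algebraMap_eq]
    rfl
  let fB := pullback.snd f b
  haveI : Flat fB := MorphismProperty.pullback_snd _ _ inferInstance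
  haveI : LocallyOfFiniteType fB := MorphismProperty.pullback_snd _ _ inferInstance
  haveI : IsLocallyNoetherian (pullback f b) := LocallyOfFiniteType.isLocallyNoetherian fB
  let σB : Spec (CommRingCat.of B) ⟶ pullback f b :=
    pullback.lift (b ≫ σ) (𝟙 _) (by rw [Category.assoc, hσ, Category.comp_id, Category.id_comp])
  -- the base change to the field is a localisation of the base change to the valuation ring
  let n : FBase.bc g L ⟶ pullback f b := pullback.lift (FBase.bcπ g L ≫ pullback.fst f a) (pullback.snd g t ≫ aL)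
    (by rw [Category.assoc, pullback.condition, Category.assoc, htb, ← Category.assoc, ← Category.assoc]
        exact congrArg (· ≫ a) pullback.condition)
  have hn : IsPullback n (pullback.snd g t) fB aL := by
    refine IsPullback.of_right (h₁₂ := pullback.fst f b) (h₂₂ := b) (v₁₃ := f) ?_ (pullback.lift_snd _ _ _)
      (IsPullback.of_hasPullback f _)
    rw [htb, show n ≫ pullback.fst f b = FBase.bcπ g L ≫ pullback.fst f a from pullback.lift_fst _ _ _]
    exact (IsPullback.of_hasPullback g t).paste_horiz (IsPullback.of_hasPullback f a)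
  haveI : IsPreimmersion aL := IsPreimmersion.of_isLocalization (nonZeroDivisors B)
  haveI : Flat aL := by
    rw [show aL = Spec.map (CommRingCat.ofHom B.subtype) from rfl, HasRingHomProperty.Spec_iff (P := @Flat)]
    exact RingHom.flat_algebraMap_iff.2 (IsLocalization.flat L (nonZeroDivisors B))
  haveI : IsPreimmersion n := MorphismProperty.of_isPullback hn.flip ‹IsPreimmersion aL›
  haveI : Flat n := MorphismProperty.of_isPullback hn.flip ‹Flat aL›
  let σL : Spec (CommRingCat.of L) ⟶ FBase.bc g L := pullback.lift (t ≫ σK) (𝟙 _)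
    (by rw [Category.assoc, pullback.lift_snd, Category.comp_id, Category.id_comp])
  have hσL : z = σL (closedPoint L) := by
    have H : IsPullback σL t (FBase.bcπ g L) σK := by
      refine IsPullback.flip (IsPullback.of_bot (v₂₁ := pullback.snd g t) (v₂₂ := g) (h₃₁ := t) ?_
        (pullback.lift_fst _ _ _).symm (IsPullback.of_hasPullback g t))
      rw [show σL ≫ pullback.snd g t = 𝟙 _ from pullback.lift_snd _ _ _,
        show σK ≫ g = 𝟙 _ from pullback.lift_snd _ _ _]
      exact IsPullback.id_vert t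
    obtain ⟨v, hv, -⟩ := Scheme.exists_preimage_of_isPullback H z (closedPoint K) hz
    rw [← hv]
    exact congrArg σL (Subsingleton.elim (α := PrimeSpectrum L) v _)
  have hnσ : σL ≫ n = aL ≫ σB := by
    apply pullback.hom_ext
    · rw [Category.assoc, Category.assoc, pullback.lift_fst, pullback.lift_fst, ← Category.assoc,
        show σL ≫ FBase.bcπ g L = t ≫ σK from pullback.lift_fst _ _ _, Category.assoc,
        show σK ≫ pullback.fst f a = a ≫ σ from pullback.lift_fst _ _ _, ← Category.assoc aL, htb, Category.assoc]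
    · rw [Category.assoc, Category.assoc, pullback.lift_snd, pullback.lift_snd, ← Category.assoc,
        pullback.lift_snd, Category.id_comp, Category.comp_id]
  -- the local ring at the special point is a domain
  have hBc : σB (closedPoint B) ∈ ptIntegralSet fB := by
    rw [← mem_ptIntegralSet_of_isPullback f (IsPullback.of_hasPullback f b), ← Scheme.Hom.comp_apply,
      pullback.lift_fst, Scheme.Hom.comp_apply, hbc]
    exact hc
  obtain ⟨w, hw⟩ : σB (closedPoint B) ∈ Set.range (fB.fiberι (closedPoint B)) := by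
    rw [fB.range_fiberι]
    show fB (σB (closedPoint B)) = closedPoint B
    rw [← Scheme.Hom.comp_apply, pullback.lift_snd]
    rfl
  rw [← hw, fiberι_mem_ptIntegralSet_iff] at hBc
  haveI : IsDomain ((pullback f b).presheaf.stalk (σB (closedPoint B))) := hw ▸
    isDomain_stalk_of_isDomain_special fB w
      (isDomain_stalk_of_isGeomPtIntegralAt (k := (Spec (CommRingCat.of B)).residueField (closedPoint B)) _ w hBc)
  obtain ⟨W, hW, hWint⟩ := AffLim.exists_isIntegral_nhd (σB (closedPoint B))
  haveI := hWint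
  have hgen : n z ∈ W := by
    rw [hσL, ← Scheme.Hom.comp_apply, hnσ, Scheme.Hom.comp_apply]
    exact ((IsLocalRing.specializes_closedPoint (aL (closedPoint L))).map σB.continuous).mem_open W.2 hW
  haveI : IsDomain ((pullback f b).presheaf.stalk (n z)) := RatNormal.isDomain_stalk_of_isIntegral (n z) (W := W) hgen
  have hbij : Function.Bijective (n.stalkMap z).hom := by
    refine ⟨?_, n.stalkMap_surjective z⟩
    letI := (n.stalkMap z).hom.toAlgebra
    haveI : IsLocalHom (algebraMap ((pullback f b).presheaf.stalk (n z)) ((FBase.bc g L).presheaf.stalk z)) :=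
      inferInstanceAs (IsLocalHom (n.stalkMap z).hom)
    haveI : Module.Flat ((pullback f b).presheaf.stalk (n z)) ((FBase.bc g L).presheaf.stalk z) :=
      Flat.stalkMap n z
    haveI := Module.FaithfullyFlat.of_flat_of_isLocalHom (A := (pullback f b).presheaf.stalk (n z))
      (B := (FBase.bc g L).presheaf.stalk z)
    exact FaithfulSMul.algebraMap_injective _ _
  exact (RingEquiv.ofBijective _ hbij).symm.injective.isDomain (RingEquiv.ofBijective _ hbij).symm.toRingHom

/-- Over a locally Noetherian base the locus of a flat morphism is stable under generization. -/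
theorem mem_ptIntegralSet_of_specializes [IsLocallyNoetherian Y] [Flat f] [LocallyOfFiniteType f] {x x' : X}
    (h : x' ⤳ x) (hx : x ∈ ptIntegralSet f) : x' ∈ ptIntegralSet f := by
  by_cases hne : x' = x
  · exact hne ▸ hx
  haveI : IsLocallyNoetherian X := LocallyOfFiniteType.isLocallyNoetherian f
  obtain ⟨A, _, _, _, g, hgc, hgη⟩ := UnivOpenAtLib.exists_dvr_specialization h hne
  let σ : Spec (CommRingCat.of A) ⟶ pullback f (g ≫ f) := pullback.lift g (𝟙 _) (Category.id_comp _).symm
  haveI : Flat (pullback.snd f (g ≫ f)) := MorphismProperty.pullback_snd _ _ inferInstance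
  haveI : LocallyOfFiniteType (pullback.snd f (g ≫ f)) := MorphismProperty.pullback_snd _ _ inferInstance
  have hσ : ∀ t, pullback.fst f (g ≫ f) (σ t) = g t := fun t => by
    rw [← Scheme.Hom.comp_apply, pullback.lift_fst]
  let η : Spec (CommRingCat.of A) := (⟨⊥, Ideal.isPrime_bot⟩ : PrimeSpectrum A)
  have hη : η ≠ closedPoint A := fun he =>
    IsDiscreteValuationRing.not_a_field A (congrArg PrimeSpectrum.asIdeal he).symm
  have H := IsPullback.of_hasPullback f (g ≫ f)
  have hc := (mem_ptIntegralSet_of_isPullback f H (σ (closedPoint A))).1 (by rw [hσ]; exact hgc ▸ hx)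
  have hd := (mem_ptIntegralSet_of_isPullback f H (σ η)).2
    (mem_ptIntegralSet_dvr _ σ (pullback.lift_snd _ _ _) hc η hη)
  rwa [hσ, show g η = x' from hgη η hη] at hd

/-- All points of a fibre are pointwise geometrically integral, in terms of numbers of geometric components. -/
theorem forall_mem_ptIntegralSet_iff_nGeom [LocallyOfFiniteType f] [QuasiCompact f] (y : Y) :
    (∀ x, f x = y → x ∈ ptIntegralSet f) ↔
      GeometricallyReduced (f.fiberToSpecResidueField y) ∧ (nGeom f y).1.toNat = (nGeom f y).2.toNat := by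
  rw [forall_mem_ptIntegralSet_iff]
  let k := Y.residueField y
  let Ω := AlgebraicClosure k
  let s := Spec.map (CommRingCat.ofHom (algebraMap k Ω))
  haveI : LocallyOfFiniteType (f.fiberToSpecResidueField y) := MorphismProperty.pullback_snd _ _ inferInstance
  haveI : QuasiCompact (f.fiberToSpecResidueField y) := MorphismProperty.pullback_snd _ _ inferInstance
  rw [forall_isGeomPtIntegralAt_iff (k := k) (Ω := Ω) (f.fiberToSpecResidueField y)]
  have hcount : counts ↥(FBase.bc (k := k) (f.fiberToSpecResidueField y) Ω) = nGeom f y := by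
    show counts ↥(pullback (pullback.snd f (Y.fromSpecResidueField y)) s) = _
    rw [← counts_congr (pullbackLeftPullbackSndIso f (Y.fromSpecResidueField y) s).inv.homeomorph]
    refine counts_eq_nGeom f Ω _ y ?_
    rw [Scheme.Hom.comp_apply]
    exact Scheme.fromSpecResidueField_apply _ _
  rw [← hcount]
  exact Iff.rfl

/-- The pointwise geometrically integral points of a fibre form an open set. -/
theorem isOpen_preimage_fiberι_ptIntegralSet [LocallyOfFiniteType f] (y : Y) :
    IsOpen (f.fiberι y ⁻¹' ptIntegralSet f) := by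
  haveI : LocallyOfFiniteType (f.fiberToSpecResidueField y) := MorphismProperty.pullback_snd _ _ inferInstance
  rw [show f.fiberι y ⁻¹' ptIntegralSet f =
    {w | FBase.IsGeomPtIntegralAt (f.fiberToSpecResidueField y) w} from
      Set.ext fun w => fiberι_mem_ptIntegralSet_iff f y w]
  exact isOpen_isGeomPtIntegralAt (k := Y.residueField y) _

/-- Near a pointwise geometrically integral point, the specializations are pointwise geometrically integral. -/
theorem exists_open_piece_ptIntegral [IsLocallyNoetherian Y] [LocallyOfFiniteType f] {ξ : X}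
    (hξ : ξ ∈ ptIntegralSet f) : ∃ O : Set X, IsOpen O ∧ ξ ∈ O ∧ O ∩ closure {ξ} ⊆ ptIntegralSet f := by
  let η := f ξ
  obtain ⟨V, hV, hηV, -⟩ := exists_isAffineOpen_mem_and_subset (X := Y) (x := η) (U := ⊤) trivial
  haveI : IsNoetherianRing Γ(Y, V) := IsLocallyNoetherian.component_noetherian ⟨V, hV⟩
  haveI : NoetherianSpace ↥V.toScheme :=
    (TopologicalSpace.noetherianSpace_iff_of_homeomorph hV.isoSpec.hom.homeomorph).2
      (inferInstanceAs (NoetherianSpace (PrimeSpectrum Γ(Y, V))))
  have hop := isOpen_preimage_fiberι_ptIntegralSet f η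
  obtain ⟨T, hT, hTe⟩ := (f.fiberι η).isEmbedding.isInducing.isOpen_iff.1 hop
  have hξT : ξ ∈ T := by
    obtain ⟨w, hw⟩ : ξ ∈ Set.range (f.fiberι η) := by rw [f.range_fiberι]; rfl
    rw [← hw] at hξ ⊢
    exact hTe.ge hξ
  obtain ⟨U, hU, hξU, hUT⟩ := exists_isAffineOpen_mem_and_subset (X := X) (x := ξ) (U := ⟨T, hT⟩ ⊓ f ⁻¹ᵁ V) ⟨hξT, hηV⟩
  let g := U.ι ≫ f
  haveI : CompactSpace ↥U.toScheme := isCompact_iff_compactSpace.1 hU.isCompact
  haveI : QuasiCompact g := quasiCompact_of_compactSpace _
  haveI : LocallyOfFinitePresentation g := LocallyOfFinitePresentation.iff_locallyOfFiniteType.2 inferInstance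
  have hall : ∀ x, g x = η → x ∈ ptIntegralSet g := fun x hx => by
    rw [mem_ptIntegralSet_openImmersion]
    have hxT : U.ι x ∈ T := (hUT x.2).1
    obtain ⟨w, hw⟩ : U.ι x ∈ Set.range (f.fiberι η) := by
      rw [f.range_fiberι]
      exact (Scheme.Hom.comp_apply U.ι f x).symm.trans hx
    rw [← hw] at hxT ⊢
    exact hTe.le hxT
  obtain ⟨hgr, hn⟩ := (forall_mem_ptIntegralSet_iff_nGeom g η).1 hall
  obtain ⟨N, hηN, hN⟩ := exists_nGeom_const_near g η
  have hc : IsConstructible (V.ι ⁻¹' {y : Y | GeometricallyReduced (g.fiberToSpecResidueField y)}) :=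
    ((NearGen.isLocallyConstructible_geometricallyReduced g).preimage_of_isOpenEmbedding
      V.ι.isOpenEmbedding).isConstructible
  let η' : V.toScheme := ⟨η, hηV⟩
  obtain ⟨M, hM, ⟨m, hmM, hm⟩, hMsub⟩ := ConstrNoeth.exists_open_of_constructible hc
    (isIrreducible_singleton (x := η')).closure
    (closure_mono (Set.singleton_subset_iff.2 ⟨show GeometricallyReduced _ from hgr, subset_closure rfl⟩))
  have hηM : η' ∈ M := (specializes_iff_mem_closure.2 hm).mem_open hM hmM
  let M' : Set Y := V.ι '' M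
  have hM' : IsOpen M' := V.ι.isOpenEmbedding.isOpenMap _ hM
  refine ⟨(U : Set X) ∩ f ⁻¹' (N ∩ M'), U.2.inter ((N.2.inter hM').preimage f.continuous),
    ⟨hξU, hηN, η', hηM, (show V.ι η' = f ξ from rfl)⟩, ?_⟩
  rintro x ⟨⟨hxU, hxN, v, hvM, hv⟩, hxξ⟩
  have hsp : η ⤳ f x := (specializes_iff_mem_closure.2 hxξ).map f.continuous
  have hv' : v ∈ closure ({η'} : Set V.toScheme) := specializes_iff_mem_closure.1
    (V.ι.isOpenEmbedding.isInducing.specializes_iff.1 (by rw [hv]; exact hsp))
  have hred := hMsub ⟨hvM, hv'⟩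
  rw [Set.mem_preimage, hv] at hred
  obtain ⟨x₀, hx₀⟩ : x ∈ Set.range U.ι := by rw [Scheme.Opens.range_ι]; exact hxU
  have hgx : g x₀ = f x := by rw [Scheme.Hom.comp_apply, hx₀]
  have hn' : (nGeom g (f x)).1.toNat = (nGeom g (f x)).2.toNat := by rw [hN _ hxN hsp]; exact hn
  have h := (forall_mem_ptIntegralSet_iff_nGeom g (f x)).2 ⟨hred, hn'⟩ x₀ hgx
  rw [mem_ptIntegralSet_openImmersion, hx₀] at h
  exact h

/-- Over a locally Noetherian base the locus of a flat morphism of finite type is open. -/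
theorem isOpen_ptIntegralSet_noetherian [IsLocallyNoetherian Y] [Flat f] [LocallyOfFiniteType f] :
    IsOpen (ptIntegralSet f) := by
  haveI : IsLocallyNoetherian X := LocallyOfFiniteType.isLocallyNoetherian f
  refine isOpen_iff_forall_mem_open.2 fun x hx => ?_
  obtain ⟨W, hW, hxW, -⟩ := exists_isAffineOpen_mem_and_subset (X := X) (x := x) (U := ⊤) trivial
  haveI : NoetherianSpace ↥(W : Set X) := noetherianSpace_affineOpen hW
  suffices ∀ T : Set ↥(W : Set X), IsClosed T → ∃ O, IsOpen O ∧ (⟨x, hxW⟩ : ↥(W : Set X)) ∈ O ∧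
      ∀ a ∈ O ∩ T, a.1 ∈ ptIntegralSet f by
    obtain ⟨O, hO, hxO, hOE⟩ := this Set.univ isClosed_univ
    refine ⟨Subtype.val '' O, ?_, W.2.isOpenEmbedding_subtypeVal.isOpenMap _ hO, ⟨_, hxO, rfl⟩⟩
    rintro _ ⟨a, ha, rfl⟩
    exact hOE a ⟨ha, trivial⟩
  refine ConstrNoeth.irreducible_induction ⟨Set.univ, isOpen_univ, trivial, by simp⟩ ?_ ?_
  · rintro A B - - ⟨O, hO, hxO, hA⟩ ⟨O', hO', hxO', hB⟩
    exact ⟨O ∩ O', hO.inter hO', ⟨hxO, hxO'⟩, fun a ha =>
      ha.2.elim (fun h => hA a ⟨ha.1.1, h⟩) fun h => hB a ⟨ha.1.2, h⟩⟩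
  · intro T hT hirr ih
    by_cases hxT : (⟨x, hxW⟩ : ↥(W : Set X)) ∈ T
    · haveI : QuasiSober ↥(W : Set X) := W.2.isOpenEmbedding_subtypeVal.quasiSober
      have hgen := hirr.isGenericPoint_genericPoint hT
      obtain ⟨O₁, hO₁, hξO₁, hsub⟩ := exists_open_piece_ptIntegral f
        (mem_ptIntegralSet_of_specializes f ((hgen.specializes hxT).map continuous_subtype_val) hx)
      have hlt : T \ (Subtype.val ⁻¹' O₁) ⊂ T :=
        Set.sdiff_subset.ssubset_of_ne fun e => (e.ge hgen.mem).2 hξO₁
      obtain ⟨O₂, hO₂, hxO₂, hO₂E⟩ := ih _ (hT.sdiff (hO₁.preimage continuous_subtype_val)) hlt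
      refine ⟨O₂, hO₂, hxO₂, fun a ha => ?_⟩
      by_cases haO : a.1 ∈ O₁
      · exact hsub ⟨haO, specializes_iff_mem_closure.1 ((hgen.specializes ha.2).map continuous_subtype_val)⟩
      · exact hO₂E a ⟨ha.1, ha.2, haO⟩
    · exact ⟨Tᶜ, hT.isOpen_compl, hxT, fun a ha => absurd ha.2 ha.1⟩

/-- A flat finitely presented morphism over an affine base comes from a flat such morphism over a Noetherian base. -/
theorem exists_flat_model (R : CommRingCat.{u}) {W : Scheme.{u}} (g : W ⟶ Spec R) [LocallyOfFinitePresentation g]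
    [Flat g] [CompactSpace W] [QuasiSeparatedSpace W] :
    ∃ (i : (FPModelLib.ZIdx R)ᵒᵖ) (G : Scheme.{u}) (g₀ : G ⟶ (FPModelLib.zSys R).obj i) (q : W ⟶ G),
      Flat g₀ ∧ LocallyOfFinitePresentation g₀ ∧ IsPullback q g g₀ ((FPModelLib.zCone R).π.app i) := by
  obtain ⟨i, G, g₀, q, hm⟩ :=
    FPModelLib.exists_model (FPModelLib.zSys R) (FPModelLib.zCone R) (FPModelLib.isLimitZCone R)
      (show W ⟶ (FPModelLib.zCone R).pt from g)
  haveI := hm.compact
  haveI := hm.lfp
  let D := FPModelLib.zSys R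
  let c := FPModelLib.zCone R
  have hY : IsPullback (c.π.app i) (𝟙 c.pt) (𝟙 (D.obj i)) (c.π.app i) := IsPullback.id_vert _
  obtain ⟨k, hk⟩ := FlatStage.exists_flat D c i g₀ (𝟙 (D.obj i)) hY hm.isPullback (FPModelLib.isLimitZCone R)
  haveI := FPModelLib.prop_snd_of_baseChangeMap D g₀ k hk
  have h1 := hm.stage D c k
  exact ⟨k.left, _, pullback.snd g₀ (D.map k.hom), _, inferInstance, h1.lfp, h1.isPullback⟩

/-- An affine chart of a morphism over an affine chart of the base. -/
theorem exists_affine_chart [LocallyOfFinitePresentation f] (x : X) :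
    ∃ (R : CommRingCat.{u}) (W : Scheme.{u}) (_ : IsAffine W) (j : W ⟶ X) (g : W ⟶ Spec R), IsOpenImmersion j ∧
      LocallyOfFinitePresentation g ∧ (Flat f → Flat g) ∧ x ∈ Set.range j ∧
        j ⁻¹' ptIntegralSet f = ptIntegralSet g := by
  obtain ⟨V, hV, hxV, -⟩ := exists_isAffineOpen_mem_and_subset (X := Y) (x := f x) (U := ⊤) trivial
  obtain ⟨U, hU, hxU, hUV⟩ := exists_isAffineOpen_mem_and_subset (X := X) (x := x) (U := f ⁻¹ᵁ V) hxV
  let P := pullback f hV.fromSpec
  let j₀ := pullback.fst f hV.fromSpec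
  haveI : IsOpenImmersion j₀ := MorphismProperty.pullback_fst _ _ inferInstance
  have hU' : U.ι '' Set.univ ⊆ Set.range j₀ := by
    rw [Scheme.Pullback.range_fst, hV.range_fromSpec]
    rintro _ ⟨a, -, rfl⟩
    exact hUV a.2
  let k : U.toScheme ⟶ P := IsOpenImmersion.lift j₀ U.ι (by rwa [Set.image_univ] at hU')
  have hk : k ≫ j₀ = U.ι := IsOpenImmersion.lift_fac _ _ _
  haveI : IsOpenImmersion (k ≫ j₀) := by rw [hk]; infer_instance
  haveI : IsOpenImmersion k := IsOpenImmersion.of_comp k j₀
  haveI : LocallyOfFinitePresentation (pullback.snd f hV.fromSpec) := MorphismProperty.pullback_snd _ _ inferInstance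
  haveI : IsAffine U.toScheme := hU
  refine ⟨Γ(Y, V), U.toScheme, inferInstance, U.ι, k ≫ pullback.snd f hV.fromSpec, inferInstance, inferInstance,
    fun hf => ?_, ?_, ?_⟩
  · haveI : Flat (pullback.snd f hV.fromSpec) := MorphismProperty.pullback_snd _ _ hf
    infer_instance
  · rw [Scheme.Opens.range_ι]; exact hxU
  · ext a
    rw [Set.mem_preimage, mem_ptIntegralSet_openImmersion,
      ← mem_ptIntegralSet_of_isPullback f (IsPullback.of_hasPullback f hV.fromSpec) (k a), ← hk,
      Scheme.Hom.comp_apply]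

/-- The pointwise geometrically integral locus of a flat morphism of finite presentation is open. -/
theorem isOpen_ptIntegralSet [Flat f] [LocallyOfFinitePresentation f] : IsOpen (ptIntegralSet f) := by
  refine isOpen_iff_forall_mem_open.2 fun x hx => ?_
  obtain ⟨R, W, hW, j, g, hj, hg, hfl, ⟨a, rfl⟩, hje⟩ := exists_affine_chart f x
  haveI := hfl inferInstance
  obtain ⟨i, G, g₀, q, hfl₀, hlfp₀, hm⟩ := exists_flat_model R g
  have hopen : IsOpen (ptIntegralSet g) := by
    rw [show ptIntegralSet g = q ⁻¹' ptIntegralSet g₀ from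
      Set.ext fun b => (mem_ptIntegralSet_of_isPullback g₀ hm b).symm]
    exact (isOpen_ptIntegralSet_noetherian g₀).preimage q.continuous
  rw [← hje] at hopen
  exact ⟨j '' (j ⁻¹' ptIntegralSet f), Set.image_preimage_subset _ _, j.isOpenEmbedding.isOpenMap _ hopen,
    ⟨a, hx, rfl⟩⟩

/-- Over an affine Noetherian base the locus of an affine scheme of finite type is constructible. -/
theorem isConstructible_ptIntegralSet_affine {R : CommRingCat.{u}} [IsLocallyNoetherian (Spec R)] {W : Scheme.{u}}
    (g : W ⟶ Spec R) [LocallyOfFiniteType g] [QuasiCompact g] : IsConstructible (ptIntegralSet g) := by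
  haveI : IsLocallyNoetherian W := LocallyOfFiniteType.isLocallyNoetherian g
  haveI : CompactSpace W := QuasiCompact.compactSpace_of_compactSpace g
  haveI : AlgebraicGeometry.IsNoetherian W := ⟨⟩
  refine ConstrNoeth.isConstructible_of_irreducible fun T hT hirr hdense => ?_
  have hgen := hirr.isGenericPoint_genericPoint hT
  obtain ⟨η, hη⟩ : ∃ η : PrimeSpectrum R, g hirr.genericPoint = η := ⟨_, rfl⟩
  haveI : IsDomain (R ⧸ η.asIdeal) := inferInstance
  let i : Spec (CommRingCat.of (R ⧸ η.asIdeal)) ⟶ Spec R := Spec.map (CommRingCat.ofHom (Ideal.Quotient.mk η.asIdeal))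
  haveI : IsClosedImmersion i := IsClosedImmersion.spec_of_surjective _ Ideal.Quotient.mk_surjective
  haveI : IsLocallyNoetherian (Spec (CommRingCat.of (R ⧸ η.asIdeal))) := LocallyOfFiniteType.isLocallyNoetherian i
  haveI : LocallyOfFiniteType (pullback.snd g i) := MorphismProperty.pullback_snd _ _ inferInstance
  haveI : QuasiCompact (pullback.snd g i) := MorphismProperty.pullback_snd _ _ inferInstance
  obtain ⟨V, hVd, hVflat, -⟩ := GenFree.exists_good_open (pullback.snd g i)
  haveI := hVflat
  haveI : LocallyOfFiniteType (pullback.snd g i ∣_ V) := IsZariskiLocalAtTarget.restrict ‹_› V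
  let j := (pullback.snd g i ⁻¹ᵁ V).ι ≫ pullback.fst g i
  have hcl : IsPullback j (pullback.snd g i ∣_ V) g (V.ι ≫ i) :=
    ((isPullback_morphismRestrict (pullback.snd g i) V).flip).paste_horiz (IsPullback.of_hasPullback g i)
  have hopen : IsOpen (j ⁻¹' ptIntegralSet g) := by
    rw [show j ⁻¹' ptIntegralSet g = ptIntegralSet (pullback.snd g i ∣_ V) from
      Set.ext fun b => mem_ptIntegralSet_of_isPullback g hcl b]
    exact isOpen_ptIntegralSet_noetherian _
  haveI : IsPreimmersion j := inferInstanceAs (IsPreimmersion (_ ≫ _))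
  obtain ⟨O, hO, hOe⟩ := j.isEmbedding.isInducing.isOpen_iff.1 hopen
  -- the open part of the closed set lying over the flat locus
  have hrange : Set.range i = closure {η} := by
    refine (range_comap_of_surjective _ _ Ideal.Quotient.mk_surjective).trans ?_
    show PrimeSpectrum.zeroLocus (RingHom.ker (Ideal.Quotient.mk η.asIdeal) : Set R) =
      closure ({η} : Set (PrimeSpectrum R))
    rw [Ideal.mk_ker, PrimeSpectrum.closure_singleton]
  obtain ⟨S, hS, hSe⟩ := i.isClosedEmbedding.isInducing.isOpen_iff.1 V.2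
  have hmem : ∀ b ∈ T, g b ∈ S → b ∈ Set.range j := by
    intro b hb hbS
    obtain ⟨v, hv⟩ : g b ∈ Set.range i := by
      rw [hrange]
      exact specializes_iff_mem_closure.1 (hη ▸ (hgen.specializes hb).map g.continuous)
    obtain ⟨p, hp, hp'⟩ := Scheme.Pullback.exists_preimage_pullback (f := g) (g := i) b v hv.symm
    have hpV : p ∈ pullback.snd g i ⁻¹ᵁ V := by
      refine (Set.ext_iff.1 hSe (pullback.snd g i p)).1 ?_
      rw [Set.mem_preimage, hp', hv]
      exact hbS
    exact ⟨⟨p, hpV⟩, by rw [Scheme.Hom.comp_apply]; exact hp⟩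
  have hξS : g hirr.genericPoint ∈ S := by
    obtain ⟨v, hv⟩ := hVd.nonempty
    have h0 : (⊥ : PrimeSpectrum (R ⧸ η.asIdeal)) ∈ (V : Set (Spec (CommRingCat.of (R ⧸ η.asIdeal)))) :=
      Specializes.mem_open (X := Spec (CommRingCat.of (R ⧸ η.asIdeal))) (s := (V : Set _)) (y := v)
        ((PrimeSpectrum.le_iff_specializes _ v).1 bot_le) V.2 hv
    replace h0 := (Set.ext_iff.1 hSe _).2 h0
    rw [hη, show η = i (⊥ : PrimeSpectrum (R ⧸ η.asIdeal)) from PrimeSpectrum.ext (by
      show η.asIdeal = (⊥ : Ideal (R ⧸ η.asIdeal)).comap (Ideal.Quotient.mk η.asIdeal)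
      rw [← RingHom.ker_eq_comap_bot, Ideal.mk_ker])]
    exact h0
  refine ⟨(g ⁻¹' S) ∩ O, (hS.preimage g.continuous).inter hO, ?_, ?_⟩
  · obtain ⟨e, heS, heE, heT⟩ := mem_closure_iff.1 (hdense hgen.mem) _ (hS.preimage g.continuous) hξS
    obtain ⟨b, rfl⟩ := hmem e heT heS
    exact ⟨j b, ⟨heS, hOe.ge heE⟩, heT⟩
  · rintro e ⟨⟨heS, heO⟩, heT⟩
    obtain ⟨b, rfl⟩ := hmem e heT heS
    exact hOe.le heO

/-- The pointwise geometrically integral locus of a morphism of finite presentation is locally constructible. -/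
theorem isLocallyConstructible_ptIntegralSet [LocallyOfFinitePresentation f] :
    IsLocallyConstructible (ptIntegralSet f) := by
  intro x
  obtain ⟨R, W, hW, j, g, hj, hg, -, hx, hje⟩ := exists_affine_chart f x
  obtain ⟨i, G, g₀, q, hm⟩ :=
    FPModelLib.exists_model (FPModelLib.zSys R) (FPModelLib.zCone R) (FPModelLib.isLimitZCone R)
      (show W ⟶ (FPModelLib.zCone R).pt from g)
  haveI := hm.compact
  haveI := hm.qs
  haveI := hm.lfp
  haveI : QuasiCompact g₀ := quasiCompact_of_compactSpace _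
  haveI : IsLocallyNoetherian (Spec (Opposite.unop ((FPModelLib.zRing R).op.obj i))) :=
    inferInstanceAs (IsLocallyNoetherian ((FPModelLib.zSys R).obj i))
  have hE : IsConstructible (ptIntegralSet g₀) := isConstructible_ptIntegralSet_affine g₀
  haveI : IsAffineHom ((FPModelLib.zCone R).π.app i) := inferInstanceAs (IsAffineHom (Spec.map _))
  haveI : IsAffineHom q := MorphismProperty.of_isPullback hm.isPullback.flip
    ‹IsAffineHom ((FPModelLib.zCone R).π.app i)›
  have hE' : IsConstructible (j ⁻¹' ptIntegralSet f) := by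
    rw [hje, show ptIntegralSet g = q ⁻¹' ptIntegralSet g₀ from
      Set.ext fun b => (mem_ptIntegralSet_of_isPullback g₀ hm.isPullback b).symm]
    refine hE.preimage q.continuous fun t hto htr => ?_
    intro t' ht' ht'o
    exact QuasiSeparatedSpace.inter_isCompact _ _ (hto.preimage q.continuous)
      (q.isCompact_preimage (U := ⟨t, hto⟩) htr.isCompact) ht'o ht'
  refine ⟨j.opensRange, j.opensRange.2.mem_nhds hx, j.opensRange.2, ?_⟩
  let h := j.isOpenEmbedding.isEmbedding.toHomeomorph
  have h1 := hE'.preimage_of_isOpenEmbedding h.symm.isOpenEmbedding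
  have h2 : (Subtype.val ⁻¹' ptIntegralSet f : Set ↑(Set.range j)) = h.symm ⁻¹' (j ⁻¹' ptIntegralSet f) := by
    ext z
    show z.1 ∈ ptIntegralSet f ↔ j (h.symm z) ∈ ptIntegralSet f
    rw [show j (h.symm z) = z.1 from congrArg Subtype.val (h.apply_symm_apply z)]
  rw [← h2] at h1
  exact h1

/-- The fibres of a proper flat morphism of finite presentation that are pointwise geometrically integral form an
open set. -/
theorem isOpen_forall_ptIntegral [IsProper f] [Flat f] [LocallyOfFinitePresentation f] :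
    IsOpen {y : Y | ∀ x : ↥(f.fiber y), FBase.IsGeomPtIntegralAt (f.fiberToSpecResidueField y) x} := by
  rw [show {y : Y | ∀ x : ↥(f.fiber y), FBase.IsGeomPtIntegralAt (f.fiberToSpecResidueField y) x} =
    (f '' (ptIntegralSet f)ᶜ)ᶜ from Set.ext fun y => by
      refine (forall_mem_ptIntegralSet_iff f y).symm.trans ⟨fun h => ?_, fun h x hx => ?_⟩
      · rintro ⟨x, hx, hxy⟩; exact hx (h x hxy)
      · by_contra hn; exact h ⟨x, hn, hx⟩]
  exact (f.isClosedMap _ (isOpen_ptIntegralSet f).isClosed_compl).isOpen_compl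

end Groth.Agent.GenIrredLib
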