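import Mathlib
import Groth.Agent.GenIrredLib.PtIntegralFibres
import Groth.Agent.GeomRk.Fibre

/-!
# Flat morphisms with geometrically reduced fibres over reduced bases
-/

set_option autoImplicit false
set_option backward.isDefEq.respectTransparency false
set_option linter.style.haveILetI false

universe u

open CategoryTheory CategoryTheory.Limits AlgebraicGeometry IsLocalRing TopologicalSpace Topology
open scoped TensorProduct

namespace Groth.Agent.GenIrredLib

variable {X Y : Scheme.{u}} (f : X ⟶ Y)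

/-- The points at which the fibre is geometrically reduced. -/
def geomRedSet : Set X :=
  {x | FBase.IsGeomReducedAt (f.fiberToSpecResidueField (f.base x)) (f.asFiber x)}

theorem fiberι_mem_geomRedSet_iff (y : Y) (w : f.fiber y) :
    f.fiberι y w ∈ geomRedSet f ↔ FBase.IsGeomReducedAt (f.fiberToSpecResidueField y) w := by
  have h : ∀ (y' : Y) (_ : y' = y) (w' : f.fiber y'), f.fiberι y' w' = f.fiberι y w →
      (FBase.IsGeomReducedAt (f.fiberToSpecResidueField y') w' ↔
        FBase.IsGeomReducedAt (f.fiberToSpecResidueField y) w) := by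
    rintro y' rfl w' hw'
    rw [(f.fiberι y').isEmbedding.injective hw']
  exact h _ ((f.range_fiberι y).le ⟨w, rfl⟩) _ (f.fiberι_asFiber _)

/-- The geometrically reduced locus is compatible with base change. -/
theorem mem_geomRedSet_of_isPullback {X' Y' : Scheme.{u}} {f' : X' ⟶ Y'} {g : Y' ⟶ Y} {g' : X' ⟶ X}
    (hc : IsPullback g' f' f g) (z : X') : g' z ∈ geomRedSet f ↔ z ∈ geomRedSet f' := by
  obtain ⟨w, hw⟩ : g' z ∈ Set.range (f.fiberι (g (f' z))) := by
    rw [f.range_fiberι]
    show f (g' z) = g (f' z)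
    rw [← Scheme.Hom.comp_apply, hc.w, Scheme.Hom.comp_apply]
  rw [← hw, fiberι_mem_geomRedSet_iff]
  exact isGeomReducedAt_fiber_iff hc (f' z) (f'.asFiber z) rfl w (by rw [hw, f'.fiberι_asFiber z])

/-- Over a field a geometrically reduced point has a reduced local ring. -/
theorem isReduced_stalk_of_mem_geomRedSet {k : Type u} [Field k] {Z : Scheme.{u}}
    (g : Z ⟶ Spec (CommRingCat.of k)) (z : Z) (hz : z ∈ geomRedSet g) : _root_.IsReduced (Z.presheaf.stalk z) := by
  obtain ⟨y, hy⟩ : ∃ y, g z = y := ⟨_, rfl⟩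
  obtain ⟨w, rfl⟩ : z ∈ Set.range (g.fiberι y) := by rw [g.range_fiberι]; exact hy
  rw [fiberι_mem_geomRedSet_iff] at hz
  have hgr := isGeomReducedAt_of_isPullback (L := (Spec (CommRingCat.of k)).residueField y)
    (IsPullback.of_hasPullback g ((Spec (CommRingCat.of k)).fromSpecResidueField y)) w hz
  let π := pullback.fst g (Spec.map (CommRingCat.ofHom (algebraMap k k)))
  haveI : IsIso (Spec.map (CommRingCat.ofHom (algebraMap k k))) := by
    rw [show Spec.map (CommRingCat.ofHom (algebraMap k k)) = 𝟙 _ from Spec.map_id (CommRingCat.of k)]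
    infer_instance
  haveI : IsIso π := inferInstanceAs (IsIso (pullback.fst g _))
  obtain ⟨x', hx'⟩ := π.surjective (g.fiberι y w)
  haveI : _root_.IsReduced ((pullback g (Spec.map (CommRingCat.ofHom (algebraMap k k)))).presheaf.stalk x') :=
    hgr k x' hx'
  rw [← hx']
  exact isReduced_of_injective (asIso (π.stalkMap x')).commRingCatIsoToRingEquiv.toRingHom
    (asIso (π.stalkMap x')).commRingCatIsoToRingEquiv.injective

/-- An open subscheme inside the geometrically reduced locus is geometrically reduced over the base. -/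
theorem geometricallyReduced_openImmersion {V : Scheme.{u}} (j : V ⟶ X) [IsOpenImmersion j]
    (h : Set.range j ⊆ geomRedSet f) : GeometricallyReduced (j ≫ f) := by
  refine ⟨fun K _ a W p q H => ?_⟩
  let n : W ⟶ pullback f a := pullback.lift (p ≫ j) q (by rw [Category.assoc]; exact H.w)
  have hn : IsPullback p n j (pullback.fst f a) := by
    refine IsPullback.of_bot (v₂₁ := pullback.snd f a) (v₂₂ := f) (h₃₁ := a) ?_
      (pullback.lift_fst _ _ _).symm (IsPullback.of_hasPullback _ _)
    rw [pullback.lift_snd]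
    exact H
  haveI : IsOpenImmersion n := MorphismProperty.of_isPullback hn ‹IsOpenImmersion j›
  haveI : ∀ w : W, _root_.IsReduced (W.presheaf.stalk w) := fun w => by
    have h1 : pullback.fst f a (n w) ∈ geomRedSet f := h ⟨p w, by
      rw [← Scheme.Hom.comp_apply, ← Scheme.Hom.comp_apply, hn.w]⟩
    haveI := isReduced_stalk_of_mem_geomRedSet _ _
      ((mem_geomRedSet_of_isPullback f (IsPullback.of_hasPullback f a) (n w)).1 h1)
    exact isReduced_of_injective (asIso (n.stalkMap w)).commRingCatIsoToRingEquiv.symm.toRingHom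
      (asIso (n.stalkMap w)).commRingCatIsoToRingEquiv.symm.injective
  exact isReduced_of_isReduced_stalk W

/-- Base change of a flat affine scheme with geometrically reduced fibres over a Noetherian ring to a reduced ring. -/
theorem isReduced_pullback_of_noetherian {R₀ R : CommRingCat.{u}} [IsNoetherianRing R₀] [_root_.IsReduced R]
    (φ : R₀ ⟶ R) {V : Scheme.{u}} [IsAffine V] (g : V ⟶ Spec R₀) [Flat g] [GeometricallyReduced g] :
    AlgebraicGeometry.IsReduced (pullback g (Spec.map φ)) := by
  let C := Γ(V, ⊤)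
  let g' : Spec C ⟶ Spec R₀ := V.isoSpec.inv ≫ g
  let ψ := Spec.preimage g'
  have hψ : Spec.map ψ = g' := Spec.map_preimage _
  letI : Algebra R₀ C := ψ.hom.toAlgebra
  letI : Algebra R₀ R := φ.hom.toAlgebra
  haveI : GeometricallyReduced g' := (MorphismProperty.cancel_left_of_respectsIso @GeometricallyReduced _ g).2 ‹_›
  haveI : Flat g' := inferInstanceAs (Flat (V.isoSpec.inv ≫ g))
  haveI : Flat (Spec.map ψ) := hψ ▸ ‹Flat g'›
  haveI : GeometricallyReduced (Spec.map ψ) := hψ ▸ ‹GeometricallyReduced g'›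
  haveI : Module.Flat R₀ C := RingHom.flat_algebraMap_iff.1 ((HasRingHomProperty.Spec_iff (P := @Flat)).1 ‹Flat (Spec.map ψ)›)
  haveI : _root_.IsReduced (C ⊗[R₀] R) := IsReduced.tensorProduct_of_flat_of_forall_fg fun B hB => by
    haveI : Algebra.FiniteType R₀ B := B.fg_iff_finiteType.1 hB
    haveI : IsNoetherianRing B := Algebra.FiniteType.isNoetherianRing R₀ B
    haveI : _root_.IsReduced B := isReduced_of_injective B.val Subtype.val_injective
    haveI : AlgebraicGeometry.IsReduced (Spec (CommRingCat.of B)) := inferInstance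
    let s : Spec (CommRingCat.of B) ⟶ Spec R₀ := Spec.map (CommRingCat.ofHom (algebraMap R₀ B))
    haveI : AlgebraicGeometry.IsReduced (pullback (Spec.map ψ) s) := inferInstance
    haveI : AlgebraicGeometry.IsReduced (Spec (CommRingCat.of (C ⊗[R₀] B))) :=
      isReduced_of_isOpenImmersion (pullbackSpecIso R₀ C B).inv
    exact (affine_isReduced_iff _).1 ‹_›
  haveI : AlgebraicGeometry.IsReduced (Spec (CommRingCat.of (C ⊗[R₀] R))) := inferInstance
  haveI : AlgebraicGeometry.IsReduced (pullback (Spec.map ψ) (Spec.map φ)) :=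
    isReduced_of_isOpenImmersion (pullbackSpecIso R₀ C R).hom
  let e : pullback g (Spec.map φ) ⟶ pullback (Spec.map ψ) (Spec.map φ) :=
    pullback.map _ _ _ _ V.isoSpec.hom (𝟙 _) (𝟙 _) (by simp [hψ, g']) (by simp)
  exact isReduced_of_isOpenImmersion e

/-- A flat scheme of finite presentation with geometrically reduced fibre at a point over a reduced local ring has
reduced local ring there. -/
theorem isReduced_stalk_of_mem_geomRedSet_of_flat [Flat f] [LocallyOfFinitePresentation f] (x : X)
    (hy : _root_.IsReduced (Y.presheaf.stalk (f x))) (hx : x ∈ geomRedSet f) :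
    _root_.IsReduced (X.presheaf.stalk x) := by
  let R := Y.presheaf.stalk (f x)
  haveI : _root_.IsReduced R := hy
  let i : Spec R ⟶ Y := Y.fromSpecStalk (f x)
  obtain ⟨x', hx', hfx'⟩ := Scheme.Pullback.exists_preimage_pullback (f := f) (g := i) x (closedPoint R)
    Scheme.fromSpecStalk_closedPoint.symm
  haveI : Flat (pullback.snd f i) := MorphismProperty.pullback_snd _ _ inferInstance
  haveI : LocallyOfFinitePresentation (pullback.snd f i) := MorphismProperty.pullback_snd _ _ inferInstance
  rw [← hx'] at hx ⊢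
  rw [mem_geomRedSet_of_isPullback f (IsPullback.of_hasPullback f i)] at hx
  have hop : IsOpen (geomRedSet (pullback.snd f i)) := GeomRk.isOpen_geomReduced_of_flat _
  obtain ⟨U, hU, hxU, hUle⟩ := exists_isAffineOpen_mem_and_subset (X := pullback f i) (x := x')
    (U := ⟨geomRedSet (pullback.snd f i), hop⟩) hx
  let g : U.toScheme ⟶ Spec R := U.ι ≫ pullback.snd f i
  haveI : IsAffine U.toScheme := hU
  obtain ⟨k, G, g₀, q, hfl₀, hlfp₀, hm⟩ := exists_flat_model R g
  have hq : q ⟨x', hxU⟩ ∈ geomRedSet g₀ := by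
    rw [mem_geomRedSet_of_isPullback g₀ hm]
    haveI : GeometricallyReduced g := geometricallyReduced_openImmersion _ U.ι (by
      rw [Scheme.Opens.range_ι]; exact hUle)
    obtain ⟨w, hw⟩ : (⟨x', hxU⟩ : U.toScheme) ∈ Set.range (g.fiberι (g ⟨x', hxU⟩)) := by rw [g.range_fiberι]; rfl
    rw [← hw, fiberι_mem_geomRedSet_iff]
    exact isGeomReducedAt_of_geometricallyReduced
      (k := (Spec R).residueField (g ⟨x', hxU⟩)) inferInstance w
  haveI : LocallyOfFinitePresentation g₀ := hlfp₀
  haveI := hfl₀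
  obtain ⟨V, hV, hqV, hVle⟩ := exists_isAffineOpen_mem_and_subset (X := G) (x := q ⟨x', hxU⟩)
    (U := ⟨geomRedSet g₀, GeomRk.isOpen_geomReduced_of_flat g₀⟩) hq
  haveI : GeometricallyReduced (V.ι ≫ g₀) := geometricallyReduced_openImmersion g₀ V.ι (by
    rw [Scheme.Opens.range_ι]; exact hVle)
  haveI : IsAffine V.toScheme := hV
  haveI : IsNoetherianRing ((FPModelLib.zRing R).op.obj k).unop :=
    haveI : IsLocallyNoetherian (Spec ((FPModelLib.zRing R).op.obj k).unop) :=
      inferInstanceAs (IsLocallyNoetherian ((FPModelLib.zSys R).obj k))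
    isLocallyNoetherian_Spec.1 this
  haveI : AlgebraicGeometry.IsReduced (pullback (V.ι ≫ g₀) ((FPModelLib.zCone R).π.app k)) :=
    isReduced_pullback_of_noetherian (R₀ := ((FPModelLib.zRing R).op.obj k).unop) (R := R) _ (V.ι ≫ g₀)
  let j : (q ⁻¹ᵁ V).toScheme ⟶ pullback (V.ι ≫ g₀) ((FPModelLib.zCone R).π.app k) :=
    ((isPullback_morphismRestrict q V).paste_vert hm).isoPullback.hom
  haveI : AlgebraicGeometry.IsReduced (q ⁻¹ᵁ V).toScheme := isReduced_of_isOpenImmersion j
  let v : (q ⁻¹ᵁ V).toScheme := ⟨⟨x', hxU⟩, hqV⟩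
  let m := (q ⁻¹ᵁ V).ι ≫ U.ι ≫ pullback.fst f i
  have hmv : m v = pullback.fst f i x' := rfl
  haveI : Flat i := GeomRedPtLib.flat_fromSpecStalk' (f x)
  haveI : Flat m := inferInstanceAs (Flat (_ ≫ _ ≫ _))
  haveI : IsPreimmersion m := inferInstanceAs (IsPreimmersion (_ ≫ _ ≫ _))
  rw [← hmv]
  letI := (m.stalkMap v).hom.toAlgebra
  haveI : IsLocalHom (algebraMap (X.presheaf.stalk (m v)) ((q ⁻¹ᵁ V).toScheme.presheaf.stalk v)) :=
    inferInstanceAs (IsLocalHom (m.stalkMap v).hom)
  haveI : Module.Flat (X.presheaf.stalk (m v)) ((q ⁻¹ᵁ V).toScheme.presheaf.stalk v) := Flat.stalkMap m v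
  haveI := Module.FaithfullyFlat.of_flat_of_isLocalHom (A := X.presheaf.stalk (m v))
    (B := (q ⁻¹ᵁ V).toScheme.presheaf.stalk v)
  exact isReduced_of_injective (algebraMap (X.presheaf.stalk (m v)) ((q ⁻¹ᵁ V).toScheme.presheaf.stalk v))
    (FaithfulSMul.algebraMap_injective _ _)

end Groth.Agent.GenIrredLib
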