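import Mathlib
import Groth.Agent.GenIrredLib.GeomRedReduced
import Groth.Agent.OpenDim.Flatness
import Groth.Agent.OpenDim.Conv
import Groth.Agent.UnivOpenAtLib.Basic
import Groth.Agent.FpqcDesc.Topo
import Groth.Agent.DVRCrit.Local

/-!
# Universally open neighbourhoods of geometrically reduced points
-/

set_option autoImplicit false
set_option backward.isDefEq.respectTransparency false
set_option linter.style.haveILetI false

universe u

open CategoryTheory CategoryTheory.Limits AlgebraicGeometry TopologicalSpace Topology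

namespace Groth.Agent.GenIrredLib

/-- A geometrically reduced point of a fibre with universally open generizations in it has a universally open
neighbourhood with geometrically reduced fibres. -/
theorem exists_universallyOpen_geomRed_nhd {X Y : Scheme.{u}} [IsLocallyNoetherian Y] (f : X ⟶ Y)
    [LocallyOfFiniteType f] (x : X)
    (hmax : ∀ ξ : X, f ξ = f x → ξ ⤳ x → OpenDim.MaxInFibre f ξ → EGA43.IsUnivOpenAt f ξ)
    (hx : x ∈ geomRedSet f) :
    ∃ U : X.Opens, x ∈ U ∧ UniversallyOpen (U.ι ≫ f) ∧ ∀ x' ∈ U, x' ∈ geomRedSet f := by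
  let I := Scheme.IdealSheafData.vanishingIdeal (⊤ : Closeds Y)
  let i : I.subscheme ⟶ Y := I.subschemeι
  haveI : AlgebraicGeometry.IsReduced I.subscheme := DVRCrit.isReduced_vanishingIdeal _
  haveI : Surjective i := ⟨fun y => (Set.ext_iff.1 (Scheme.IdealSheafData.range_subschemeι I) y).2 (by
    rw [Scheme.IdealSheafData.coe_support_vanishingIdeal]; trivial)⟩
  haveI : IsLocallyNoetherian I.subscheme := LocallyOfFiniteType.isLocallyNoetherian i
  let f₀ := pullback.snd f i
  let π := pullback.fst f i
  haveI : IsClosedImmersion π := MorphismProperty.pullback_fst _ _ inferInstance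
  haveI : Surjective π := MorphismProperty.pullback_fst _ _ inferInstance
  haveI : LocallyOfFiniteType f₀ := MorphismProperty.pullback_snd _ _ inferInstance
  haveI : LocallyOfFinitePresentation f₀ := LocallyOfFinitePresentation.iff_locallyOfFiniteType.2 inferInstance
  have hπ : ∀ a, f (π a) = i (f₀ a) := fun a => by
    rw [← Scheme.Hom.comp_apply, pullback.condition, Scheme.Hom.comp_apply]
  obtain ⟨x₀, hx₀⟩ := π.surjective x
  have H := IsPullback.of_hasPullback f i
  have hflat : (f₀.stalkMap x₀).hom.Flat := by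
    refine OpenDim.flat_of_univOpen_geomReduced f₀ x₀ (fun ξ hξ hξx hmx => ?_)
      ((mem_geomRedSet_of_isPullback f H x₀).1 (by rw [hx₀]; exact hx)) inferInstance
    refine UnivOpenAtLib.univOpenAt_baseChange (hmax (π ξ) ?_ ?_ ?_) H ξ rfl
    · rw [hπ, hξ, ← hπ, hx₀]
    · exact hx₀ ▸ hξx.map π.continuous
    · intro x' hfx' hsp
      obtain ⟨a, rfl⟩ := π.surjective x'
      rw [hmx a (i.isClosedEmbedding.injective (by rw [← hπ, ← hπ, hfx']))
        (π.isClosedEmbedding.isInducing.specializes_iff.1 hsp)]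
  have hW : IsOpen {a | (f₀.stalkMap a).hom.Flat ∧ a ∈ geomRedSet f₀} := GeomRk.isOpen_geomReduced f₀
  let W : (pullback f i).Opens := ⟨_, hW⟩
  have hbij : Function.Bijective π := ⟨π.isClosedEmbedding.injective, π.surjective⟩
  have hUopen : IsOpen (π '' W) := by
    rw [← isClosed_compl_iff, ← Set.image_compl_eq hbij]
    exact π.isClosedMap _ W.2.isClosed_compl
  let U : X.Opens := ⟨π '' W, hUopen⟩
  have hxW : x₀ ∈ W := ⟨hflat, (mem_geomRedSet_of_isPullback f H x₀).1 (by rw [hx₀]; exact hx)⟩
  have hW' : π ⁻¹ᵁ U = W := TopologicalSpace.Opens.ext (hbij.1.preimage_image _)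
  refine ⟨U, ⟨x₀, hxW, hx₀⟩, ?_, ?_⟩
  · let g := (π ⁻¹ᵁ U).ι ≫ f₀
    haveI : Flat g := by
      rw [Flat.iff_flat_stalkMap]
      intro a
      rw [Scheme.Hom.stalkMap_comp, CommRingCat.hom_comp]
      have ha : (π ⁻¹ᵁ U).ι a ∈ W := hW' ▸ a.2
      exact (RingHom.Flat.comp ha.1 (Flat.stalkMap _ a))
    haveI : UniversallyOpen g := inferInstance
    haveI := SchTopo.universallyOpen_of_surjective_closedImmersion i
    haveI : UniversallyOpen ((π ∣_ U) ≫ U.ι ≫ f) := by
      rw [← Category.assoc, morphismRestrict_ι, Category.assoc, pullback.condition, ← Category.assoc]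
      infer_instance
    haveI : Surjective (π ∣_ U) := IsZariskiLocalAtTarget.restrict ‹Surjective π› U
    exact SchTopo.universallyOpen_of_surjective_comp (π ∣_ U) (U.ι ≫ f)
  · rintro _ ⟨a, ha, rfl⟩
    exact (mem_geomRedSet_of_isPullback f H a).2 ha.2

end Groth.Agent.GenIrredLib
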