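import Mathlib
import Groth.Agent.GenIrredLib.SectionModel
import Groth.Agent.GenIrredLib.SectionLocal
import Groth.Agent.GenIrredLib.SectionFlat
import Groth.Agent.GenIrredLib.GeomRedReduced
import Groth.Agent.GenIrredLib.UnivOpenGeomRed
import Groth.Agent.OpenDim.SectionConst

/-!
# Section components of locally constant dimension
-/

set_option autoImplicit false
set_option backward.isDefEq.respectTransparency false
set_option linter.style.haveILetI false

universe u

open CategoryTheory CategoryTheory.Limits AlgebraicGeometry TopologicalSpace Topology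
open Groth.Agent.OpenDim (trd)

namespace Groth.Agent.GenIrredLib

/-- A set containing all generizations of a point and open pieces of the closures of its points is a
neighbourhood of the point. -/
theorem mem_nhds_of_pieces {X : Scheme.{u}} [IsLocallyNoetherian X] {E : Set X} {x : X}
    (hgen : ∀ ξ, ξ ⤳ x → ξ ∈ E) (hpiece : ∀ ξ ∈ E, ∃ O : Set X, IsOpen O ∧ ξ ∈ O ∧ O ∩ closure {ξ} ⊆ E) :
    E ∈ 𝓝 x := by
  obtain ⟨W, hW, hxW, -⟩ := exists_isAffineOpen_mem_and_subset (X := X) (x := x) (U := ⊤) trivial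
  haveI : NoetherianSpace ↥(W : Set X) := noetherianSpace_affineOpen hW
  suffices ∀ T : Set ↥(W : Set X), IsClosed T → ∃ O, IsOpen O ∧ (⟨x, hxW⟩ : ↥(W : Set X)) ∈ O ∧
      ∀ a ∈ O ∩ T, a.1 ∈ E by
    obtain ⟨O, hO, hxO, hOE⟩ := this Set.univ isClosed_univ
    refine Filter.mem_of_superset ((W.2.isOpenEmbedding_subtypeVal.isOpenMap _ hO).mem_nhds ⟨_, hxO, rfl⟩) ?_
    rintro _ ⟨a, ha, rfl⟩
    exact hOE a ⟨ha, trivial⟩
  refine ConstrNoeth.irreducible_induction ⟨Set.univ, isOpen_univ, trivial, by simp⟩ ?_ ?_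
  · rintro A B - - ⟨O, hO, hxO, hA⟩ ⟨O', hO', hxO', hB⟩
    exact ⟨O ∩ O', hO.inter hO', ⟨hxO, hxO'⟩, fun a ha =>
      ha.2.elim (fun h => hA a ⟨ha.1.1, h⟩) fun h => hB a ⟨ha.1.2, h⟩⟩
  · intro T hT hirr ih
    by_cases hxT : (⟨x, hxW⟩ : ↥(W : Set X)) ∈ T
    · haveI : QuasiSober ↥(W : Set X) := W.2.isOpenEmbedding_subtypeVal.quasiSober
      have hg := hirr.isGenericPoint_genericPoint hT
      obtain ⟨O₁, hO₁, hξO₁, hsub⟩ := hpiece _ (hgen _ ((hg.specializes hxT).map continuous_subtype_val))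
      have hlt : T \ (Subtype.val ⁻¹' O₁) ⊂ T :=
        Set.sdiff_subset.ssubset_of_ne fun e => (e.ge hg.mem).2 hξO₁
      obtain ⟨O₂, hO₂, hxO₂, hO₂E⟩ := ih _ (hT.sdiff (hO₁.preimage continuous_subtype_val)) hlt
      refine ⟨O₂, hO₂, hxO₂, fun a ha => ?_⟩
      by_cases haO : a.1 ∈ O₁
      · exact hsub ⟨haO, specializes_iff_mem_closure.1 ((hg.specializes ha.2).map continuous_subtype_val)⟩
      · exact hO₂E a ⟨ha.1, ha.2, haO⟩
    · exact ⟨Tᶜ, hT.isOpen_compl, hxT, fun a ha => absurd ha.2 ha.1⟩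

/-- A constructible set of an affine scheme containing the generizations of a point is a neighbourhood of it. -/
theorem mem_nhds_of_isConstructible {R : Type u} [CommRing R] {E : Set (PrimeSpectrum R)} (hE : IsConstructible E)
    {y : PrimeSpectrum R} (h : ∀ z, z ⤳ y → z ∈ E) : E ∈ 𝓝 y := by
  obtain ⟨S, _, φ, hφ⟩ := PrimeSpectrum.exists_range_eq_of_isConstructible hE.compl
  rw [← compl_compl E, ← mem_interior_iff_mem_nhds, interior_compl, Set.mem_compl_iff]
  · rw [← hφ, PrimeSpectrum.closure_range_comap]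
    intro hy
    obtain ⟨p, hp, hle⟩ := Ideal.exists_minimalPrimes_le ((PrimeSpectrum.mem_zeroLocus _ _).1 hy)
    haveI := hp.1.1
    obtain ⟨q, hq, hqp⟩ := Ideal.exists_comap_eq_of_mem_minimalPrimes φ p hp
    let P : PrimeSpectrum R := ⟨p, hp.1.1⟩
    have hP : P ∈ Eᶜ := hφ ▸ ⟨⟨q, hq⟩, PrimeSpectrum.ext hqp.2⟩
    exact hP (h P ((PrimeSpectrum.le_iff_specializes P y).1 hle))

variable {X Y : Scheme.{u}} (f : X ⟶ Y) (g : Y ⟶ X)

/-- The component of a point through the section is geometrically irreducible. -/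
def CompGI (y : Y) : Prop :=
  ∀ (K : Type u) [Field K] (a : Spec (CommRingCat.of K) ⟶ Y), a (IsLocalRing.closedPoint K) = y →
    IsIrreducible (pullback.fst f a ⁻¹' connectedComponentIn (f.base ⁻¹' {y}) (g.base y))

theorem compGI_iff (y : Y) : CompGI f g y ↔
    ∀ (K : Type u) [Field K] [Algebra (IsLocalRing.ResidueField (Y.presheaf.stalk y)) K],
      IsIrreducible ((FBase.bcπ (f.fiberToSpecResidueField y) K ≫ f.fiberι y).base ⁻¹'
        connectedComponentIn (f.base ⁻¹' {y}) (g.base y)) := by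
  constructor
  · intro h K _ _
    letI : Algebra (Y.residueField y) K :=
      inferInstanceAs (Algebra (IsLocalRing.ResidueField (Y.presheaf.stalk y)) K)
    let e : FBase.bc (k := Y.residueField y) (f.fiberToSpecResidueField y) K ≅
        pullback f (Spec.map (CommRingCat.ofHom (algebraMap (Y.residueField y) K)) ≫
          Y.fromSpecResidueField y) := pullbackLeftPullbackSndIso f (Y.fromSpecResidueField y) _
    have hirr := h K (Spec.map (CommRingCat.ofHom (algebraMap (Y.residueField y) K)) ≫ Y.fromSpecResidueField y)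
      (by rw [Scheme.Hom.comp_apply]; exact Scheme.fromSpecResidueField_apply _ _)
    have him := hirr.image e.inv.base e.inv.continuous.continuousOn
    have he : e.hom ≫ pullback.fst f _ = FBase.bcπ (k := Y.residueField y) (f.fiberToSpecResidueField y) K ≫ f.fiberι y :=
      pullbackLeftPullbackSndIso_hom_fst _ _ _
    convert him using 1
    ext z
    constructor
    · intro hz
      refine ⟨e.hom z, ?_, by rw [← Scheme.Hom.comp_apply, e.hom_inv_id]; rfl⟩
      rw [Set.mem_preimage, ← Scheme.Hom.comp_apply, he]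
      exact hz
    · rintro ⟨b, hb, rfl⟩
      show (FBase.bcπ (k := Y.residueField y) (f.fiberToSpecResidueField y) K ≫ f.fiberι y) (e.inv b) ∈
        connectedComponentIn (f.base ⁻¹' {y}) (g.base y)
      rw [← he, ← Scheme.Hom.comp_apply, Iso.inv_hom_id_assoc]
      exact hb
  · intro h K _ a ha
    subst ha
    have := OpenDim.isIrreducible_bc_preimage f a (IsLocalRing.closedPoint K) _ (connectedComponentIn_subset _ _) h
    convert this using 1
    ext z
    exact ⟨fun hz => ⟨Subsingleton.elim (α := PrimeSpectrum K) _ _, hz⟩, fun hz => hz.2⟩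

variable {f g}

/-- A component after base change is the preimage of the component. -/
theorem comp_baseChange (hg : g ≫ f = 𝟙 Y) {X' Y' : Scheme.{u}} {f' : X' ⟶ Y'} {g' : X' ⟶ X} {b : Y' ⟶ Y}
    (hc : IsPullback g' f' f b) {s' : Y' ⟶ X'} (hs' : s' ≫ f' = 𝟙 Y') (hsg : s' ≫ g' = b ≫ g) (y' : Y') (v : X')
    (hv : f' v = y') :
    v ∈ connectedComponentIn (f'.base ⁻¹' {y'}) (s'.base y') ↔
      g' v ∈ connectedComponentIn (f.base ⁻¹' {b y'}) (g.base (b y')) := by
  have h := Set.ext_iff.1 (sectionComponents_baseChange f g hg f' g' b hc s' hs' hsg) v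
  subst hv
  have h1 : f.base (g' v) = b (f' v) := by
    show f (g' v) = _
    rw [← Scheme.Hom.comp_apply, hc.w, Scheme.Hom.comp_apply]
  rw [← h1]
  exact h

/-- Geometric irreducibility of the component ascends along base change. -/
theorem compGI_baseChange (hg : g ≫ f = 𝟙 Y) {X' Y' : Scheme.{u}} {f' : X' ⟶ Y'} {g' : X' ⟶ X} {b : Y' ⟶ Y}
    (hc : IsPullback g' f' f b) {s' : Y' ⟶ X'} (hs' : s' ≫ f' = 𝟙 Y') (hsg : s' ≫ g' = b ≫ g) (y' : Y')
    (h : CompGI f g (b y')) : CompGI f' s' y' := by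
  intro K _ a ha
  let e := ((IsPullback.of_hasPullback f' a).paste_horiz hc).isoPullback
  have him := (h K (a ≫ b) (by rw [Scheme.Hom.comp_apply, ha])).image e.inv.base e.inv.continuous.continuousOn
  have he : e.hom ≫ pullback.fst f (a ≫ b) = pullback.fst f' a ≫ g' := IsPullback.isoPullback_hom_fst _
  have hfib : ∀ z, f' (pullback.fst f' a z) = y' := fun z => by
    rw [← Scheme.Hom.comp_apply, pullback.condition, Scheme.Hom.comp_apply, ← ha]
    exact congrArg a (Subsingleton.elim (α := PrimeSpectrum K) _ _)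
  convert him using 1
  ext z
  constructor
  · intro hz
    refine ⟨e.hom z, ?_, by rw [← Scheme.Hom.comp_apply, e.hom_inv_id]; rfl⟩
    rw [Set.mem_preimage, show pullback.fst f (a ≫ b) (e.hom z) = g' (pullback.fst f' a z) from
      congrArg (fun m : pullback f' a ⟶ X => m z) he]
    exact (comp_baseChange hg hc hs' hsg y' _ (hfib z)).1 hz
  · rintro ⟨c, hc', rfl⟩
    refine (comp_baseChange hg hc hs' hsg y' _ (hfib _)).2 ?_
    rw [show g' (pullback.fst f' a (e.inv c)) = pullback.fst f (a ≫ b) c from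
      congrArg (fun m : pullback f (a ≫ b) ⟶ X => m c) (show e.inv ≫ pullback.fst f' a ≫ g' = pullback.fst f (a ≫ b) by
        rw [← he, Iso.inv_hom_id_assoc])]
    exact hc'

/-- Geometric irreducibility of the component descends along base change. -/
theorem compGI_descend (hg : g ≫ f = 𝟙 Y) {X' Y' : Scheme.{u}} {f' : X' ⟶ Y'} {g' : X' ⟶ X} {b : Y' ⟶ Y}
    (hc : IsPullback g' f' f b) {s' : Y' ⟶ X'} (hs' : s' ≫ f' = 𝟙 Y') (hsg : s' ≫ g' = b ≫ g) (y' : Y')
    (h : CompGI f' s' y') : CompGI f g (b y') := by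
  intro K _ a ha
  obtain ⟨v, -, hv2⟩ := Scheme.Pullback.exists_preimage_pullback (f := a) (g := b) (IsLocalRing.closedPoint K) y' ha
  let p : Spec ((pullback a b).residueField v) ⟶ pullback a b := Scheme.fromSpecResidueField _ v
  let a' : Spec (CommRingCat.of ((pullback a b).residueField v)) ⟶ Y' := p ≫ pullback.snd a b
  let t : Spec (CommRingCat.of ((pullback a b).residueField v)) ⟶ Spec (CommRingCat.of K) := p ≫ pullback.fst a b
  have hta : t ≫ a = a' ≫ b := by simp only [a', t, Category.assoc, pullback.condition]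
  have ha' : a' (IsLocalRing.closedPoint ((pullback a b).residueField v)) = y' := by
    show pullback.snd a b (p _) = y'
    rw [show p _ = v from Scheme.fromSpecResidueField_apply v (IsLocalRing.closedPoint ((pullback a b).residueField v))]
    exact hv2
  let n : pullback f' a' ⟶ pullback f a := pullback.lift (pullback.fst f' a' ≫ g') (pullback.snd f' a' ≫ t)
    (by rw [Category.assoc, hc.w, Category.assoc, hta, ← Category.assoc, ← Category.assoc, pullback.condition])
  have hn : IsPullback n (pullback.snd f' a') (pullback.snd f a) t := by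
    refine IsPullback.of_right (h₁₂ := pullback.fst f a) (h₂₂ := a) (v₁₃ := f) ?_ (pullback.lift_snd _ _ _)
      (IsPullback.of_hasPullback f a)
    rw [hta, show n ≫ pullback.fst f a = pullback.fst f' a' ≫ g' from pullback.lift_fst _ _ _]
    exact (IsPullback.of_hasPullback f' a').paste_horiz hc
  haveI : Surjective t := ⟨fun z => ⟨IsLocalRing.closedPoint _, Subsingleton.elim (α := PrimeSpectrum K) _ _⟩⟩
  haveI : Surjective n := MorphismProperty.of_isPullback hn.flip ‹Surjective t›
  have him := (h _ a' ha').image n.base n.continuous.continuousOn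
  have hfib : ∀ z, f' (pullback.fst f' a' z) = y' := fun z => by
    rw [← Scheme.Hom.comp_apply, pullback.condition, Scheme.Hom.comp_apply, ← ha']
    exact congrArg a' (Subsingleton.elim (α := PrimeSpectrum ((pullback a b).residueField v)) _ _)
  convert him using 1
  ext z
  constructor
  · intro hz
    obtain ⟨w, rfl⟩ := n.surjective z
    refine ⟨w, (comp_baseChange hg hc hs' hsg y' _ (hfib w)).2 ?_, rfl⟩
    rw [show g' (pullback.fst f' a' w) = pullback.fst f a (n w) from
      congrArg (fun m : pullback f' a' ⟶ X => m w)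
        (show pullback.fst f' a' ≫ g' = n ≫ pullback.fst f a from (pullback.lift_fst _ _ _).symm)]
    exact hz
  · rintro ⟨w, hw, rfl⟩
    show pullback.fst f a (n w) ∈ connectedComponentIn (f.base ⁻¹' {b y'}) (g.base (b y'))
    rw [show pullback.fst f a (n w) = g' (pullback.fst f' a' w) from
      congrArg (fun m : pullback f' a' ⟶ X => m w)
        (show n ≫ pullback.fst f a = pullback.fst f' a' ≫ g' from pullback.lift_fst _ _ _)]
    exact (comp_baseChange hg hc hs' hsg y' _ (hfib w)).1 hw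

/-- The dimension at the section after base change. -/
theorem fibreDimAt_section_baseChange [LocallyOfFiniteType f] {X' Y' : Scheme.{u}} {f' : X' ⟶ Y'} {g' : X' ⟶ X} {b : Y' ⟶ Y}
    (hc : IsPullback g' f' f b) {s' : Y' ⟶ X'} (hsg : s' ≫ g' = b ≫ g) (y' : Y') :
    FlatMor.fibreDimAt f' (s'.base y') = FlatMor.fibreDimAt f (g.base (b y')) := by
  rw [LocDimBC.fibreDimAt_baseChange hc]
  congr 1
  exact (congrArg (fun m : Y' ⟶ X => m y') hsg)

variable (f g)

/-- Near a geometrically reduced point of a component of constant dimension, the section components fill a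
neighbourhood. -/
theorem mem_nhds_sectionComponents_of_const [IsLocallyNoetherian Y] [LocallyOfFiniteType f] (hg : g ≫ f = 𝟙 Y) {y : Y}
    (hirr : CompGI f g y) (hdim : ∀ y' : Y, y' ⤳ y → FlatMor.fibreDimAt f (g.base y) ≤ FlatMor.fibreDimAt f (g.base y'))
    {x : X} (hx : x ∈ connectedComponentIn (f.base ⁻¹' {y}) (g.base y)) (hred : x ∈ geomRedSet f) :
    MoreMor.sectionComponents f g ∈ 𝓝 x := by
  haveI : IsLocallyNoetherian X := LocallyOfFiniteType.isLocallyNoetherian f
  refine mem_nhds_of_pieces (fun x' hx' => ?_) fun ξ hξ => exists_open_piece f g hg hξ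
  have hfx : f x = y := connectedComponentIn_subset (f.base ⁻¹' {y}) _ hx
  show x' ∈ connectedComponentIn (f.base ⁻¹' {f.base x'}) (g.base (f.base x'))
  by_cases hne : f x' = y
  · rw [show f.base x' = y from hne]
    exact OpenDim.mem_comp_of_specializes f hx hne hx'
  obtain ⟨A, _, _, _, k, hkc, hkη⟩ :=
    UnivOpenAtLib.exists_dvr_specialization hx' fun e => hne (e ▸ hfx)
  let h := k ≫ f
  let η : ↥(Spec (CommRingCat.of A)) := (⟨⊥, Ideal.isPrime_bot⟩ : PrimeSpectrum A)
  let s : ↥(Spec (CommRingCat.of A)) := IsLocalRing.closedPoint A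
  have hηs : η ≠ s := fun e => IsDiscreteValuationRing.not_a_field A (congrArg PrimeSpectrum.asIdeal e).symm
  have hhs : h s = y := by rw [Scheme.Hom.comp_apply, hkc, hfx]
  have hhη : h η = f x' := by rw [Scheme.Hom.comp_apply, hkη η hηs]
  let f' := pullback.snd f h
  let σ := OpenDim.bcSec f g hg h
  let τ : Spec (CommRingCat.of A) ⟶ pullback f h := pullback.lift k (𝟙 _) (Category.id_comp _).symm
  have hτ1 : ∀ t, pullback.fst f h (τ t) = k t := fun t => by rw [← Scheme.Hom.comp_apply, pullback.lift_fst]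
  have hτ2 : ∀ t, f'.base (τ.base t) = t := fun t => by
    show f' (τ t) = t
    rw [← Scheme.Hom.comp_apply, pullback.lift_snd]; rfl
  have hop : ∀ w ∈ connectedComponentIn (f.base ⁻¹' {y}) (g.base y), EGA43.IsUnivOpenAt f w := fun w hw =>
    OpenDim.univOpenAt_comp_of_const f g hg y ((compGI_iff f g y).1 hirr) hdim hw
  obtain ⟨ζ, hfζ, hζC, hζmax, hζs, hζgen, hgen, hζd⟩ :=
    OpenDim.exists_generic_bc f g hg h s hhs ((compGI_iff f g y).1 hirr)
  -- the component through the section
  obtain ⟨ξ, hfξ, hξg, hξmax, hξd⟩ := OpenDim.exists_maxInFibre_fibreDimAt f' (σ.base η)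
  have hfξ' : f'.base ξ = η := hfξ.trans (OpenDim.bcSec_snd_apply f g hg h η)
  rw [OpenDim.fibreDimAt_bcSec] at hξd
  obtain ⟨w, hξw, hws, hfw, hle⟩ := OpenDim.exists_trd_ge f'
    (hξg.trans ((IsLocalRing.specializes_closedPoint η).map σ.continuous))
  have hfw' : f'.base w = s := hfw.trans (OpenDim.bcSec_snd_apply f g hg h s)
  have hζw : ζ ⤳ w := hζgen w hfw' (hgen w hfw' hws)
  have heq : ζ = w := by
    by_contra hne'
    have h1 := OpenDim.trd_lt f' hζw hne' (hfζ.trans hfw'.symm)
    have h2 : (trd f' ζ : WithBot ℕ∞) ≤ (trd f' ξ : WithBot ℕ∞) := by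
      rw [hζd, ← hξd]
      exact hdim _ (show h η ⤳ y from hhs ▸ (IsLocalRing.specializes_closedPoint η).map h.continuous)
    have h3 : trd f' ζ ≤ trd f' ξ := by exact_mod_cast h2
    omega
  have hτC : (pullback.fst f h).base (τ.base s) ∈ connectedComponentIn (f.base ⁻¹' {y}) (g.base y) := by
    show pullback.fst f h (τ s) ∈ _
    rw [hτ1, hkc]; exact hx
  have hξx : ξ ⤳ τ.base s := hξw.trans (heq ▸ hζgen _ (hτ2 s) hτC)
  have hζτ : ζ ⤳ τ.base s := hζgen _ (hτ2 s) hτC
  have hηmax : OpenDim.IsMaxPt η := fun z hz => (hz.antisymm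
    ((PrimeSpectrum.le_iff_specializes _ z).1 (show (⊥ : Ideal A) ≤ _ from bot_le))).eq
  -- the component through the generization
  obtain ⟨z, hfz, hzτ, hzmax⟩ := OpenDim.exists_max_in_fibre f' (τ.base η)
  have hfz' : f'.base z = η := hfz.trans (hτ2 η)
  obtain ⟨v, hv⟩ : τ.base s ∈ Set.range (f'.fiberι (f'.base (τ.base s))) := by
    rw [f'.range_fiberι]; rfl
  have hvred : _root_.IsReduced ((f'.fiber (f'.base (τ.base s))).presheaf.stalk v) := by
    refine OpenDim.isReduced_bc_fibre f h _ v (x := x) ?_ (y := f.base x) ?_ (f.asFiber x)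
      (f.fiberι_asFiber _) hred
    · rw [hv]; exact (hτ1 s).trans hkc
    · rw [hτ2 s]; exact hhs.trans hfx.symm
  have hzξ : z = ξ := OpenDim.eq_of_isMaxPt_of_unique f' (τ.base s) (hτ2 s) v hv hvred ζ (hfζ.trans (hτ2 s).symm) hζτ
    hζmax
    (fun ζ' hfζ' hζ' hmax' => by
      have h1 : f'.base ζ' = s := hfζ'.trans (hτ2 s)
      refine (hmax' ζ (hfζ.trans h1.symm) (hζgen ζ' h1 ?_)).symm
      exact OpenDim.mem_comp_of_specializes f hτC
        ((OpenDim.snd_eq_of_fst f h h1).trans hhs) (hζ'.map (pullback.fst f h).continuous))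
    (UnivOpenAtLib.isOpenAt_of_isPullback (hop _ hζC) (IsPullback.of_hasPullback f h) ζ rfl)
    (hzτ.trans ((IsLocalRing.specializes_closedPoint η).map τ.continuous)) hξx
    (OpenDim.isMaxPt_of_maxInFibre f' hzmax (show OpenDim.IsMaxPt (f'.base z) by rw [hfz']; exact hηmax))
    (OpenDim.isMaxPt_of_maxInFibre f' hξmax (show OpenDim.IsMaxPt (f'.base ξ) by rw [hfξ']; exact hηmax))
  subst hzξ
  have hP : f.base ((pullback.fst f h).base z) = f.base x' := (OpenDim.snd_eq_of_fst f h hfz').trans hhη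
  have hxC : (pullback.fst f h).base z ∈ connectedComponentIn (f.base ⁻¹' {f.base x'}) (g.base (f.base x')) := by
    refine OpenDim.mem_comp_of_specializes f (mem_connectedComponentIn (OpenDim.section_apply f hg _)) hP ?_
    have := hξg.map (pullback.fst f h).continuous
    rwa [show (pullback.fst f h).base (σ.base η) = g.base (h.base η) from OpenDim.bcSec_fst_apply f g hg h η,
      show h.base η = f.base x' from hhη] at this
  have hzC : (pullback.fst f h).base z ∈ connectedComponentIn (f.base ⁻¹' {f.base x'}) x' := by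
    refine OpenDim.mem_comp_of_specializes f (mem_connectedComponentIn rfl) hP ?_
    have := hzτ.map (pullback.fst f h).continuous
    rwa [show (pullback.fst f h).base (τ.base η) = x' from (hτ1 η).trans (hkη η hηs)] at this
  rw [connectedComponentIn_eq hxC, ← connectedComponentIn_eq hzC]
  exact mem_connectedComponentIn rfl

/-- A universally open morphism is universally open at every point. -/
theorem isUnivOpenAt_of_universallyOpen [UniversallyOpen f] (x : X) : EGA43.IsUnivOpenAt f x := by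
  intro Y' k z _ U hU
  haveI : UniversallyOpen (pullback.snd f k) := MorphismProperty.pullback_snd _ _ inferInstance
  exact (pullback.snd f k).isOpenMap.image_mem_nhds hU

/-- Near a geometrically reduced point of a component of constant dimension, the fibres are geometrically reduced on
the section components. -/
theorem exists_nhd_const_geomRed [IsLocallyNoetherian Y] [LocallyOfFiniteType f] (hg : g ≫ f = 𝟙 Y) {y : Y}
    (hirr : CompGI f g y) (hdim : ∀ y' : Y, y' ⤳ y → FlatMor.fibreDimAt f (g.base y) ≤ FlatMor.fibreDimAt f (g.base y'))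
    {x : X} (hx : x ∈ connectedComponentIn (f.base ⁻¹' {y}) (g.base y)) (hred : x ∈ geomRedSet f) :
    ∃ O : Set X, IsOpen O ∧ x ∈ O ∧ O ⊆ MoreMor.sectionComponents f g ∧ O ⊆ geomRedSet f := by
  have hfx : f x = y := connectedComponentIn_subset (f.base ⁻¹' {y}) _ hx
  obtain ⟨U, hxU, -, hU⟩ := exists_universallyOpen_geomRed_nhd f x (fun ξ hξ hξx _ =>
    OpenDim.univOpenAt_comp_of_const f g hg y ((compGI_iff f g y).1 hirr) hdim
      (OpenDim.mem_comp_of_specializes f hx (hξ.trans hfx) hξx)) hred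
  obtain ⟨O, hOE, hO, hxO⟩ := mem_nhds_iff.1 (mem_nhds_sectionComponents_of_const f g hg hirr hdim hx hred)
  exact ⟨O ∩ U, hO.inter U.2, ⟨hxO, hxU⟩, fun a ha => hOE ha.1, fun a ha => hU a ha.2⟩

/-- The level sets of the dimension at a section over a Noetherian scheme. -/
theorem isConstructible_fibreDimAt_section_eq [AlgebraicGeometry.IsNoetherian Y] [LocallyOfFiniteType f]
    (d : WithBot ℕ∞) : IsConstructible {z : Y | FlatMor.fibreDimAt f (g.base z) = d} := by
  classical
  have hle : ∀ n : WithBot ℕ∞, IsConstructible {z : Y | FlatMor.fibreDimAt f (g.base z) ≤ n} := fun n =>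
    ConstrNoeth.isConstructible_of_isOpen ((FibreDepth.isOpen_fibreDimAt_le f n).preimage g.continuous)
  by_cases h : ∃ z, FlatMor.fibreDimAt f (g.base z) = d
  · have hlt : IsConstructible {z : Y | FlatMor.fibreDimAt f (g.base z) < d} := by
      refine ConstrNoeth.isConstructible_of_isOpen (isOpen_iff_forall_mem_open.2 fun z hz => ?_)
      exact ⟨g.base ⁻¹' {w | FlatMor.fibreDimAt f w ≤ FlatMor.fibreDimAt f (g.base z)},
        fun a ha => lt_of_le_of_lt (show FlatMor.fibreDimAt f (g.base a) ≤ _ from ha) hz,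
        (FibreDepth.isOpen_fibreDimAt_le f _).preimage g.continuous, le_refl (FlatMor.fibreDimAt f (g.base z))⟩
    have heq : {z : Y | FlatMor.fibreDimAt f (g.base z) = d} = {z : Y | FlatMor.fibreDimAt f (g.base z) ≤ d} \
        {z : Y | FlatMor.fibreDimAt f (g.base z) < d} := by
      ext z
      exact ⟨fun e => ⟨le_of_eq e, fun hlt' => hlt'.ne e⟩, fun e => e.1.eq_of_not_lt e.2⟩
    rw [heq]
    exact (hle d).sdiff hlt
  · rw [show {z : Y | FlatMor.fibreDimAt f (g.base z) = d} = ∅ from Set.eq_empty_iff_forall_notMem.2 fun z hz => h ⟨z, hz⟩]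
    exact IsConstructible.empty

/-- An affine piece of a finitely presented morphism with a section comes from a Noetherian base. -/
theorem exists_affine_section_model [LocallyOfFinitePresentation f] [QuasiCompact f] [QuasiSeparated f]
    (hg : g ≫ f = 𝟙 Y) {U : Y.Opens} (hU : IsAffineOpen U) :
    ∃ (i : (FPModelLib.ZIdx Γ(Y, U))ᵒᵖ) (G : Scheme.{u}) (g₀ : G ⟶ (FPModelLib.zSys Γ(Y, U)).obj i)
      (q : pullback f hU.fromSpec ⟶ G) (σ₀ : (FPModelLib.zSys Γ(Y, U)).obj i ⟶ G) (σ : Spec Γ(Y, U) ⟶ pullback f hU.fromSpec),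
      σ₀ ≫ g₀ = 𝟙 _ ∧ σ ≫ pullback.snd f hU.fromSpec = 𝟙 _ ∧ σ ≫ pullback.fst f hU.fromSpec = hU.fromSpec ≫ g ∧
        FPModelLib.IsModel (pullback.snd f hU.fromSpec) ((FPModelLib.zCone Γ(Y, U)).π.app i) g₀ q ∧
        σ ≫ q = (FPModelLib.zCone Γ(Y, U)).π.app i ≫ σ₀ := by
  let σ : Spec Γ(Y, U) ⟶ pullback f hU.fromSpec :=
    pullback.lift (hU.fromSpec ≫ g) (𝟙 _) (by rw [Category.assoc, hg, Category.comp_id, Category.id_comp])
  haveI : CompactSpace ↥(pullback f hU.fromSpec) :=
    QuasiCompact.compactSpace_of_compactSpace (pullback.snd f hU.fromSpec)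
  haveI : QuasiSeparatedSpace ↥(pullback f hU.fromSpec) :=
    quasiSeparatedSpace_of_quasiSeparated (pullback.snd f hU.fromSpec)
  obtain ⟨i, G, g₀, q, σ₀, hσ₀, hm, hσq⟩ :=
    exists_section_model Γ(Y, U) (pullback.snd f hU.fromSpec) σ (pullback.lift_snd _ _ _)
  exact ⟨i, G, g₀, q, σ₀, σ, hσ₀, pullback.lift_snd _ _ _, pullback.lift_fst _ _ _, hm, hσq⟩

/-- The level sets of the dimension at a section are constructible on affine opens. -/
theorem isConstructible_fibreDimAt_section_eq_affine [LocallyOfFinitePresentation f] [QuasiCompact f]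
    [QuasiSeparated f] (hg : g ≫ f = 𝟙 Y) {U : Y.Opens} (hU : IsAffineOpen U) (d : WithBot ℕ∞) :
    IsConstructible {p : PrimeSpectrum Γ(Y, U) | FlatMor.fibreDimAt f (g.base (hU.fromSpec p)) = d} := by
  obtain ⟨i, G, g₀, q, σ₀, σ, hσ₀, hσ, hσg, hm, hσq⟩ := exists_affine_section_model f g hg hU
  haveI := hm.lfp
  let π := (FPModelLib.zCone Γ(Y, U)).π.app i
  haveI : IsAffineHom π := inferInstanceAs (IsAffineHom (Spec.map _))
  have heq : {p : PrimeSpectrum Γ(Y, U) | FlatMor.fibreDimAt f (g.base (hU.fromSpec p)) = d} =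
      π ⁻¹' {z | FlatMor.fibreDimAt g₀ (σ₀.base z) = d} := Set.ext fun p => by
    show FlatMor.fibreDimAt f (g.base (hU.fromSpec p)) = d ↔ FlatMor.fibreDimAt g₀ (σ₀.base (π p)) = d
    exact Iff.of_eq (congrArg (fun e => e = d) ((fibreDimAt_section_baseChange
      (IsPullback.of_hasPullback f hU.fromSpec) hσg p).symm.trans (fibreDimAt_section_baseChange hm.isPullback hσq p)))
  rw [heq]
  exact (isConstructible_fibreDimAt_section_eq g₀ σ₀ d).preimage π.continuous fun t hto htr => by
    intro t' ht' ht'o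
    exact QuasiSeparatedSpace.inter_isCompact _ _ (hto.preimage π.continuous)
      (π.isCompact_preimage (U := ⟨t, hto⟩) htr.isCompact) ht'o ht'

/-- Constancy of the dimension near a point is tested on generizations. -/
theorem eventually_fibreDimAt_section_eq [LocallyOfFinitePresentation f] [QuasiCompact f] [QuasiSeparated f]
    (hg : g ≫ f = 𝟙 Y) (y : Y) (h : ∀ z, z ⤳ y → FlatMor.fibreDimAt f (g.base z) = FlatMor.fibreDimAt f (g.base y)) :
    ∀ᶠ z in 𝓝 y, FlatMor.fibreDimAt f (g.base z) = FlatMor.fibreDimAt f (g.base y) := by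
  obtain ⟨U, hU, hyU, -⟩ := exists_isAffineOpen_mem_and_subset (X := Y) (x := y) (U := ⊤) trivial
  obtain ⟨p, rfl⟩ : y ∈ Set.range hU.fromSpec := by rw [hU.range_fromSpec]; exact hyU
  have h1 := mem_nhds_of_isConstructible (isConstructible_fibreDimAt_section_eq_affine f g hg hU _) (y := p)
    fun z hz => h _ (hz.map hU.fromSpec.continuous)
  exact Filter.mem_of_superset (hU.fromSpec.isOpenEmbedding.isOpenMap.image_mem_nhds h1)
    (Set.image_preimage_subset _ {z | FlatMor.fibreDimAt f (g.base z) = _})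

/-- An affine piece with constant dimension comes from a Noetherian base with constant dimension. -/
theorem exists_const_model [LocallyOfFinitePresentation f] [QuasiCompact f] [QuasiSeparated f]
    (hg : g ≫ f = 𝟙 Y) {U : Y.Opens} (hU : IsAffineOpen U) (d : WithBot ℕ∞)
    (hd : ∀ z ∈ U, FlatMor.fibreDimAt f (g.base z) = d) :
    ∃ (S₀ : Scheme.{u}) (_ : IsLocallyNoetherian S₀) (π : Spec Γ(Y, U) ⟶ S₀) (G : Scheme.{u}) (g₀ : G ⟶ S₀)
      (_ : LocallyOfFinitePresentation g₀) (q : pullback f hU.fromSpec ⟶ G) (σ₀ : S₀ ⟶ G)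
      (σ : Spec Γ(Y, U) ⟶ pullback f hU.fromSpec),
      σ₀ ≫ g₀ = 𝟙 _ ∧ σ ≫ pullback.snd f hU.fromSpec = 𝟙 _ ∧ σ ≫ pullback.fst f hU.fromSpec = hU.fromSpec ≫ g ∧
        IsPullback q (pullback.snd f hU.fromSpec) g₀ π ∧ σ ≫ q = π ≫ σ₀ ∧
        (∀ z : S₀, FlatMor.fibreDimAt g₀ (σ₀.base z) = d) ∧
        (AlgebraicGeometry.IsReduced Y → AlgebraicGeometry.IsReduced S₀) := by
  obtain ⟨i, G, g₀, q, σ₀, σ, hσ₀, hσ, hσg, hm, hσq⟩ := exists_affine_section_model f g hg hU
  haveI := hm.lfp
  let D := FPModelLib.zSys Γ(Y, U)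
  let c := FPModelLib.zCone Γ(Y, U)
  have hE : IsLocallyConstructible {z : D.obj i | FlatMor.fibreDimAt g₀ (σ₀.base z) = d} :=
    (isConstructible_fibreDimAt_section_eq g₀ σ₀ d).isLocallyConstructible
  obtain ⟨k, φ, hφ⟩ := FPModelLib.exists_stage_forall_mem D c (FPModelLib.isLimitZCone Γ(Y, U)) hE fun p => by
    show FlatMor.fibreDimAt g₀ (σ₀.base (c.π.app i p)) = d
    exact ((fibreDimAt_section_baseChange hm.isPullback hσq p).symm.trans
      (fibreDimAt_section_baseChange (IsPullback.of_hasPullback f hU.fromSpec) hσg p)).trans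
      (hd _ (hU.range_fromSpec.le ⟨p, rfl⟩))
  have h1 := hm.stage D c (Over.mk φ)
  let σk : D.obj k ⟶ pullback g₀ (D.map φ) :=
    pullback.lift (D.map φ ≫ σ₀) (𝟙 _) (by rw [Category.assoc, hσ₀, Category.comp_id, Category.id_comp])
  refine ⟨D.obj k, inferInstance, c.π.app k, _, pullback.snd g₀ (D.map φ), h1.lfp, _, σk, σ,
    pullback.lift_snd _ _ _, hσ, hσg, h1.isPullback, ?_, fun z => ?_, fun hY => ?_⟩
  · apply pullback.hom_ext
    · have e1 := FlatStage.vMap_fst D c i g₀ hm.isPullback (Over.mk φ)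
      have e2 : σk ≫ pullback.fst g₀ (D.map φ) = D.map φ ≫ σ₀ := pullback.lift_fst _ _ _
      simp only [Category.assoc]
      rw [e2]
      refine (congrArg (σ ≫ ·) e1).trans (hσq.trans ?_)
      rw [← c.w φ, Category.assoc]
    · have e1 := FlatStage.vMap_snd D c i g₀ hm.isPullback (Over.mk φ)
      have e2 : σk ≫ pullback.snd g₀ (D.map φ) = 𝟙 _ := pullback.lift_snd _ _ _
      simp only [Category.assoc]
      rw [e2, Category.comp_id]
      exact (congrArg (σ ≫ ·) e1).trans (((reassoc_of% hσ) _))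
  · rw [fibreDimAt_section_baseChange (IsPullback.of_hasPullback g₀ (D.map φ)) (pullback.lift_fst _ _ _) z]
    exact hφ z
  · haveI : _root_.IsReduced Γ(Y, U) := inferInstance
    haveI : _root_.IsReduced k.unop.1 := isReduced_of_injective k.unop.1.val Subtype.val_injective
    exact inferInstanceAs (AlgebraicGeometry.IsReduced (Spec (CommRingCat.of k.unop.1)))

/-- Universal openness along components of locally constant dimension for morphisms of finite presentation. -/
theorem univOpenAt_comp_of_const_fp [LocallyOfFinitePresentation f] [QuasiCompact f] [QuasiSeparated f]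
    (hg : g ≫ f = 𝟙 Y) {U : Y.Opens} (hU : IsAffineOpen U) {d : WithBot ℕ∞}
    (hd : ∀ z ∈ U, FlatMor.fibreDimAt f (g.base z) = d) {x : X} (hxU : f.base x ∈ U)
    (hirr : CompGI f g (f.base x)) (hx : x ∈ MoreMor.sectionComponents f g) : EGA43.IsUnivOpenAt f x := by
  obtain ⟨S₀, _, π, G, g₀, _, q, σ₀, σ, hσ₀, hσ, hσg, hm, hσq, hd₀, -⟩ := exists_const_model f g hg hU d hd
  obtain ⟨p, hp⟩ : f x ∈ Set.range hU.fromSpec := by rw [hU.range_fromSpec]; exact hxU
  obtain ⟨w, hjw, hgw⟩ := exists_point_of_isPullback (IsPullback.of_hasPullback f hU.fromSpec) x p hp.symm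
  have hgi : CompGI g₀ σ₀ (π p) := compGI_descend hσ₀ hm hσ hσq p
    (compGI_baseChange hg (IsPullback.of_hasPullback f hU.fromSpec) hσ hσg p (hp ▸ hirr))
  have hqw : q w ∈ connectedComponentIn (g₀.base ⁻¹' {π p}) (σ₀.base (π p)) := by
    refine (comp_baseChange hσ₀ hm hσ hσq p w hgw).1 ?_
    refine (comp_baseChange hg (IsPullback.of_hasPullback f hU.fromSpec) hσ hσg p w hgw).2 ?_
    rw [hjw, hp]
    exact hx
  have h0 := OpenDim.univOpenAt_comp_of_const g₀ σ₀ hσ₀ (π p) ((compGI_iff _ _ _).1 hgi)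
    (fun y' _ => ((hd₀ _).trans (hd₀ _).symm).le) hqw
  have h1 := UnivOpenAtLib.univOpenAt_baseChange h0 hm w rfl
  have h2 := UnivOpenAtLib.univOpenAt_comp h1 (isUnivOpenAt_of_universallyOpen hU.fromSpec _)
  rw [← pullback.condition] at h2
  rw [← hjw]
  exact UnivOpenAtLib.univOpenAt_of_comp h2

/-- Flatness along components of locally constant dimension over a reduced base. -/
theorem flat_stalkMap_of_const_fp [LocallyOfFinitePresentation f] [QuasiCompact f] [QuasiSeparated f]
    [AlgebraicGeometry.IsReduced Y]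
    (hg : g ≫ f = 𝟙 Y) {U : Y.Opens} (hU : IsAffineOpen U) {d : WithBot ℕ∞}
    (hd : ∀ z ∈ U, FlatMor.fibreDimAt f (g.base z) = d) {x : X} (hxU : f.base x ∈ U)
    (hirr : CompGI f g (f.base x)) (hx : x ∈ MoreMor.sectionComponents f g) (hred : x ∈ geomRedSet f) :
    (f.stalkMap x).hom.Flat := by
  obtain ⟨S₀, _, π, G, g₀, _, q, σ₀, σ, hσ₀, hσ, hσg, hm, hσq, hd₀, hS₀⟩ := exists_const_model f g hg hU d hd
  haveI := hS₀ inferInstance
  obtain ⟨p, hp⟩ : f x ∈ Set.range hU.fromSpec := by rw [hU.range_fromSpec]; exact hxU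
  obtain ⟨w, hjw, hgw⟩ := exists_point_of_isPullback (IsPullback.of_hasPullback f hU.fromSpec) x p hp.symm
  have hgi : CompGI g₀ σ₀ (π p) := compGI_descend hσ₀ hm hσ hσq p
    (compGI_baseChange hg (IsPullback.of_hasPullback f hU.fromSpec) hσ hσg p (hp ▸ hirr))
  have hqw : q w ∈ connectedComponentIn (g₀.base ⁻¹' {π p}) (σ₀.base (π p)) := by
    refine (comp_baseChange hσ₀ hm hσ hσq p w hgw).1 ?_
    refine (comp_baseChange hg (IsPullback.of_hasPullback f hU.fromSpec) hσ hσg p w hgw).2 ?_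
    rw [hjw, hp]
    exact hx
  have hredw : q w ∈ geomRedSet g₀ := by
    rw [mem_geomRedSet_of_isPullback g₀ hm, ← mem_geomRedSet_of_isPullback f (IsPullback.of_hasPullback f hU.fromSpec),
      hjw]
    exact hred
  have hflat : (g₀.stalkMap (q w)).hom.Flat := OpenDim.flat_of_univOpen_geomReduced g₀ (q w) (fun ξ hξ hξx _ =>
    OpenDim.univOpenAt_comp_of_const g₀ σ₀ hσ₀ (π p) ((compGI_iff _ _ _).1 hgi)
      (fun y' _ => ((hd₀ _).trans (hd₀ _).symm).le) (OpenDim.mem_comp_of_specializes g₀ hqw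
        (hξ.trans (connectedComponentIn_subset (g₀.base ⁻¹' {π p}) _ hqw)) hξx)) hredw inferInstance
  -- transport along the open neighbourhood
  let W₀ : G.Opens := ⟨_, GeomRk.isOpen_geomReduced g₀⟩
  have hwW : q w ∈ W₀ := ⟨hflat, hredw⟩
  haveI : Flat (W₀.ι ≫ g₀) := by
    rw [Flat.iff_flat_stalkMap]
    intro a
    rw [Scheme.Hom.stalkMap_comp, CommRingCat.hom_comp]
    exact RingHom.Flat.comp a.2.1 (Flat.stalkMap _ a)
  haveI : Flat ((q ⁻¹ᵁ W₀).ι ≫ pullback.snd f hU.fromSpec) :=
    MorphismProperty.of_isPullback ((isPullback_morphismRestrict q W₀).paste_vert hm) ‹Flat (W₀.ι ≫ g₀)›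
  let m := (q ⁻¹ᵁ W₀).ι ≫ pullback.fst f hU.fromSpec
  haveI : Flat (m ≫ f) := by
    rw [Category.assoc, pullback.condition, ← Category.assoc]
    infer_instance
  haveI : IsOpenImmersion m := inferInstanceAs (IsOpenImmersion (_ ≫ _))
  let v : (q ⁻¹ᵁ W₀).toScheme := ⟨w, hwW⟩
  have h1 : ((m ≫ f).stalkMap v).hom.Flat := Flat.stalkMap _ v
  rw [Scheme.Hom.stalkMap_comp] at h1
  rw [show x = m v from hjw.symm]
  exact (RingHom.Flat.respectsIso.cancel_right_isIso _ _).1 h1

/-- Neighbourhoods in the section components for morphisms of finite presentation. -/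
theorem exists_nhd_const_geomRed_fp [LocallyOfFinitePresentation f] [QuasiCompact f] [QuasiSeparated f]
    (hg : g ≫ f = 𝟙 Y) {U : Y.Opens} (hU : IsAffineOpen U) {d : WithBot ℕ∞}
    (hd : ∀ z ∈ U, FlatMor.fibreDimAt f (g.base z) = d) {x : X} (hxU : f.base x ∈ U)
    (hirr : CompGI f g (f.base x)) (hx : x ∈ MoreMor.sectionComponents f g) (hred : x ∈ geomRedSet f) :
    ∃ O : Set X, IsOpen O ∧ x ∈ O ∧ O ⊆ MoreMor.sectionComponents f g ∧ O ⊆ geomRedSet f := by
  obtain ⟨S₀, _, π, G, g₀, _, q, σ₀, σ, hσ₀, hσ, hσg, hm, hσq, hd₀, -⟩ := exists_const_model f g hg hU d hd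
  obtain ⟨p, hp⟩ : f x ∈ Set.range hU.fromSpec := by rw [hU.range_fromSpec]; exact hxU
  obtain ⟨w, hjw, hgw⟩ := exists_point_of_isPullback (IsPullback.of_hasPullback f hU.fromSpec) x p hp.symm
  have hgi : CompGI g₀ σ₀ (π p) := compGI_descend hσ₀ hm hσ hσq p
    (compGI_baseChange hg (IsPullback.of_hasPullback f hU.fromSpec) hσ hσg p (hp ▸ hirr))
  have hqw : q w ∈ connectedComponentIn (g₀.base ⁻¹' {π p}) (σ₀.base (π p)) := by
    refine (comp_baseChange hσ₀ hm hσ hσq p w hgw).1 ?_
    refine (comp_baseChange hg (IsPullback.of_hasPullback f hU.fromSpec) hσ hσg p w hgw).2 ?_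
    rw [hjw, hp]
    exact hx
  have hredw : q w ∈ geomRedSet g₀ := by
    rw [mem_geomRedSet_of_isPullback g₀ hm, ← mem_geomRedSet_of_isPullback f (IsPullback.of_hasPullback f hU.fromSpec),
      hjw]
    exact hred
  obtain ⟨O, hO, hwO, hOE, hOR⟩ := exists_nhd_const_geomRed g₀ σ₀ hσ₀ hgi
    (fun y' _ => ((hd₀ _).trans (hd₀ _).symm).le) hqw hredw
  refine ⟨pullback.fst f hU.fromSpec '' (q ⁻¹' O), ?_, ⟨w, hwO, hjw⟩, ?_, ?_⟩
  · exact (pullback.fst f hU.fromSpec).isOpenEmbedding.isOpenMap _ (hO.preimage q.continuous)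
  · rintro _ ⟨a, ha, rfl⟩
    have h1 : a ∈ MoreMor.sectionComponents (pullback.snd f hU.fromSpec) σ := by
      rw [sectionComponents_baseChange g₀ σ₀ hσ₀ _ q π hm σ hσ hσq]
      exact hOE ha
    rw [sectionComponents_baseChange f g hg _ (pullback.fst f hU.fromSpec) hU.fromSpec
      (IsPullback.of_hasPullback f hU.fromSpec) σ hσ hσg] at h1
    exact h1
  · rintro _ ⟨a, ha, rfl⟩
    rw [mem_geomRedSet_of_isPullback f (IsPullback.of_hasPullback f hU.fromSpec),
      ← mem_geomRedSet_of_isPullback g₀ hm]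
    exact hOR ha

/-- Generizations keep the dimension when the local ring of the base is Noetherian. -/
theorem fibreDimAt_section_eq_of_noetherian_stalk [LocallyOfFiniteType f] (hg : g ≫ f = 𝟙 Y) {y z : Y} (hz : z ⤳ y)
    [IsNoetherianRing (Y.presheaf.stalk y)] (hirr : CompGI f g y)
    (hopen : ∀ x ∈ connectedComponentIn (f.base ⁻¹' {y}) (g.base y), EGA43.IsUnivOpenAt f x)
    (hred : g.base y ∈ geomRedSet f) : FlatMor.fibreDimAt f (g.base z) = FlatMor.fibreDimAt f (g.base y) := by
  let b := Y.fromSpecStalk y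
  let σ : Spec (Y.presheaf.stalk y) ⟶ pullback f b :=
    pullback.lift (b ≫ g) (𝟙 _) (by rw [Category.assoc, hg, Category.comp_id, Category.id_comp])
  have hσ : σ ≫ pullback.snd f b = 𝟙 _ := pullback.lift_snd _ _ _
  have hσg : σ ≫ pullback.fst f b = b ≫ g := pullback.lift_fst _ _ _
  have H := IsPullback.of_hasPullback f b
  let c := IsLocalRing.closedPoint (Y.presheaf.stalk y)
  have hc : b c = y := Scheme.fromSpecStalk_closedPoint
  obtain ⟨p, hp⟩ : z ∈ Set.range b := by rw [Scheme.range_fromSpecStalk]; exact hz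
  haveI : LocallyOfFiniteType (pullback.snd f b) := MorphismProperty.pullback_snd _ _ inferInstance
  have h1 := OpenDim.dim_eq_of_generization (pullback.snd f b) σ hσ (y := c) (y' := p)
    (IsLocalRing.specializes_closedPoint p)
    ((compGI_iff _ _ _).1 (compGI_baseChange hg H hσ hσg c (hc.symm ▸ hirr)))
    (fun w hw => by
      have hfw : (pullback.snd f b) w = c := connectedComponentIn_subset ((pullback.snd f b).base ⁻¹' {c}) _ hw
      have hw' := (comp_baseChange hg H hσ hσg c w hfw).1 hw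
      rw [hc] at hw'
      exact UnivOpenAtLib.univOpenAt_baseChange (hopen _ hw') H w rfl) (by
      show σ.base c ∈ geomRedSet (pullback.snd f b)
      rw [← mem_geomRedSet_of_isPullback f H, show pullback.fst f b (σ.base c) = g.base (b c) from
        congrArg (fun m : Spec (Y.presheaf.stalk y) ⟶ X => m c) hσg, hc]
      exact hred)
  rwa [fibreDimAt_section_baseChange H hσg, fibreDimAt_section_baseChange H hσg, hp, hc] at h1

/-- Local constancy of the dimension of a component, in terms of the dimension at the section. -/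
theorem exists_affine_const [LocallyOfFiniteType f] (hg : g ≫ f = 𝟙 Y)
    (hirr : ∀ y : Y, IsIrreducible (connectedComponentIn (f.base ⁻¹' {y}) (g.base y))) (y : Y)
    (h : ∃ V ∈ 𝓝 y, ∀ z ∈ V, topologicalKrullDim ↥(connectedComponentIn (f.base ⁻¹' {z}) (g.base z)) =
      topologicalKrullDim ↥(connectedComponentIn (f.base ⁻¹' {y}) (g.base y))) :
    ∃ U : Y.Opens, IsAffineOpen U ∧ y ∈ U ∧
      ∀ z ∈ U, FlatMor.fibreDimAt f (g.base z) = FlatMor.fibreDimAt f (g.base y) := by
  obtain ⟨V, hV, hVd⟩ := h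
  obtain ⟨V', hV'V, hV', hyV'⟩ := mem_nhds_iff.1 hV
  obtain ⟨U, hU, hyU, hUV⟩ := exists_isAffineOpen_mem_and_subset (X := Y) (x := y) (U := ⟨V', hV'⟩) hyV'
  refine ⟨U, hU, hyU, fun z hz => ?_⟩
  rw [← OpenDim.dim_comp_eq_fibreDimAt f g hg z (hirr z), ← OpenDim.dim_comp_eq_fibreDimAt f g hg y (hirr y)]
  exact hVd z (hV'V (hUV hz))

end Groth.Agent.GenIrredLib
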