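import Mathlib
import Groth.Agent.GenIrredLib.Constr
import Groth.Agent.NormalSepClosed
import Groth.Agent.UnivOpenAtLib.Basic
import Groth.Agent.FlatLocus.ImageClosure

/-!
# Geometric numbers of points of separated quasi-finite morphisms
-/

set_option autoImplicit false
set_option backward.isDefEq.respectTransparency false
set_option linter.style.haveILetI false

universe u

open CategoryTheory CategoryTheory.Limits AlgebraicGeometry IsLocalRing TopologicalSpace Topology

namespace Groth.Agent.GenIrredLib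

/-- A prime over zero of an integral algebra over a normal domain with algebraically closed fraction field has the
base as quotient. -/
theorem exists_sub_mem_of_algClosed {V Ω : Type u} [CommRing V] [IsDomain V] [IsIntegrallyClosed V] [Field Ω]
    [IsAlgClosed Ω] [Algebra V Ω] [IsFractionRing V Ω] {C : Type u} [CommRing C] (φ : V →+* C) (hint : φ.IsIntegral)
    (P : Ideal C) [P.IsPrime] (hP : P.comap φ = ⊥) (c : C) : ∃ v, c - φ v ∈ P := by
  let E := FractionRing (C ⧸ P)
  let ψ : V →+* E := (algebraMap (C ⧸ P) E).comp ((Ideal.Quotient.mk P).comp φ)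
  have hψ : Function.Injective ψ := by
    refine (IsFractionRing.injective (C ⧸ P) E).comp ((injective_iff_map_eq_zero ((Ideal.Quotient.mk P).comp φ)).2 fun v hv => ?_)
    have h1 : v ∈ P.comap φ := show φ v ∈ P from Ideal.Quotient.eq_zero_iff_mem.1 hv
    rwa [hP, Ideal.mem_bot] at h1
  letI : Algebra V E := ψ.toAlgebra
  let ι : Ω →+* E := IsFractionRing.lift hψ
  letI : Algebra Ω E := ι.toAlgebra
  haveI : IsScalarTower V Ω E := IsScalarTower.of_algebraMap_eq fun v => (IsFractionRing.lift_algebraMap hψ v).symm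
  let d : E := algebraMap (C ⧸ P) E (Ideal.Quotient.mk P c)
  have hd : IsIntegral V d := by
    obtain ⟨p, hp, hpc⟩ := hint c
    refine ⟨p, hp, ?_⟩
    show Polynomial.eval₂ ψ _ p = 0
    rw [show ψ = ((algebraMap (C ⧸ P) E).comp (Ideal.Quotient.mk P)).comp φ from rfl, ← Polynomial.eval₂_map,
      show d = ((algebraMap (C ⧸ P) E).comp (Ideal.Quotient.mk P)) c from rfl, Polynomial.eval₂_at_apply,
      Polynomial.eval_map, hpc, map_zero]
  obtain ⟨ω, hω⟩ : d ∈ (algebraMap Ω E).range := by
    have h1 : IsIntegral Ω d := hd.tower_top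
    refine minpoly.mem_range_of_degree_eq_one Ω d ?_
    exact IsAlgClosed.degree_eq_one_of_irreducible Ω (minpoly.irreducible h1)
  rw [← hω] at hd
  obtain ⟨v, hv⟩ := IsIntegrallyClosed.isIntegral_iff.1 ((isIntegral_algebraMap_iff (algebraMap Ω E).injective).1 hd)
  refine ⟨v, Ideal.Quotient.eq_zero_iff_mem.1 (IsFractionRing.injective (C ⧸ P) E ?_)⟩
  rw [map_zero, map_sub, map_sub, sub_eq_zero]
  show d = ψ v
  rw [← hω, ← hv, ← IsScalarTower.algebraMap_apply]
  rfl

variable {Ω : Type u} [Field Ω] [IsAlgClosed Ω] (V : ValuationSubring Ω)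

/-- The generic point of the spectrum of a valuation ring. -/
noncomputable def valGeneric : Spec (CommRingCat.of V) := (⟨⊥, Ideal.isPrime_bot⟩ : PrimeSpectrum V)

/-- Over a valuation ring with algebraically closed fraction field, a point of the generic fibre of an integral
scheme has at most one specialization over each point. -/
theorem eq_of_specializes_integral {W : Scheme.{u}} (q : W ⟶ Spec (CommRingCat.of V)) [IsIntegralHom q]
    {ζ w w' : W} (hζ : q ζ = valGeneric V) (h : ζ ⤳ w) (h' : ζ ⤳ w') (he : q w = q w') : w = w' := by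
  haveI : IsAffine W := isAffine_of_isAffineHom q
  obtain ⟨φ, hφ⟩ : ∃ φ, Spec.map φ = W.isoSpec.inv ≫ q := ⟨Spec.preimage _, Spec.map_preimage _⟩
  have hint : φ.hom.IsIntegral := by
    have h1 : IsIntegralHom (Spec.map φ) := by rw [hφ]; infer_instance
    exact IsIntegralHom.SpecMap_iff.1 h1
  let e := W.isoSpec.hom
  have heq : ∀ a, Spec.map φ (e a) = q a := fun a => by
    rw [hφ, ← Scheme.Hom.comp_apply, Iso.hom_inv_id_assoc]
  let p : PrimeSpectrum Γ(W, ⊤) := e ζ
  haveI := p.isPrime
  have hP : p.asIdeal.comap φ.hom = ⊥ := congrArg PrimeSpectrum.asIdeal ((heq ζ).trans hζ)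
  have key : ∀ a : W, ζ ⤳ a → ∀ c, c ∈ (e a : PrimeSpectrum Γ(W, ⊤)).asIdeal ↔
      ∀ v, c - φ.hom v ∈ p.asIdeal → v ∈ (Spec.map φ (e a) : PrimeSpectrum V).asIdeal := by
    intro a ha c
    have hle : p.asIdeal ≤ (e a : PrimeSpectrum Γ(W, ⊤)).asIdeal :=
      (PrimeSpectrum.le_iff_specializes (R := Γ(W, ⊤)) _ _).2 (ha.map e.continuous)
    refine ⟨fun hc v hv => ?_, fun hc => ?_⟩
    · show φ.hom v ∈ (e a : PrimeSpectrum Γ(W, ⊤)).asIdeal
      simpa using sub_mem hc (hle hv)
    · obtain ⟨v, hv⟩ := exists_sub_mem_of_algClosed (V := V) (Ω := Ω) φ.hom hint p.asIdeal hP c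
      have h2 := add_mem (hle hv) (show φ.hom v ∈ (e a : PrimeSpectrum Γ(W, ⊤)).asIdeal from hc v hv)
      rwa [sub_add_cancel] at h2
  refine e.isOpenEmbedding.injective (PrimeSpectrum.ext (Ideal.ext fun c => ?_))
  refine (key w h c).trans (Iff.trans ?_ (key w' h' c).symm)
  rw [heq, heq, he]

variable {X Y : Scheme.{u}} (f : X ⟶ Y)

/-- For a quasi-finite morphism, the geometric number of points is the number of points over a preimmersion of the
spectrum of a separably closed field. -/
theorem nGeomConnComp_eq_card_preimage [LocallyQuasiFinite f] [LocallyOfFiniteType f] (L : Type u) [Field L]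
    [IsSepClosed L] (z : Spec (CommRingCat.of L) ⟶ Y) [IsPreimmersion z] (y : Y) (hy : z (closedPoint L) = y) :
    MoreMor.nGeomConnComp f y = ENat.card ↑(f ⁻¹' {y}) := by
  rw [show MoreMor.nGeomConnComp f y = ENat.card (_root_.ConnectedComponents ↥(pullback f z)) from
    (congrArg Prod.snd (counts_eq_nGeom f L z y hy)).symm]
  haveI : LocallyQuasiFinite (pullback.snd f z) := MorphismProperty.pullback_snd _ _ inferInstance
  haveI : DiscreteTopology ↥(pullback f z) := by
    have h1 := (pullback.snd f z).isDiscrete_preimage_singleton (closedPoint L)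
    rw [show (pullback.snd f z) ⁻¹' {closedPoint L} = Set.univ from
      Set.eq_univ_of_forall fun a => Subsingleton.elim (α := ↥(Spec (CommRingCat.of L))) _ _] at h1
    exact isDiscrete_univ_iff.1 h1
  have hc : Function.Bijective (ConnectedComponents.mk : ↥(pullback f z) → _root_.ConnectedComponents ↥(pullback f z)) :=
    ⟨fun a b h => by
      have h1 := ConnectedComponents.coe_eq_coe'.1 h
      rwa [connectedComponent_eq_singleton, Set.mem_singleton_iff] at h1, ConnectedComponents.surjective_coe⟩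
  rw [← ENat.card_congr (Equiv.ofBijective _ hc)]
  have hr : Set.range (pullback.fst f z) = f ⁻¹' {y} := by
    rw [Scheme.Pullback.range_fst]
    congr 1
    exact Set.ext fun w => ⟨fun ⟨v, hv⟩ => hv ▸ hy ▸ congrArg z (Subsingleton.elim v _),
      fun hw => ⟨closedPoint L, hy.trans hw.symm⟩⟩
  exact ENat.card_congr
    ((Equiv.ofInjective _ (pullback.fst f z).isEmbedding.injective).trans (Equiv.setCongr hr))

theorem nGeomConnComp_valGeneric {X' : Scheme.{u}} (f' : X' ⟶ Spec (CommRingCat.of V)) [LocallyQuasiFinite f']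
    [LocallyOfFiniteType f'] : MoreMor.nGeomConnComp f' (valGeneric V) = ENat.card ↑(f' ⁻¹' {valGeneric V}) := by
  haveI : IsPreimmersion (Spec.map (CommRingCat.ofHom V.subtype)) := IsPreimmersion.of_isLocalization (nonZeroDivisors V)
  refine nGeomConnComp_eq_card_preimage f' Ω (Spec.map (CommRingCat.ofHom V.subtype)) _ (PrimeSpectrum.ext ?_)
  show (maximalIdeal Ω).comap V.subtype = ⊥
  rw [maximalIdeal_eq_bot, ← RingHom.ker_eq_comap_bot]
  exact (RingHom.injective_iff_ker_eq_bot _).1 Subtype.val_injective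

theorem nGeomConnComp_valClosed (hV : maximalIdeal V ≠ ⊥) {X' : Scheme.{u}} (f' : X' ⟶ Spec (CommRingCat.of V))
    [LocallyQuasiFinite f'] [LocallyOfFiniteType f'] :
    MoreMor.nGeomConnComp f' (closedPoint V) = ENat.card ↑(f' ⁻¹' {closedPoint V}) := by
  haveI : IsAlgClosed (ResidueField V) := NormalSepClosed.isAlgClosed_residueField Ω hV
  haveI : IsClosedImmersion (Spec.map (CommRingCat.ofHom (residue V))) :=
    IsClosedImmersion.spec_of_surjective _ residue_surjective
  exact nGeomConnComp_eq_card_preimage f' (ResidueField V) (Spec.map (CommRingCat.ofHom (residue V))) _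
    (IsLocalRing.comap_closedPoint (residue V))

variable {X' W : Scheme.{u}} (j : X' ⟶ W) (q : W ⟶ Spec (CommRingCat.of V))

/-- A point of the special fibre at which a quasi-finite morphism is open lifts to the generic fibre. -/
theorem exists_generic_specializes [LocallyQuasiFinite (j ≫ q)] [QuasiCompact (j ≫ q)] (x : X')
    (hx : (j ≫ q) x = closedPoint V) (hopen : EGA43.IsOpenAt (j ≫ q).base x) :
    ∃ ζ, (j ≫ q) ζ = valGeneric V ∧ ζ ⤳ x := by
  by_contra hh
  push Not at hh
  have hfin := (j ≫ q).finite_preimage_singleton (valGeneric V)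
  have hsep : ∀ ζ ∈ (j ≫ q) ⁻¹' {valGeneric V}, ∃ U : Set X', IsOpen U ∧ x ∈ U ∧ ζ ∉ U := fun ζ hζ => by
    have h1 := hh ζ hζ
    rw [specializes_iff_forall_open] at h1
    push Not at h1
    exact h1
  choose! U hUo hxU hζU using hsep
  have hN : (⋂ ζ ∈ (j ≫ q) ⁻¹' {valGeneric V}, U ζ) ∈ 𝓝 x :=
    (hfin.isOpen_biInter fun ζ hζ => hUo ζ hζ).mem_nhds (Set.mem_iInter₂.2 hxU)
  have h2 := hopen _ hN
  rw [show (j ≫ q).base x = closedPoint V from hx] at h2
  obtain ⟨O, hOsub, hO, hcO⟩ := mem_nhds_iff.1 h2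
  obtain ⟨ζ, hζ, hζe⟩ := hOsub ((IsLocalRing.specializes_closedPoint (valGeneric V)).mem_open hO hcO)
  exact hζU ζ hζe (Set.mem_iInter₂.1 hζ ζ hζe)

/-- Openness at the special fibre gives an inequality on numbers of geometric points. -/
theorem card_closed_le [IsOpenImmersion j] [IsIntegralHom q] [LocallyQuasiFinite (j ≫ q)] [QuasiCompact (j ≫ q)]
    (hopen : ∀ x, (j ≫ q) x = closedPoint V → EGA43.IsOpenAt (j ≫ q).base x) :
    ENat.card ↑((j ≫ q) ⁻¹' {closedPoint V}) ≤ ENat.card ↑((j ≫ q) ⁻¹' {valGeneric V}) ∧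
      ((∃ ζ₀ w₀, (j ≫ q) ζ₀ = valGeneric V ∧ j ζ₀ ⤳ w₀ ∧ q w₀ = closedPoint V ∧ w₀ ∉ Set.range j) →
        ENat.card ↑((j ≫ q) ⁻¹' {closedPoint V}) ≠ ENat.card ↑((j ≫ q) ⁻¹' {valGeneric V})) := by
  haveI := ((j ≫ q).finite_preimage_singleton (closedPoint V)).to_subtype
  haveI := ((j ≫ q).finite_preimage_singleton (valGeneric V)).to_subtype
  choose ζ hζe hζs using fun x : ↑((j ≫ q) ⁻¹' {closedPoint V}) =>
    exists_generic_specializes V j q x.1 x.2 (hopen x.1 x.2)
  have huniq : ∀ z : X', (j ≫ q) z = valGeneric V → ∀ w w' : W, j z ⤳ w → j z ⤳ w' → q w = q w' → w = w' :=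
    fun z hz w w' h h' he => eq_of_specializes_integral V q (by rw [← Scheme.Hom.comp_apply]; exact hz) h h' he
  let F : ↑((j ≫ q) ⁻¹' {closedPoint V}) → ↑((j ≫ q) ⁻¹' {valGeneric V}) := fun x => ⟨ζ x, hζe x⟩
  have hF : Function.Injective F := by
    intro x x' h
    have h1 : ζ x = ζ x' := congrArg Subtype.val h
    refine Subtype.ext (j.isOpenEmbedding.injective (huniq _ (hζe x) _ _ ((hζs x).map j.continuous)
      (h1 ▸ (hζs x').map j.continuous) ?_))
    rw [← Scheme.Hom.comp_apply, ← Scheme.Hom.comp_apply]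
    exact x.2.trans x'.2.symm
  refine ⟨by rw [ENat.card_eq_coe_natCard, ENat.card_eq_coe_natCard]; exact_mod_cast Nat.card_le_card_of_injective F hF, ?_⟩
  rintro ⟨ζ₀, w₀, hζ₀, hsp, hw₀, hw₀r⟩ heq
  rw [ENat.card_eq_coe_natCard, ENat.card_eq_coe_natCard, Nat.cast_inj] at heq
  obtain ⟨x, hx⟩ := (hF.bijective_of_nat_card_le heq.ge).2 ⟨ζ₀, hζ₀⟩
  have h1 : ζ x = ζ₀ := congrArg Subtype.val hx
  exact hw₀r ⟨x.1, huniq _ hζ₀ _ _ (h1 ▸ (hζs x).map j.continuous) hsp
    ((Scheme.Hom.comp_apply j q x.1).symm.trans (x.2.trans hw₀.symm))⟩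

/-- A valuation ring of the algebraic closure of the residue field at a generization, centred at a point. -/
theorem exists_valuation_hom {Z : Scheme.{u}} {ξ b : Z} (h : ξ ⤳ b) :
    ∃ (Ω : Type u) (_ : Field Ω) (_ : IsAlgClosed Ω) (V : ValuationSubring Ω)
      (u : Spec (CommRingCat.of V) ⟶ Z), u (closedPoint V) = b ∧ u (valGeneric V) = ξ := by
  let Ω := AlgebraicClosure (Z.residueField ξ)
  let θ : Z.residueField ξ →+* Ω := algebraMap _ _
  let ψ : Z.presheaf.stalk b →+* Ω := θ.comp (Z.presheaf.stalkSpecializes h ≫ Z.residue ξ).hom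
  obtain ⟨V, hV, hl⟩ := IsLocalRing.exists_factor_valuationRing ψ
  refine ⟨Ω, inferInstance, inferInstance, V,
    Spec.map (CommRingCat.ofHom (ψ.codRestrict V.toSubring hV)) ≫ Z.fromSpecStalk b, ?_, ?_⟩
  · rw [Scheme.Hom.comp_apply]
    exact (congrArg _ (IsLocalRing.comap_closedPoint _)).trans Z.fromSpecStalk_closedPoint
  · have h1 : Spec.map (CommRingCat.ofHom V.subtype) (closedPoint Ω) = valGeneric V := by
      refine PrimeSpectrum.ext ?_
      show (maximalIdeal Ω).comap V.subtype = ⊥
      rw [maximalIdeal_eq_bot, ← RingHom.ker_eq_comap_bot]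
      exact (RingHom.injective_iff_ker_eq_bot _).1 Subtype.val_injective
    have h2 : Spec.map (CommRingCat.ofHom V.subtype) ≫ Spec.map (CommRingCat.ofHom (ψ.codRestrict V.toSubring hV)) ≫
        Z.fromSpecStalk b = Spec.map (CommRingCat.ofHom θ) ≫ Z.fromSpecResidueField ξ := by
      rw [Scheme.fromSpecResidueField, ← Scheme.SpecMap_stalkSpecializes_fromSpecStalk h]
      simp_rw [← Spec.map_comp_assoc]
      rfl
    rw [← h1, ← Scheme.Hom.comp_apply, h2, Scheme.Hom.comp_apply]
    exact Scheme.fromSpecResidueField_apply _ _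

/-- The number of geometric points of a quasi-finite separated morphism does not drop under generization at a
universally open fibre. -/
theorem nGeomConnComp_le_of_specializes [LocallyQuasiFinite f] [LocallyOfFiniteType f] [QuasiCompact f] [IsSeparated f]
    {y z : Y} (hzy : z ⤳ y) (h : ∀ x, f x = y → EGA43.IsUnivOpenAt f x) :
    MoreMor.nGeomConnComp f y ≤ MoreMor.nGeomConnComp f z := by
  obtain ⟨Ω, _, _, V, g, hgc, hgη⟩ := exists_valuation_hom hzy
  by_cases hV : maximalIdeal V = ⊥
  · have : (closedPoint V : Spec (CommRingCat.of V)) = valGeneric V := PrimeSpectrum.ext hV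
    rw [← hgc, ← hgη, this]
  let f' := pullback.snd f g
  haveI : LocallyQuasiFinite f' := MorphismProperty.pullback_snd _ _ inferInstance
  haveI : LocallyOfFiniteType f' := MorphismProperty.pullback_snd _ _ inferInstance
  have hfac : f'.toNormalization ≫ f'.fromNormalization = f' := f'.toNormalization_fromNormalization
  haveI : LocallyQuasiFinite (f'.toNormalization ≫ f'.fromNormalization) := by rw [hfac]; infer_instance
  haveI : QuasiCompact (f'.toNormalization ≫ f'.fromNormalization) := by rw [hfac]; infer_instance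
  have h1 := (card_closed_le V f'.toNormalization f'.fromNormalization fun x hx => ?_).1
  · rw [hfac, ← nGeomConnComp_valClosed V hV f', ← nGeomConnComp_valGeneric V f'] at h1
    have e1 := congrArg Prod.snd (nGeom_baseChange f f' (pullback.fst f g) g (IsPullback.of_hasPullback f g) (closedPoint V))
    have e2 := congrArg Prod.snd (nGeom_baseChange f f' (pullback.fst f g) g (IsPullback.of_hasPullback f g) (valGeneric V))
    simp only [hgc, hgη] at e1 e2
    rwa [← e1, ← e2]
  · rw [hfac] at hx ⊢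
    exact UnivOpenAtLib.isOpenAt_of_isPullback (h _ (by
      rw [← Scheme.Hom.comp_apply, pullback.condition, Scheme.Hom.comp_apply, hx, hgc]))
      (IsPullback.of_hasPullback f g) x rfl

/-- Local constancy of the number of geometric points at a universally open fibre gives properness. -/
theorem exists_isProper_of_nGeom [LocallyQuasiFinite f] [LocallyOfFiniteType f] [QuasiCompact f] [IsSeparated f]
    (y : Y) (h : ∀ x, f x = y → EGA43.IsUnivOpenAt f x)
    (hc : ∀ z, z ⤳ y → MoreMor.nGeomConnComp f z = MoreMor.nGeomConnComp f y) :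
    ∃ U : Y.Opens, y ∈ U ∧ IsProper (f ∣_ U) := by
  let ν := f.toNormalization
  let ρ := f.fromNormalization
  have hB : IsClosed ((Set.range ν)ᶜ) := ν.isOpenEmbedding.isOpen_range.isClosed_compl
  let U : Y.Opens := ⟨(ρ '' (Set.range ν)ᶜ)ᶜ, (ρ.isClosedMap _ hB).isOpen_compl⟩
  suffices hyU : y ∈ U by
    refine ⟨U, hyU, ?_⟩
    haveI : IsIso (ν ∣_ (ρ ⁻¹ᵁ U)) := by
      haveI : Surjective (ν ∣_ (ρ ⁻¹ᵁ U)) := ⟨fun v => by
        have hv : v.1 ∈ Set.range ν := by
          by_contra hh
          exact v.2 ⟨v.1, hh, rfl⟩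
        obtain ⟨a, ha⟩ := hv
        refine ⟨⟨a, show ν a ∈ ρ ⁻¹ᵁ U by rw [ha]; exact v.2⟩, Subtype.ext ?_⟩
        rw [morphismRestrict_base_coe]
        exact ha⟩
      haveI : Epi (ν ∣_ (ρ ⁻¹ᵁ U)).base := (TopCat.epi_iff_surjective _).2 (ν ∣_ (ρ ⁻¹ᵁ U)).surjective
      exact IsOpenImmersion.isIso _
    haveI : UniversallyClosed (f ∣_ U) := by
      haveI : UniversallyClosed ((ν ≫ ρ) ∣_ U) := by
        rw [morphismRestrict_comp]; infer_instance
      rw [show f = ν ≫ ρ from f.toNormalization_fromNormalization.symm]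
      infer_instance
    exact { }
  by_contra hh
  obtain ⟨b, hbr, hby⟩ : y ∈ ρ '' (Set.range ν)ᶜ := not_not.1 hh
  obtain ⟨x₀, -, hx₀⟩ := FlatLocus.exists_specializes_of_mem_closure_image ν isClosed_univ (y := b)
    (by rw [Set.image_univ]; exact ν.denseRange b)
  obtain ⟨Ω, _, _, V, u, huc, huη⟩ := exists_valuation_hom hx₀
  let g := u ≫ ρ
  let π := pullback.fst ρ g
  let q := pullback.snd ρ g
  let σ : Spec (CommRingCat.of V) ⟶ pullback ρ g := pullback.lift u (𝟙 _) (Category.id_comp _).symm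
  let j := pullback.snd ν π
  have hsq : IsPullback (pullback.fst ν π) (j ≫ q) f g := by
    have := (IsPullback.of_hasPullback ν π).paste_vert (IsPullback.of_hasPullback ρ g)
    rwa [f.toNormalization_fromNormalization] at this
  haveI : IsIntegralHom q := MorphismProperty.pullback_snd _ _ inferInstance
  haveI : LocallyQuasiFinite (j ≫ q) := MorphismProperty.of_isPullback hsq inferInstance
  haveI : LocallyOfFiniteType (j ≫ q) := MorphismProperty.of_isPullback hsq inferInstance
  haveI : QuasiCompact (j ≫ q) := MorphismProperty.of_isPullback hsq inferInstance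
  have hσq : ∀ t, q (σ t) = t := fun t => by
    rw [← Scheme.Hom.comp_apply, show σ ≫ q = 𝟙 _ from pullback.lift_snd _ _ _]; rfl
  have hσπ : ∀ t, π (σ t) = u t := fun t => by
    rw [← Scheme.Hom.comp_apply, show σ ≫ π = u from pullback.lift_fst _ _ _]
  obtain ⟨ζ₀, hζ₀⟩ : σ (valGeneric V) ∈ Set.range j := by
    rw [Scheme.Pullback.range_snd, Set.mem_preimage, hσπ, huη]
    exact ⟨x₀, rfl⟩
  have hw₀ : σ (closedPoint V) ∉ Set.range j := by
    rw [Scheme.Pullback.range_snd, Set.mem_preimage, hσπ, huc]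
    exact hbr
  have hsp : j ζ₀ ⤳ σ (closedPoint V) := hζ₀ ▸ (IsLocalRing.specializes_closedPoint (valGeneric V)).map σ.continuous
  have hζq : (j ≫ q) ζ₀ = valGeneric V := by rw [Scheme.Hom.comp_apply, hζ₀, hσq]
  by_cases hV : maximalIdeal V = ⊥
  · have hcη : (closedPoint V : Spec (CommRingCat.of V)) = valGeneric V := PrimeSpectrum.ext hV
    exact hw₀ ⟨ζ₀, by rw [hζ₀, hcη]⟩
  have hgc : g (closedPoint V) = y := by rw [Scheme.Hom.comp_apply, huc, hby]
  have hopen : ∀ x, (j ≫ q) x = closedPoint V → EGA43.IsOpenAt (j ≫ q).base x := fun x hx =>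
    UnivOpenAtLib.isOpenAt_of_isPullback (h _ (by rw [← Scheme.Hom.comp_apply, hsq.w, Scheme.Hom.comp_apply, hx, hgc]))
      hsq x rfl
  have hgen : g (valGeneric V) ⤳ y := hgc ▸ (IsLocalRing.specializes_closedPoint (valGeneric V)).map g.continuous
  have h2 := (card_closed_le V j q hopen).2 ⟨ζ₀, σ (closedPoint V), hζq, hsp, hσq _, hw₀⟩
  rw [← nGeomConnComp_valClosed V hV (j ≫ q), ← nGeomConnComp_valGeneric V (j ≫ q)] at h2
  have e1 := congrArg Prod.snd (nGeom_baseChange f (j ≫ q) (pullback.fst ν π) g hsq (closedPoint V))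
  have e2 := congrArg Prod.snd (nGeom_baseChange f (j ≫ q) (pullback.fst ν π) g hsq (valGeneric V))
  simp only at e1 e2
  rw [e1, e2, hgc, hc _ hgen] at h2
  exact h2 rfl

/-- Lower semicontinuity of the number of geometric points. -/
theorem lowerSemicontinuous_nGeomConnComp [LocallyQuasiFinite f] [LocallyOfFinitePresentation f] [QuasiCompact f]
    [IsSeparated f] (h : ∀ x, EGA43.IsUnivOpenAt f x) :
    LowerSemicontinuous (fun z : Y => MoreMor.nGeomConnComp f z) := by
  rw [lowerSemicontinuous_iff_isOpen_preimage]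
  intro m
  refine isOpen_iff_mem_nhds.2 fun y hy => ?_
  obtain ⟨U, hU, hyU, -⟩ := exists_isAffineOpen_mem_and_subset (X := Y) (x := y) (U := ⊤) trivial
  have hc : IsConstructible (hU.fromSpec ⁻¹' {z : Y | m < MoreMor.nGeomConnComp f z}) :=
    ((isLocallyConstructible_nGeom f fun p => m < p.2).preimage_of_isOpenEmbedding
      hU.fromSpec.isOpenEmbedding).isConstructible
  have hopen := PrimeSpectrum.isOpen_of_stableUnderGeneralization_of_isConstructible
    (R := Γ(Y, U)) (s := hU.fromSpec ⁻¹' {z : Y | m < MoreMor.nGeomConnComp f z})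
    (fun a b hab ha => lt_of_lt_of_le (show m < MoreMor.nGeomConnComp f (hU.fromSpec a) from ha)
      (nGeomConnComp_le_of_specializes f (hab.map hU.fromSpec.continuous) fun x _ => h x)) hc
  obtain ⟨y₁, rfl⟩ : y ∈ Set.range hU.fromSpec := by rw [hU.range_fromSpec]; exact hyU
  exact Filter.mem_of_superset (hU.fromSpec.isOpenEmbedding.isOpenMap.image_mem_nhds (hopen.mem_nhds hy))
    (Set.image_preimage_subset _ _)

end Groth.Agent.GenIrredLib
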