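import Mathlib
import Groth.Agent.OpenDim.Dims
import Groth.Agent.FlatDim.Trdeg
import Groth.Agent.DVRCrit.Local
import Groth.Agent.DimFormulaLib.Main

/-!
# Dimensions of local rings of a closed subscheme relative to a morphism
-/

set_option autoImplicit false
set_option backward.isDefEq.respectTransparency false
set_option linter.style.haveILetI false

universe u

open CategoryTheory CategoryTheory.Limits AlgebraicGeometry TopologicalSpace Topology

namespace Groth.Agent.GenIrredLib

open OpenDim DimFormulaLib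

/-- An embedding compatible with the fibres does not decrease the dimensions of local rings of fibres. -/
theorem dim_stalk_fibre_le {X' Y' X Y : Scheme.{u}} (f' : X' ⟶ Y') (f : X ⟶ Y) {φ : X' → X} (hφ : IsEmbedding φ)
    (w : X') (hcomm : ∀ z, f' z = f' w → f (φ z) = f (φ w)) :
    ringKrullDim ((f'.fiber (f' w)).presheaf.stalk (f'.asFiber w)) ≤
      ringKrullDim ((f.fiber (f (φ w))).presheaf.stalk (f.asFiber (φ w))) := by
  rw [ringKrullDim_stalk_eq_coheight, ringKrullDim_stalk_eq_coheight, WithBot.coe_le_coe]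
  let m : f'.fiber (f' w) → f.fiber (f (φ w)) := fun z =>
    (f.fiberHomeo _).symm ⟨φ (f'.fiberι _ z), hcomm _ (f'.fiberHomeo _ z).2⟩
  have hm : ∀ z, f.fiberι _ (m z) = φ (f'.fiberι _ z) := fun z =>
    congrArg Subtype.val ((f.fiberHomeo _).apply_symm_apply _)
  have hmw : m (f'.asFiber w) = f.asFiber (φ w) := (f.fiberι _).isEmbedding.injective (by
    rw [hm, f'.fiberι_asFiber, f.fiberι_asFiber])
  rw [← hmw]
  have hiff : ∀ a b, m a ⤳ m b ↔ a ⤳ b := fun a b => by
    rw [← (f.fiberι _).isEmbedding.isInducing.specializes_iff, hm, hm, hφ.isInducing.specializes_iff,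
      (f'.fiberι _).isEmbedding.isInducing.specializes_iff]
  refine Order.coheight_le_coheight_apply_of_strictMono m (fun a b hab => ?_) _
  rw [lt_iff_le_not_ge, Scheme.le_iff_specializes, Scheme.le_iff_specializes, hiff, hiff,
    ← Scheme.le_iff_specializes, ← Scheme.le_iff_specializes]
  exact lt_iff_le_not_ge.1 hab

/-- Dimensions of local rings do not go up along embeddings. -/
theorem dim_stalk_le {X' X : Scheme.{u}} (φ : X' ⟶ X) (hφ : IsEmbedding φ.base) (w : X') :
    ringKrullDim (X'.presheaf.stalk w) ≤ ringKrullDim (X.presheaf.stalk (φ w)) := by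
  rw [ringKrullDim_stalk_eq_coheight, ringKrullDim_stalk_eq_coheight, WithBot.coe_le_coe]
  refine Order.coheight_le_coheight_apply_of_strictMono φ (fun a b hab => ?_) _
  rw [lt_iff_le_not_ge, Scheme.le_iff_specializes, Scheme.le_iff_specializes, hφ.isInducing.specializes_iff,
    hφ.isInducing.specializes_iff, ← Scheme.le_iff_specializes, ← Scheme.le_iff_specializes]
  exact lt_iff_le_not_ge.1 hab

/-- The dimension inequality for a dominant morphism of integral schemes. -/
theorem dims_integral {X Y : Scheme.{u}} [IsIntegral X] [IsIntegral Y] [IsLocallyNoetherian Y] (f : X ⟶ Y)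
    [LocallyOfFiniteType f] (hdom : f (genericPoint X) = genericPoint Y) (w : X) :
    ∃ a b d : ℕ, ringKrullDim (X.presheaf.stalk w) = (a : WithBot ℕ∞) ∧
      ringKrullDim (Y.presheaf.stalk (f w)) = (b : WithBot ℕ∞) ∧
      ringKrullDim ((f.fiber (f w)).presheaf.stalk (f.asFiber w)) = (d : WithBot ℕ∞) ∧
      FlatMor.fibreDimAt f w = ((d + trd f w : ℕ) : WithBot ℕ∞) ∧ a ≤ b + d ∧
      a + trd f w ≤ b + trd f (genericPoint X) ∧ trd f (genericPoint X) ≤ d + trd f w := by
  obtain ⟨c⟩ := exists_chart f w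
  obtain ⟨a, b, d, t', ha, hb, hd, ht', hloc, hqa, hpb, hle, hT⟩ := c.dims
  have ht : t' = trd f w := by
    have h := ht'.symm
    rw [← c.resTrdegAt_self, resTrdegAt_eq_trd] at h
    exact_mod_cast h
  haveI := c.isNoetherianRing
  haveI : Nonempty (Spec (CommRingCat.of c.B)) := ⟨c.q⟩
  haveI : Nonempty (Spec (CommRingCat.of c.A)) := ⟨c.p⟩
  haveI : IsIntegral (Spec (CommRingCat.of c.B)) := isIntegral_of_isOpenImmersion c.j
  haveI : IsIntegral (Spec (CommRingCat.of c.A)) := isIntegral_of_isOpenImmersion c.i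
  haveI : IsDomain c.B := (affine_isIntegral_iff _).1 ‹IsIntegral (Spec (CommRingCat.of c.B))›
  haveI : IsDomain c.A := (affine_isIntegral_iff _).1 ‹IsIntegral (Spec (CommRingCat.of c.A))›
  let P₀ : PrimeSpectrum c.B := ⟨⊥, Ideal.isPrime_bot⟩
  have hj : c.j P₀ = genericPoint X := by
    refine (genericPoint_eq_of_isOpenImmersion c.j).symm.trans ?_ |>.symm
    refine congrArg c.j ?_
    exact (genericPoint_eq_bot_of_affine (CommRingCat.of c.B))
  have hi : c.i (⟨⊥, Ideal.isPrime_bot⟩ : PrimeSpectrum c.A) = genericPoint Y := by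
    refine (genericPoint_eq_of_isOpenImmersion c.i).symm.trans ?_ |>.symm
    refine congrArg c.i ?_
    exact (genericPoint_eq_bot_of_affine (CommRingCat.of c.A))
  have hP₀ : (PrimeSpectrum.comap (algebraMap c.A c.B) P₀).asIdeal = ⊥ := by
    have h := c.apply_j P₀
    rw [hj, hdom, ← hi] at h
    exact (congrArg PrimeSpectrum.asIdeal (c.i.isOpenEmbedding.injective h)).symm
  haveI : FaithfulSMul c.A c.B := (faithfulSMul_iff_algebraMap_injective _ _).2
    ((RingHom.injective_iff_ker_eq_bot _).2 hP₀)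
  obtain ⟨hq, hp, t'', t, e1, e2, e3, e4, hineq, -⟩ := dim_formula c.p.asIdeal c.q.asIdeal
  haveI : P₀.asIdeal.LiesOver (PrimeSpectrum.comap (algebraMap c.A c.B) P₀).asIdeal := ⟨rfl⟩
  have hgen : Algebra.trdeg (c.A ⧸ (PrimeSpectrum.comap (algebraMap c.A c.B) P₀).asIdeal) (c.B ⧸ P₀.asIdeal) =
      trd f (genericPoint X) := by
    rw [← c.resTrdegAt_eq, hj, resTrdegAt_eq_trd]
  have hgen' : (t : Cardinal.{u}) = trd f (genericPoint X) := by
    rw [← e4, ← hgen]
    symm
    refine trdeg_eq_of_ringEquiv ((Ideal.quotEquivOfEq hP₀).trans (RingEquiv.quotientBot c.A))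
      (RingEquiv.quotientBot c.B) fun r => ?_
    obtain ⟨r, rfl⟩ := Ideal.Quotient.mk_surjective r
    rfl
  have h1 : hq = a := by exact_mod_cast e1.symm.trans hqa
  have h2 : hp = b := by exact_mod_cast e2.symm.trans hpb
  have h3 : t'' = t' := by exact_mod_cast e3.symm.trans ht'
  have h4 : t = trd f (genericPoint X) := by exact_mod_cast hgen'
  have h5 := hT P₀ bot_le _ hgen
  exact ⟨a, b, d, ha, hb, hd, by rw [hloc, ht], hle, by omega, by omega⟩

end Groth.Agent.GenIrredLib
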