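import Mathlib
import Groth.Agent.GenIrredLib.QFCount
import Groth.Agent.GenIrredLib.DVRCount
import Groth.Agent.DVRCrit.Field
import Groth.Agent.GeomIrred.FinSep

/-!
# Splitting the fibres of a quasi-finite morphism over a discrete valuation ring
-/

set_option autoImplicit false
set_option backward.isDefEq.respectTransparency false
set_option linter.style.haveILetI false

universe u

open CategoryTheory CategoryTheory.Limits AlgebraicGeometry IsLocalRing TopologicalSpace Topology

namespace Groth.Agent.GenIrredLib

variable {X Y : Scheme.{u}} (f : X ⟶ Y)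

theorem card_pullback_eq_nGeom [LocallyQuasiFinite f] [LocallyOfFiniteType f] (L : Type u) [Field L] [IsSepClosed L]
    (z : Spec (CommRingCat.of L) ⟶ Y) :
    ENat.card ↥(pullback f z) = MoreMor.nGeomConnComp f (z (closedPoint L)) := by
  haveI : LocallyQuasiFinite (pullback.snd f z) := MorphismProperty.pullback_snd _ _ inferInstance
  haveI : LocallyOfFiniteType (pullback.snd f z) := MorphismProperty.pullback_snd _ _ inferInstance
  haveI : IsPreimmersion (𝟙 (Spec (CommRingCat.of L))) := inferInstance
  have h1 := nGeomConnComp_eq_card_preimage (pullback.snd f z) L (𝟙 _) (closedPoint L) rfl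
  have h2 := congrArg Prod.snd
    (nGeom_baseChange f (pullback.snd f z) (pullback.fst f z) z (IsPullback.of_hasPullback f z) (closedPoint L))
  simp only at h2
  rw [← h2, h1]
  exact (ENat.card_congr ((Equiv.setCongr (Set.eq_univ_of_forall fun a => Subsingleton.elim (α := ↥(Spec (CommRingCat.of L))) _ _)).trans
    (Equiv.Set.univ _))).symm

/-- A finite extension splits the fibre of a quasi-finite morphism at a point of a field. -/
theorem exists_splitting [LocallyQuasiFinite f] [LocallyOfFiniteType f] [QuasiCompact f] (K : Type u) [Field K]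
    (z : Spec (CommRingCat.of K) ⟶ Y) :
    ∃ L : IntermediateField K (AlgebraicClosure K), FiniteDimensional K L ∧
      ∀ (M : Type u) [Field M] (ι : L →+* M),
        ENat.card ↥(pullback f (Spec.map (CommRingCat.ofHom (ι.comp (algebraMap K L))) ≫ z)) =
          MoreMor.nGeomConnComp f (z (closedPoint K)) := by
  let p := pullback.snd f z
  haveI : LocallyQuasiFinite p := MorphismProperty.pullback_snd _ _ inferInstance
  haveI : LocallyOfFiniteType p := MorphismProperty.pullback_snd _ _ inferInstance
  haveI : QuasiCompact p := MorphismProperty.pullback_snd _ _ inferInstance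
  let Kb := AlgebraicClosure K
  let T := GeomIrred.bcs p Kb
  haveI : LocallyQuasiFinite (pullback.snd p (Spec.map (CommRingCat.ofHom (algebraMap K Kb)))) :=
    MorphismProperty.pullback_snd _ _ inferInstance
  haveI : QuasiCompact (pullback.snd p (Spec.map (CommRingCat.ofHom (algebraMap K Kb)))) :=
    MorphismProperty.pullback_snd _ _ inferInstance
  let pb := pullback.snd p (Spec.map (CommRingCat.ofHom (algebraMap K Kb)))
  have hu : pb ⁻¹' {closedPoint Kb} = Set.univ :=
    Set.eq_univ_of_forall fun a => Subsingleton.elim (α := ↥(Spec (CommRingCat.of Kb))) _ _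
  haveI : DiscreteTopology T := by
    have h1 := pb.isDiscrete_preimage_singleton (closedPoint Kb)
    rw [hu] at h1
    exact isDiscrete_univ_iff.1 h1
  haveI : Finite T := Set.finite_univ_iff.1 (hu ▸ pb.finite_preimage_singleton (closedPoint Kb))
  choose Lz U' hfin hUo hUne hUsub using fun a : T =>
    GeomIrred.exists_finite_preimage_subset p Kb ⟨{a}, isOpen_discrete _⟩ ⟨a, rfl⟩
  haveI := hfin
  let L : IntermediateField K Kb := ⨆ a, Lz a
  refine ⟨L, (inferInstance : FiniteDimensional K ↥(⨆ a, Lz a)), fun M _ ι => ?_⟩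
  have hinj : Function.Injective (GeomIrred.trans p L.val) := by
    intro a b hab
    have hle : Lz a ≤ L := le_iSup Lz a
    have hc : GeomIrred.trans p L.val ≫ GeomIrred.trans p (IntermediateField.inclusion hle) =
        GeomIrred.trans p (Lz a).val := GeomIrred.trans_comp p _ _
    obtain ⟨u, hu'⟩ := hUne a
    obtain ⟨c, hc'⟩ := (GeomIrred.trans_props p (Lz a).val).1.surj u
    have hca : c = a := hUsub a (show GeomIrred.trans p (Lz a).val c ∈ U' a by rw [hc']; exact hu')
    subst hca
    have hb : GeomIrred.trans p (Lz c).val b = GeomIrred.trans p (Lz c).val c := by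
      rw [← hc, Scheme.Hom.comp_apply, Scheme.Hom.comp_apply, hab]
    exact (hUsub c (show GeomIrred.trans p (Lz c).val b ∈ U' c by rw [hb, hc']; exact hu') : b = c).symm
  let Mb := AlgebraicClosure M
  letI : Algebra K M := (ι.comp (algebraMap K L)).toAlgebra
  letI : Algebra L Mb := ((algebraMap M Mb).comp ι).toAlgebra
  haveI : IsScalarTower K L Mb := IsScalarTower.of_algebraMap_eq fun k => rfl
  let β : M →ₐ[K] Mb := IsScalarTower.toAlgHom K M Mb
  let α' : Kb →ₐ[L] Mb := IsAlgClosed.lift
  let α : Kb →ₐ[K] Mb := α'.restrictScalars K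
  let ιK : L →ₐ[K] M := { ι with commutes' := fun _ => rfl }
  have hcomm : α.comp L.val = β.comp ιK := AlgHom.ext fun l => α'.commutes l
  have e1 : GeomIrred.trans p α ≫ GeomIrred.trans p L.val = GeomIrred.trans p β ≫ GeomIrred.trans p ιK := by
    rw [GeomIrred.trans_comp, GeomIrred.trans_comp, hcomm]
  have hn : ∀ (N : Type u) [Field N] [Algebra K N] [IsSepClosed N],
      ENat.card ↥(GeomIrred.bcs p N) = MoreMor.nGeomConnComp f (z (closedPoint K)) := by
    intro N _ _ _
    let zz := Spec.map (CommRingCat.ofHom (algebraMap K N))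
    rw [ENat.card_congr (pullbackLeftPullbackSndIso f z zz).hom.homeomorph.toEquiv, card_pullback_eq_nGeom f N]
    congr 1
    rw [Scheme.Hom.comp_apply]
    exact congrArg z (Subsingleton.elim (α := ↥(Spec (CommRingCat.of K))) _ _)
  haveI : Finite ↥(GeomIrred.bcs p Mb) := ENat.card_lt_top.1 (by
    rw [hn Mb, ← hn Kb]; exact ENat.card_lt_top.2 ‹Finite T›)
  have hbij : Function.Bijective (GeomIrred.trans p α) := by
    refine ((GeomIrred.trans_props p α).1.surj).bijective_of_nat_card_le ?_
    have h1 : ENat.card ↥(GeomIrred.bcs p Mb) = ENat.card T := (hn Mb).trans (hn Kb).symm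
    rw [ENat.card_eq_coe_natCard, ENat.card_eq_coe_natCard, Nat.cast_inj] at h1
    exact h1.le
  have hbeta : Function.Bijective (GeomIrred.trans p β) := by
    refine ⟨fun a b hab => hbij.1 (hinj ?_), (GeomIrred.trans_props p β).1.surj⟩
    rw [← Scheme.Hom.comp_apply, ← Scheme.Hom.comp_apply, e1, Scheme.Hom.comp_apply, Scheme.Hom.comp_apply, hab]
  rw [← hn Mb, ENat.card_congr (Equiv.ofBijective _ hbeta)]
  exact ENat.card_congr (pullbackLeftPullbackSndIso f z (Spec.map (CommRingCat.ofHom (algebraMap K M)))).symm.hom.homeomorph.toEquiv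

/-- A discrete valuation ring realizing the geometric numbers of points at both ends of a specialization. -/
theorem exists_dvr_card_fibres [IsLocallyNoetherian Y] [LocallyQuasiFinite f] [LocallyOfFiniteType f] [QuasiCompact f]
    (y y' : Y) (hne : y' ≠ y) (hgen : y' ⤳ y) :
    ∃ (A : Type u) (_ : CommRing A) (_ : IsDomain A) (_ : IsDiscreteValuationRing A) (g : Spec (CommRingCat.of A) ⟶ Y),
      g.base (closedPoint A) = y ∧ g.base (genericPoint (Spec (CommRingCat.of A))) = y' ∧
      MoreMor.nGeomConnComp f y = ENat.card ↥((pullback.snd f g).fiber (closedPoint A)) ∧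
      MoreMor.nGeomConnComp f y' = ENat.card ↥((pullback.snd f g).fiber (genericPoint (Spec (CommRingCat.of A)))) := by
  obtain ⟨A₀, _, _, _, g₀, hgc, hgη⟩ := UnivOpenAtLib.exists_dvr_specialization hgen hne
  let K := FractionRing A₀
  let z : Spec (CommRingCat.of K) ⟶ Y := Spec.map (CommRingCat.ofHom (algebraMap A₀ K)) ≫ g₀
  have hz : z (closedPoint K) = y' := by
    refine hgη _ fun he => IsDiscreteValuationRing.not_a_field A₀ ?_
    have h1 : (maximalIdeal K).comap (algebraMap A₀ K) = maximalIdeal A₀ := congrArg PrimeSpectrum.asIdeal he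
    rw [← h1, maximalIdeal_eq_bot, Ideal.comap_bot_of_injective _ (IsFractionRing.injective A₀ K)]
  obtain ⟨L, hL, hsplit⟩ := exists_splitting f K z
  have hfg : (⊤ : IntermediateField K L).FG := IntermediateField.fg_top_iff.2 inferInstance
  obtain ⟨A₁, hA₁, hmem, hnonunit⟩ :=
    DVRCrit.exists_dvr_dominating_fg (L := L) A₀ (IsDiscreteValuationRing.not_isField A₀) K hfg
  haveI := hA₁
  let θ : A₀ →+* A₁ := (algebraMap A₀ L).codRestrict A₁.toSubring hmem
  obtain ⟨B, _, _, _, _, _, φ, hφ, hφinj⟩ := exists_dvr_algClosed A₁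
  let g : Spec (CommRingCat.of B) ⟶ Y := Spec.map (CommRingCat.ofHom (φ.comp θ)) ≫ g₀
  have hc : g (closedPoint B) = y := by
    rw [← hgc]
    show g₀ (PrimeSpectrum.comap (φ.comp θ) (closedPoint B)) = g₀ (closedPoint A₀)
    congr 1
    rw [PrimeSpectrum.comap_comp_apply, IsLocalRing.comap_closedPoint]
    refine PrimeSpectrum.ext (((Ideal.IsPrime.comap θ).ne_top |> fun h => le_maximalIdeal h).antisymm fun a ha => ?_)
    exact ValuationSubring.coe_mem_nonunits_iff.1 (hnonunit a ha)
  let η := genericPoint (Spec (CommRingCat.of B))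
  let r : Spec ((Spec (CommRingCat.of B)).residueField η) ⟶ Spec (CommRingCat.of B) :=
    (Spec (CommRingCat.of B)).fromSpecResidueField η
  obtain ⟨ψ, hψ⟩ : ∃ ψ, Spec.map ψ = r := ⟨Spec.preimage _, Spec.map_preimage _⟩
  have hψinj : Function.Injective ψ.hom := by
    rw [RingHom.injective_iff_ker_eq_bot, RingHom.ker_eq_comap_bot, ← maximalIdeal_eq_bot]
    have h1 : Spec.map ψ (closedPoint ((Spec (CommRingCat.of B)).residueField η)) = η := by
      rw [hψ]; exact Scheme.fromSpecResidueField_apply _ _
    have h2 := congrArg PrimeSpectrum.asIdeal h1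
    exact h2.trans (le_bot_iff.1 ((PrimeSpectrum.le_iff_specializes (R := B) _ _).2
      (genericPoint_specializes ((⟨⊥, Ideal.isPrime_bot⟩ : PrimeSpectrum B) : Spec (CommRingCat.of B)))))
  let ι : L →+* (Spec (CommRingCat.of B)).residueField η :=
    IsFractionRing.lift (A := A₁) (g := ψ.hom.comp φ) (hψinj.comp hφinj)
  have hfac : Spec.map (CommRingCat.ofHom (ι.comp (algebraMap K L))) ≫ z = r ≫ g := by
    show Spec.map _ ≫ Spec.map _ ≫ g₀ = _
    rw [← hψ, ← Spec.map_comp_assoc, ← Spec.map_comp_assoc]
    congr 2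
    refine CommRingCat.hom_ext (RingHom.ext fun a => ?_)
    show ι (algebraMap K L (algebraMap A₀ K a)) = ψ.hom (φ (θ a))
    rw [← IsScalarTower.algebraMap_apply]
    exact IsFractionRing.lift_algebraMap (A := A₁) (hψinj.comp hφinj) (θ a)
  have hη : g η = y' := by
    have h1 := congrArg (fun t : Spec ((Spec (CommRingCat.of B)).residueField η) ⟶ Y =>
      t (closedPoint ((Spec (CommRingCat.of B)).residueField η))) hfac
    simp only [Scheme.Hom.comp_apply, r, Scheme.fromSpecResidueField_apply] at h1
    rw [← h1, ← hz]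
    exact congrArg z (Subsingleton.elim (α := ↥(Spec (CommRingCat.of K))) _ _)
  refine ⟨B, inferInstance, inferInstance, inferInstance, g, hc, hη, ?_, ?_⟩
  · haveI : IsClosedImmersion (Spec.map (CommRingCat.ofHom (residue B))) :=
      IsClosedImmersion.spec_of_surjective _ residue_surjective
    haveI : LocallyQuasiFinite (pullback.snd f g) := MorphismProperty.pullback_snd _ _ inferInstance
    haveI : LocallyOfFiniteType (pullback.snd f g) := MorphismProperty.pullback_snd _ _ inferInstance
    have e := congrArg Prod.snd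
      (nGeom_baseChange f (pullback.snd f g) (pullback.fst f g) g (IsPullback.of_hasPullback f g) (closedPoint B))
    simp only [hc] at e
    rw [← e, nGeomConnComp_eq_card_preimage (pullback.snd f g) (ResidueField B)
      (Spec.map (CommRingCat.ofHom (residue B))) _ (IsLocalRing.comap_closedPoint (residue B))]
    exact ENat.card_congr ((pullback.snd f g).fiberHomeo _).symm.toEquiv
  · rw [← hz, ← hsplit _ ι]
    refine (ENat.card_congr ?_).symm
    exact ((pullbackLeftPullbackSndIso f g r).hom.homeomorph.toEquiv).trans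
      (pullback.congrHom (f₁ := f) rfl hfac.symm).hom.homeomorph.toEquiv

end Groth.Agent.GenIrredLib
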