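import Mathlib
import Groth.Agent.DimFormulaLib.Scheme
import Groth.Agent.RatliffLib.Formal
import Groth.Agent.AdicLemmas.Basic
import Groth.Agent.SMT.Dimension
import Groth.Agent.S3438

/-!
# Quasi-sections through a closed point of a closed fibre over a complete local domain
-/

set_option autoImplicit false
set_option linter.style.haveILetI false

universe u

open CategoryTheory CategoryTheory.Limits AlgebraicGeometry IsLocalRing

namespace Groth.Agent.GenIrredLib

/-- The kernel of a quasi-section: a prime below `q` with a large quotient. -/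
theorem exists_prime_large_quotient {B : Type u} [CommRing B] [IsNoetherianRing B] (q : Ideal B) [q.IsPrime]
    (s : Finset B) (hs : (s : Set B) ⊆ q) (n : ℕ) (hn : ((n + s.card : ℕ) : ℕ∞) ≤ q.height) :
    ∃ P : Ideal B, P.IsPrime ∧ (s : Set B) ⊆ P ∧ P ≤ q ∧ (n : ℕ∞) ≤ (q.map (Ideal.Quotient.mk P)).height := by
  let I := Ideal.span (s : Set B)
  have hI : I ≤ q := Ideal.span_le.2 hs
  haveI : (q.map (Ideal.Quotient.mk I)).IsPrime := Ideal.isPrime_map_quotientMk_of_isPrime hI
  have h1 : (n : ℕ∞) ≤ (q.map (Ideal.Quotient.mk I)).height := by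
    have h := q.height_le_height_add_encard_of_subset (s : Set B) hs
    rw [Set.encard_coe_eq_coe_finsetCard] at h
    have h2 := hn.trans h
    rw [Nat.cast_add] at h2
    exact (WithTop.add_le_add_iff_right (ENat.coe_ne_top _)).1 h2
  -- a chain of primes
  let q' : PrimeSpectrum (B ⧸ I) := ⟨q.map (Ideal.Quotient.mk I), inferInstance⟩
  have h2 : (n : ℕ∞) ≤ Order.height q' := q'.height_eq_orderHeight ▸ h1
  obtain ⟨l, hl, hlen⟩ := Order.exists_series_of_le_height q' h2
  let m : PrimeSpectrum (B ⧸ I) → PrimeSpectrum B := PrimeSpectrum.comap (Ideal.Quotient.mk I)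
  let P := (m l.head).asIdeal
  have hq : m q' = ⟨q, inferInstance⟩ := by
    refine PrimeSpectrum.ext ?_
    show Ideal.comap (Ideal.Quotient.mk I) (q.map (Ideal.Quotient.mk I)) = q
    rw [Ideal.comap_map_of_surjective _ Ideal.Quotient.mk_surjective, ← RingHom.ker_eq_comap_bot, Ideal.mk_ker,
      sup_eq_left]
    exact hI
  have hsub : (s : Set B) ⊆ P := fun b hb => by
    show Ideal.Quotient.mk I b ∈ l.head.asIdeal
    rw [Ideal.Quotient.eq_zero_iff_mem.2 (Ideal.subset_span hb)]
    exact zero_mem _
  have hmem : ∀ i, P ≤ (m (l i)).asIdeal := fun i =>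
    Ideal.comap_mono (l.monotone (Fin.zero_le i))
  have hPq : P ≤ q := by
    have h := hmem (Fin.last _)
    rw [show l (Fin.last _) = q' from hl, hq] at h
    exact h
  refine ⟨P, inferInstance, hsub, hPq, ?_⟩
  haveI hqP : (q.map (Ideal.Quotient.mk P)).IsPrime := Ideal.isPrime_map_quotientMk_of_isPrime hPq
  rw [show (q.map (Ideal.Quotient.mk P)).height = Order.height
      (⟨q.map (Ideal.Quotient.mk P), hqP⟩ : PrimeSpectrum (B ⧸ P)) from
      PrimeSpectrum.height_eq_orderHeight (⟨_, hqP⟩ : PrimeSpectrum (B ⧸ P)), ← hlen]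
  have hker : ∀ i, RingHom.ker (Ideal.Quotient.mk P) ≤ (m (l i)).asIdeal := fun i => by
    rw [Ideal.mk_ker]; exact hmem i
  let lP : LTSeries (PrimeSpectrum (B ⧸ P)) :=
    { length := l.length
      toFun := fun i => ⟨(m (l i)).asIdeal.map (Ideal.Quotient.mk P), Ideal.isPrime_map_quotientMk_of_isPrime (hmem i)⟩
      step := fun i => by
        have hlt := l.step i
        have hm : (m (l i.castSucc)).asIdeal < (m (l i.succ)).asIdeal :=
          lt_of_le_of_ne (Ideal.comap_mono hlt.le) fun h => hlt.ne (PrimeSpectrum.ext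
            (Ideal.comap_injective_of_surjective _ Ideal.Quotient.mk_surjective h))
        refine lt_of_le_of_ne (Ideal.map_mono hm.le) fun h => hm.ne ?_
        have h' := congrArg (fun z : Ideal (B ⧸ P) => z.comap (Ideal.Quotient.mk P)) h
        simp only [Ideal.comap_map_of_surjective _ Ideal.Quotient.mk_surjective, ← RingHom.ker_eq_comap_bot] at h'
        rwa [sup_eq_left.2 (hker _), sup_eq_left.2 (hker _)] at h' }
  refine Order.length_le_height (p := lP) ?_
  show (m (l (Fin.last _))).asIdeal.map (Ideal.Quotient.mk P) ≤ q.map (Ideal.Quotient.mk P)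
  rw [show l (Fin.last _) = q' from hl, hq]

/-- An artinian quotient of the local ring at a maximal ideal is a quotient of the algebra. -/
theorem surjective_quotient_of_artinian {C D : Type u} [CommRing C] [CommRing D] [Algebra C D] (q : Ideal C)
    [q.IsMaximal] [IsLocalization.AtPrime D q] [IsLocalRing D] (J : Ideal D) (hJ : J ≠ ⊤) [IsArtinianRing (D ⧸ J)] :
    Function.Surjective ((Ideal.Quotient.mk J).comp (algebraMap C D)) := by
  haveI : Nontrivial (D ⧸ J) := Ideal.Quotient.nontrivial_iff.2 hJ
  haveI : IsLocalRing (D ⧸ J) := IsLocalRing.of_surjective' _ Ideal.Quotient.mk_surjective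
  haveI : IsLocalHom (Ideal.Quotient.mk J) := IsLocalHom.of_surjective _ Ideal.Quotient.mk_surjective
  obtain ⟨N, hN⟩ := IsArtinianRing.isNilpotent_jacobson_bot (R := D ⧸ J)
  rw [IsLocalRing.jacobson_eq_maximalIdeal ⊥ bot_ne_top] at hN
  intro z
  obtain ⟨z, rfl⟩ := Ideal.Quotient.mk_surjective z
  obtain ⟨b, s, rfl⟩ := IsLocalization.exists_mk'_eq q.primeCompl z
  obtain ⟨t, i, hi, ht⟩ := Ideal.IsMaximal.exists_inv ‹q.IsMaximal› s.2
  let φ := (Ideal.Quotient.mk J).comp (algebraMap C D)
  have hi' : φ i ∈ maximalIdeal (D ⧸ J) := by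
    rw [mem_maximalIdeal, mem_nonunits_iff]
    intro h
    exact ((IsLocalization.AtPrime.isUnit_to_map_iff D q i).1
      (isUnit_of_map_unit (Ideal.Quotient.mk J) _ h) : i ∈ q.primeCompl) hi
  have h0 : φ i ^ N = 0 := by
    have h := Ideal.pow_mem_pow hi' N
    rw [hN] at h
    exact Ideal.mem_bot.1 h
  refine ⟨b * t * ∑ k ∈ Finset.range N, i ^ k, ?_⟩
  have h1 : φ t * φ s = 1 - φ i := by
    rw [eq_sub_iff_add_eq, ← map_mul, ← map_add, ← map_one φ]
    exact congrArg _ ht
  have h2 : (∑ k ∈ Finset.range N, φ i ^ k) * (1 - φ i) = 1 := by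
    rw [geom_sum_mul_neg, h0, sub_zero]
  have h3 : φ b = Ideal.Quotient.mk J (IsLocalization.mk' D b s) * φ s := by
    show Ideal.Quotient.mk J (algebraMap C D b) = _ * Ideal.Quotient.mk J (algebraMap C D s)
    rw [← map_mul, IsLocalization.mk'_spec]
  show φ (b * t * ∑ k ∈ Finset.range N, i ^ k) = _
  rw [map_mul, map_mul, map_sum, h3]
  simp only [map_pow]
  calc _ = Ideal.Quotient.mk J (IsLocalization.mk' D b s) *
        ((∑ k ∈ Finset.range N, φ i ^ k) * (φ t * φ s)) := by ring
    _ = _ := by rw [h1, h2, mul_one]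

/-- A local algebra is separated for the maximal ideal of the base. -/
theorem isHausdorff_of_localHom {A D : Type u} [CommRing A] [IsLocalRing A] [CommRing D] [IsLocalRing D]
    [IsNoetherianRing D] [Algebra A D] [IsLocalHom (algebraMap A D)] : IsHausdorff (maximalIdeal A) D := by
  refine ⟨fun z hz => (inferInstance : IsHausdorff (maximalIdeal D) D).haus' z fun k => ?_⟩
  have h := hz k
  rw [SModEq.zero] at h ⊢
  refine Submodule.smul_induction_on h (fun a ha w _ => ?_) fun _ _ h₁ h₂ => add_mem h₁ h₂
  rw [show a • w = algebraMap A D a • w from (Algebra.smul_def a w).trans (smul_eq_mul _ _).symm]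
  refine Submodule.smul_mem_smul (show algebraMap A D a ∈ maximalIdeal D ^ k from ?_)
    (Submodule.mem_top : w ∈ (⊤ : Submodule D D))
  refine Ideal.pow_right_mono (((IsLocalRing.local_hom_TFAE (algebraMap A D)).out 0 2).1 ‹_›) k ?_
  rw [← Ideal.map_pow]
  exact Ideal.mem_map_of_mem _ ha

/-- The closed fibre of a local ring at an isolated point is artinian. -/
theorem artinian_quotient_localization {C D : Type u} [CommRing C] [IsNoetherianRing C] [CommRing D] [Algebra C D]
    (q : Ideal C) [q.IsPrime] [IsLocalization.AtPrime D q] (J : Ideal C) (hJq : J ≤ q)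
    (hmin : ∀ p : Ideal C, p.IsPrime → J ≤ p → p ≤ q → q ≤ p) :
    IsArtinianRing (D ⧸ J.map (algebraMap C D)) := by
  haveI : IsNoetherianRing D := IsLocalization.isNoetherianRing q.primeCompl D ‹_›
  rw [isArtinianRing_iff_isNoetherianRing_krullDimLE_zero]
  refine ⟨inferInstance, Ring.KrullDimLE.mk₀ fun p hp => ?_⟩
  haveI := hp
  haveI : IsLocalRing D := IsLocalization.AtPrime.isLocalRing D q
  haveI hP : (p.comap (Ideal.Quotient.mk (J.map (algebraMap C D)))).IsPrime := inferInstance
  let P := p.comap (Ideal.Quotient.mk (J.map (algebraMap C D)))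
  have hJP : J.map (algebraMap C D) ≤ P := Ideal.mk_ker.ge.trans (Ideal.comap_mono bot_le)
  have hle : P.comap (algebraMap C D) ≤ q := by
    rw [← IsLocalization.AtPrime.comap_maximalIdeal D q]
    exact Ideal.comap_mono (le_maximalIdeal hP.ne_top)
  have hq : q ≤ P.comap (algebraMap C D) :=
    hmin _ (Ideal.IsPrime.comap _) (Ideal.map_le_iff_le_comap.1 hJP) hle
  have hPm : P = maximalIdeal D := by
    refine le_antisymm (le_maximalIdeal hP.ne_top) ?_
    rw [← IsLocalization.AtPrime.map_eq_maximalIdeal q D, Ideal.map_le_iff_le_comap]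
    exact hq
  rw [← Ideal.map_comap_of_surjective (Ideal.Quotient.mk (J.map (algebraMap C D))) Ideal.Quotient.mk_surjective p,
    show p.comap (Ideal.Quotient.mk (J.map (algebraMap C D))) = maximalIdeal D from hPm]
  refine Ideal.IsMaximal.map_of_surjective_of_ker_le Ideal.Quotient.mk_surjective ?_
  rw [Ideal.mk_ker]
  exact hJP.trans hPm.le

/-- The finiteness of the quotient of an isolated point of the closed fibre. -/
theorem finite_localization_of_isolated {A C D : Type u} [CommRing A] [IsLocalRing A]
    [IsAdicComplete (maximalIdeal A) A] [CommRing C] [IsNoetherianRing C] [Algebra A C] [Algebra.FiniteType A C]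
    [CommRing D] [IsLocalRing D] [IsNoetherianRing D] [Algebra C D] [Algebra A D] [IsScalarTower A C D]
    (q : Ideal C) [q.IsMaximal] [IsLocalization.AtPrime D q] (hq : q.comap (algebraMap A C) = maximalIdeal A)
    (hmin : ∀ p : Ideal C, p.IsPrime → (maximalIdeal A).map (algebraMap A C) ≤ p → p ≤ q → q ≤ p) :
    Module.Finite A D := by
  let J := (maximalIdeal A).map (algebraMap A C)
  have hJq : J ≤ q := Ideal.map_le_iff_le_comap.2 hq.ge
  haveI : IsLocalHom (algebraMap A D) := by
    refine ((IsLocalRing.local_hom_TFAE (algebraMap A D)).out 0 4).2 ?_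
    rw [IsScalarTower.algebraMap_eq A C D, ← Ideal.comap_comap,
      show Ideal.comap (algebraMap C D) (maximalIdeal D) = q from IsLocalization.AtPrime.comap_maximalIdeal D q, hq]
  haveI := isHausdorff_of_localHom (A := A) (D := D)
  haveI := artinian_quotient_localization (D := D) q J hJq hmin
  have hne : J.map (algebraMap C D) ≠ ⊤ := by
    intro h
    refine (maximalIdeal.isMaximal D).ne_top (top_le_iff.1 (h.ge.trans ?_))
    rw [← IsLocalization.AtPrime.map_eq_maximalIdeal q D]
    exact Ideal.map_mono hJq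
  let R := D ⧸ J.map (algebraMap C D)
  have hsurj : Function.Surjective (algebraMap C R) := surjective_quotient_of_artinian q _ hne
  haveI : Algebra.FiniteType A R := Algebra.FiniteType.of_surjective (IsScalarTower.toAlgHom A C R) hsurj
  have hm : ∀ a ∈ maximalIdeal A, algebraMap A R a = 0 := fun a ha => by
    show Ideal.Quotient.mk (J.map (algebraMap C D)) (algebraMap A D a) = 0
    rw [Ideal.Quotient.eq_zero_iff_mem, IsScalarTower.algebraMap_apply A C D]
    exact Ideal.mem_map_of_mem _ (Ideal.mem_map_of_mem _ ha)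
  letI : Algebra (ResidueField A) R := (Ideal.Quotient.lift (maximalIdeal A) (algebraMap A R) hm).toAlgebra
  haveI : IsScalarTower A (ResidueField A) R := .of_algebraMap_eq fun _ => rfl
  haveI : Algebra.FiniteType (ResidueField A) R := Algebra.FiniteType.of_restrictScalars_finiteType A _ _
  haveI : Module.Finite (ResidueField A) R := (Module.finite_iff_isArtinianRing _ _).2 inferInstance
  haveI : Module.Finite A (ResidueField A) :=
    Module.Finite.of_surjective (Algebra.linearMap A (ResidueField A)) residue_surjective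
  haveI : Module.Finite A R := Module.Finite.trans (ResidueField A) R
  refine AdicLemmas.module_finite_of_quotient_finite (maximalIdeal A) D ?_
  have he : (maximalIdeal A • ⊤ : Submodule A D) = (J.map (algebraMap C D)).restrictScalars A := by
    rw [Ideal.smul_top_eq_map, IsScalarTower.algebraMap_eq A C D, Ideal.map_map]
  exact Module.Finite.equiv ((Submodule.quotEquivOfEq _ _ he).trans
    (Submodule.Quotient.restrictScalarsEquiv A (J.map (algebraMap C D)))).symm

/-- A localization of a domain which is finite over the base is a quotient of the domain. -/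
theorem surjective_algebraMap_of_finite {A B D : Type u} [CommRing A] [CommRing B] [CommRing D] [Algebra A B]
    [Algebra A D] [Algebra B D] [IsScalarTower A B D] [Algebra.IsIntegral A D] (M : Submonoid B) [IsLocalization M D] :
    Function.Surjective (algebraMap B D) := by
  intro z
  obtain ⟨b, s, rfl⟩ := IsLocalization.exists_mk'_eq M z
  let u := algebraMap B D s
  let v := IsLocalization.mk' D 1 s
  have huv : u * v = 1 := by
    show algebraMap B D s * IsLocalization.mk' D 1 s = 1
    rw [mul_comm, IsLocalization.mk'_spec, map_one]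
  obtain ⟨p, hp, hpv⟩ := Algebra.IsIntegral.isIntegral (R := A) v
  suffices hv : v ∈ (algebraMap B D).range by
    obtain ⟨w, hw⟩ := hv
    exact ⟨b * w, by rw [map_mul, hw, IsLocalization.mul_mk'_eq_mk'_of_mul, mul_one]⟩
  have hA : ∀ a, algebraMap A D a ∈ (algebraMap B D).range := fun a =>
    ⟨algebraMap A B a, (IsScalarTower.algebraMap_apply A B D a).symm⟩
  have hu : u ∈ (algebraMap B D).range := ⟨s, rfl⟩
  let d := p.natDegree
  rcases Nat.eq_zero_or_pos d with hd | hd
  · rw [Polynomial.eval₂_eq_sum_range, show p.natDegree = 0 from hd] at hpv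
    have hc : p.coeff 0 = 1 := by
      have := hp.coeff_natDegree
      rwa [show p.natDegree = 0 from hd] at this
    simp [hc] at hpv
    haveI : Subsingleton D := subsingleton_of_zero_eq_one hpv.symm
    exact ⟨0, Subsingleton.elim _ _⟩
  rw [Polynomial.eval₂_eq_sum_range, Finset.sum_range_succ, hp.coeff_natDegree, map_one, one_mul] at hpv
  have hv : v = - ∑ i ∈ Finset.range d, algebraMap A D (p.coeff i) * u ^ (d - 1 - i) := by
    have h := congrArg (· * u ^ (d - 1)) hpv
    simp only [zero_mul, add_mul, Finset.sum_mul] at h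
    have hd' : v ^ p.natDegree * u ^ (d - 1) = v := by
      conv_lhs => rw [show p.natDegree = (d - 1) + 1 from by omega]
      rw [pow_succ, mul_right_comm, ← mul_pow, mul_comm v u, huv, one_pow, one_mul]
    rw [hd'] at h
    rw [eq_neg_iff_add_eq_zero, add_comm]
    refine Eq.trans ?_ h
    congr 1
    refine Finset.sum_congr rfl fun i hi => ?_
    have hid : i < d := Finset.mem_range.1 hi
    rw [mul_assoc]
    congr 1
    conv_rhs => rw [show d - 1 = i + (d - 1 - i) by omega, pow_add, ← mul_assoc, ← mul_pow, mul_comm v u, huv,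
      one_pow, one_mul]
  rw [hv]
  exact neg_mem (sum_mem fun i _ => mul_mem (hA _) (pow_mem hu _))

/-- The algebraic quasi-section. -/
theorem exists_finite_prime_quotient {A B : Type u} [CommRing A] [IsDomain A] [IsNoetherianRing A] [IsLocalRing A]
    [IsAdicComplete (maximalIdeal A) A] [CommRing B] [Algebra A B] [Algebra.FiniteType A B] (q : Ideal B)
    [q.IsMaximal] (hq : q.comap (algebraMap A B) = maximalIdeal A) (n : ℕ) (hn : ringKrullDim A = n)
    (s : Finset B) (hs : (s : Set B) ⊆ q)
    (hmin : q ∈ ((maximalIdeal A).map (algebraMap A B) ⊔ Ideal.span (s : Set B)).minimalPrimes)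
    (hdim : ((n + s.card : ℕ) : ℕ∞) ≤ q.height) :
    ∃ P : Ideal B, P.IsPrime ∧ P ≤ q ∧ P.comap (algebraMap A B) = ⊥ ∧ Module.Finite A (B ⧸ P) ∧ IsLocalRing (B ⧸ P) := by
  haveI : IsNoetherianRing B := Algebra.FiniteType.isNoetherianRing A B
  obtain ⟨P, hPp, hsP, hPq, hht⟩ := exists_prime_large_quotient q s hs n hdim
  let C := B ⧸ P
  haveI hqC : (q.map (Ideal.Quotient.mk P)).IsMaximal := by
    refine Ideal.IsMaximal.map_of_surjective_of_ker_le Ideal.Quotient.mk_surjective ?_
    rw [Ideal.mk_ker]; exact hPq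
  let qC := q.map (Ideal.Quotient.mk P)
  let D := Localization.AtPrime qC
  have hqCA : qC.comap (algebraMap A C) = maximalIdeal A := by
    rw [show algebraMap A C = (Ideal.Quotient.mk P).comp (algebraMap A B) from rfl, ← Ideal.comap_comap,
      Ideal.comap_map_of_surjective _ Ideal.Quotient.mk_surjective, ← RingHom.ker_eq_comap_bot, Ideal.mk_ker,
      sup_eq_left.2 hPq, hq]
  haveI hfinD : Module.Finite A D := by
    refine finite_localization_of_isolated (C := C) qC hqCA fun p hp hmp hpq => ?_
    haveI := hp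
    refine Ideal.map_le_iff_le_comap.2 (hmin.2 ⟨inferInstance, sup_le ?_ ?_⟩ ?_)
    · rw [← Ideal.map_le_iff_le_comap, Ideal.map_map]
      exact hmp
    · refine Ideal.span_le.2 fun b hb => ?_
      show Ideal.Quotient.mk P b ∈ p
      rw [Ideal.Quotient.eq_zero_iff_mem.2 (hsP hb)]
      exact zero_mem _
    · refine (Ideal.comap_mono hpq).trans ?_
      rw [Ideal.comap_map_of_surjective _ Ideal.Quotient.mk_surjective, ← RingHom.ker_eq_comap_bot, Ideal.mk_ker]
      exact sup_le le_rfl hPq
  haveI : Algebra.IsIntegral A D := Algebra.IsIntegral.of_finite A D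
  have hsurjD : Function.Surjective (algebraMap C D) := surjective_algebraMap_of_finite (A := A) qC.primeCompl
  have hinj : Function.Injective (algebraMap C D) :=
    IsLocalization.injective D qC.primeCompl_le_nonZeroDivisors
  let e : C ≃ₐ[A] D := AlgEquiv.ofBijective (IsScalarTower.toAlgHom A C D) ⟨hinj, hsurjD⟩
  haveI : Module.Finite A C := Module.Finite.equiv e.toLinearEquiv.symm
  refine ⟨P, hPp, hPq, ?_, inferInstance, e.toRingEquiv.symm.isLocalRing⟩
  -- injectivity
  by_contra hne
  obtain ⟨a, haP, ha0⟩ := Submodule.exists_mem_ne_zero_of_ne_bot hne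
  let p := P.comap (algebraMap A B)
  have hd : ringKrullDim C ≤ ringKrullDim (A ⧸ p) := by
    letI : Algebra (A ⧸ p) C := (Ideal.quotientMap P (algebraMap A B) le_rfl).toAlgebra
    haveI : IsScalarTower A (A ⧸ p) C := .of_algebraMap_eq fun _ => rfl
    haveI : Algebra.IsIntegral (A ⧸ p) C := Algebra.IsIntegral.tower_top A
    exact SMT.ringKrullDim_le_of_isIntegral
  have hD : ringKrullDim D = qC.height := IsLocalization.AtPrime.ringKrullDim_eq_height qC D
  have hC : (n : WithBot ℕ∞) ≤ ringKrullDim C := by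
    rw [ringKrullDim_eq_of_ringEquiv e.toRingEquiv, hD]
    exact WithBot.coe_le_coe.2 hht
  have h1 : ringKrullDim (A ⧸ p) ≤ ringKrullDim (A ⧸ Ideal.span {a}) :=
    ringKrullDim_le_of_surjective (Ideal.Quotient.factor ((Ideal.span_singleton_le_iff_mem p).2 haP))
      (Ideal.Quotient.factor_surjective _)
  have h2 : ringKrullDim (A ⧸ Ideal.span {a}) + 1 ≤ ringKrullDim A :=
    ringKrullDim_quotient_succ_le_of_nonZeroDivisor (mem_nonZeroDivisors_of_ne_zero ha0)
  have h3 : (n : WithBot ℕ∞) + 1 ≤ n := by
    refine le_trans ?_ (hn ▸ h2)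
    gcongr
    exact hC.trans (hd.trans h1)
  exact absurd h3 (not_le.2 (by exact_mod_cast Nat.lt_succ_self n))

/-- A scheme equidimensional at a closed point of the closed fibre over a complete local domain has a
quasi-section through it. -/
theorem exists_quasiSection {A : Type u} [CommRing A] [IsDomain A] [IsNoetherianRing A] [IsLocalRing A]
    [IsAdicComplete (maximalIdeal A) A] {X : Scheme.{u}} (f : X ⟶ Spec (CommRingCat.of A)) [LocallyOfFiniteType f]
    (x : X) (hx : f x = closedPoint A) (hf : EGA43.IsEquidimAt f x)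
    (hcl : ∀ x' : X, f x' = f x → x ⤳ x' → x' = x) :
    ∃ (A' : Type u) (_ : CommRing A') (_ : IsDomain A') (_ : IsLocalRing A') (_ : Algebra A A') (_ : Module.Finite A A'),
      Function.Injective (algebraMap A A') ∧
      ∃ h : Spec (CommRingCat.of A') ⟶ X, h ≫ f = Spec.map (CommRingCat.ofHom (algebraMap A A')) ∧
        IsImmersion h ∧ x ∈ Set.range h := by
  classical
  obtain ⟨W, hW, hxW, -⟩ := exists_isAffineOpen_mem_and_subset (X := X) (x := x) (U := ⊤) trivial
  let B := Γ(X, W)
  let φ := Spec.preimage (hW.fromSpec ≫ f)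
  letI : Algebra A B := φ.hom.toAlgebra
  have hw : hW.fromSpec ≫ f = Spec.map (CommRingCat.ofHom (algebraMap A B)) := (Spec.map_preimage _).symm
  haveI : Algebra.FiniteType A B :=
    (HasRingHomProperty.Spec_iff (P := @LocallyOfFiniteType)).1 (by rw [Spec.map_preimage]; infer_instance : LocallyOfFiniteType (Spec.map φ))
  haveI : IsNoetherianRing B := Algebra.FiniteType.isNoetherianRing A B
  let c : DimFormulaLib.Chart f x :=
    { A := A, B := B, i := 𝟙 _, j := hW.fromSpec,
      w := by rw [Category.comp_id]; exact hw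
      q := hW.primeIdealOf ⟨x, hxW⟩
      hq := hW.fromSpec_primeIdealOf ⟨x, hxW⟩ }
  have hcomap : (c.p : PrimeSpectrum A) = closedPoint A := c.hp.trans hx
  have hmax : c.q.asIdeal.IsMaximal := by
    refine (PrimeSpectrum.isMax_iff).1 fun z hz => le_of_eq ?_
    have hs : x ⤳ hW.fromSpec z := by
      rw [← c.hq]
      exact (((PrimeSpectrum.le_iff_specializes _ _).1 hz).map hW.fromSpec.continuous)
    have hfz : f (hW.fromSpec z) = f x := by
      have h1 : f x ⤳ f (hW.fromSpec z) := hs.map f.continuous
      rw [hx] at h1 ⊢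
      exact ((IsLocalRing.isClosed_singleton_closedPoint A).closure_eq.le h1.mem_closure)
    exact hW.fromSpec.isOpenEmbedding.injective ((hcl _ hfz hs).trans c.hq.symm)
  haveI := hmax
  -- dimensions
  obtain ⟨a, b, d, t, ha, hb, hd, -, -, haq, hbp, -⟩ := c.dims
  have hn : ringKrullDim A = b := by
    rw [← IsLocalRing.maximalIdeal_height_eq_ringKrullDim, show maximalIdeal A = c.p.asIdeal by rw [hcomap]; rfl, hbp]
    rfl
  let eA : A ≃+* (Spec (CommRingCat.of A)).presheaf.stalk (f x) :=
    (IsLocalization.atUnits A (closedPoint A).asIdeal.primeCompl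
      (S := (Spec.structureSheaf A).presheaf.stalk (closedPoint A))
      fun a ha => of_not_not ha).toRingEquiv.trans
      ((Spec (CommRingCat.of A)).presheaf.stalkCongr (Inseparable.of_eq hx.symm)).commRingCatIsoToRingEquiv
  haveI : IsDomain ((Spec (CommRingCat.of A)).presheaf.stalk (f x)) := eA.symm.toMulEquiv.isDomain A
  have hY : EGA4.IsEquidim ((Spec (CommRingCat.of A)).presheaf.stalk (f x)) := by
    intro p hp
    rw [minimalPrimes_eq_minimals] at hp
    obtain rfl : p = ⊥ := le_antisymm (hp.2 Ideal.isPrime_bot bot_le) bot_le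
    exact ringKrullDim_eq_of_ringEquiv (RingEquiv.quotientBot _)
  have hcat := RatliffLib.isUniversallyCatenary_of_surjective eA.toRingHom eA.surjective
    (RatliffLib.isUniversallyCatenary_of_complete A)
  have hform := S3438.result f x hY hcat hf
  have hab : a = b + d := by
    have h := ha.symm.trans (hform.trans (congrArg₂ (· + ·) hb hd))
    exact_mod_cast h
  -- parameters of the fibre
  let mk' := (Algebra.TensorProduct.includeRight : B →ₐ[A] c.p.asIdeal.Fiber B).toRingHom
  have hdQ : c.Q.asIdeal.height = d := by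
    have h := c.dim_stalk_fibre
    rw [hd] at h
    exact (WithBot.coe_inj.1 h).symm
  have hsurj : Function.Surjective mk' := by
    haveI : c.p.asIdeal.IsMaximal := by rw [hcomap]; exact maximalIdeal.isMaximal A
    have hs : Function.Surjective (algebraMap A c.p.asIdeal.ResidueField) := by
      intro z
      obtain ⟨z, rfl⟩ := (Ideal.bijective_algebraMap_quotient_residueField c.p.asIdeal).2 z
      obtain ⟨z, rfl⟩ := Ideal.Quotient.mk_surjective z
      exact ⟨z, rfl⟩
    exact Algebra.TensorProduct.includeRight_surjective _ hs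
  haveI : IsNoetherianRing (c.p.asIdeal.Fiber B) := isNoetherianRing_of_surjective B _ mk' hsurj
  obtain ⟨s', hs', hcard⟩ := c.Q.asIdeal.exists_finset_card_eq_height_of_isNoetherianRing
  choose g hg using hsurj
  let s := s'.image g
  have hscard : s.card ≤ d := by
    refine Finset.card_image_le.trans (le_of_eq ?_)
    exact_mod_cast hcard.trans hdQ
  have hsq : (s : Set B) ⊆ c.q.asIdeal := by
    intro z hz
    obtain ⟨y, hy, rfl⟩ := Finset.mem_image.1 hz
    rw [← c.comap_Q]
    show mk' (g y) ∈ c.Q.asIdeal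
    rw [hg]
    exact hs'.1.2 (Ideal.subset_span hy)
  have hker : ∀ a ∈ maximalIdeal A, mk' (algebraMap A B a) = 0 := fun a ha => by
    show (1 : c.p.asIdeal.ResidueField) ⊗ₜ[A] algebraMap A B a = 0
    rw [Algebra.algebraMap_eq_smul_one, TensorProduct.tmul_smul, TensorProduct.smul_tmul', Algebra.smul_def,
      mul_one, (Ideal.algebraMap_residueField_eq_zero).2 ((congrArg PrimeSpectrum.asIdeal hcomap).ge ha : a ∈ c.p.asIdeal), TensorProduct.zero_tmul]
  have hmin : c.q.asIdeal ∈ ((maximalIdeal A).map (algebraMap A B) ⊔ Ideal.span (s : Set B)).minimalPrimes := by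
    refine ⟨⟨inferInstance, sup_le ?_ (Ideal.span_le.2 hsq)⟩, fun p hp hpq => ?_⟩
    · rw [Ideal.map_le_iff_le_comap]
      exact (congrArg PrimeSpectrum.asIdeal hcomap).ge
    · haveI := hp.1
      have hkp : RingHom.ker mk' ≤ p := by
        intro z hz
        refine hp.2 (Submodule.mem_sup_left ?_)
        let I := (maximalIdeal A).map (algebraMap A B)
        have hI : ∀ a ∈ c.p.asIdeal, algebraMap A (B ⧸ I) a = 0 := fun a ha =>
          Ideal.Quotient.eq_zero_iff_mem.2 (Ideal.mem_map_of_mem _ ((congrArg PrimeSpectrum.asIdeal hcomap).le ha : a ∈ maximalIdeal A))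
        haveI : c.p.asIdeal.IsMaximal := by rw [hcomap]; exact maximalIdeal.isMaximal A
        let e := RingEquiv.ofBijective _ (Ideal.bijective_algebraMap_quotient_residueField c.p.asIdeal)
        let β : c.p.asIdeal.ResidueField →ₐ[A] B ⧸ I :=
          { (Ideal.Quotient.lift c.p.asIdeal (algebraMap A (B ⧸ I)) hI).comp e.symm.toRingHom with
            commutes' := fun a => by
              show Ideal.Quotient.lift c.p.asIdeal (algebraMap A (B ⧸ I)) hI (e.symm (algebraMap A _ a)) = _
              rw [show e.symm (algebraMap A _ a) = Ideal.Quotient.mk c.p.asIdeal a from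
                e.symm_apply_eq.2 rfl, Ideal.Quotient.lift_mk] }
        let Λ := Algebra.TensorProduct.lift β (Ideal.Quotient.mkₐ A I) fun _ _ => Commute.all _ _
        rw [← Ideal.Quotient.eq_zero_iff_mem]
        have h := congrArg Λ (show mk' z = 0 from hz)
        rw [map_zero] at h
        rw [← h]
        show _ = Λ (1 ⊗ₜ z)
        rw [Algebra.TensorProduct.lift_tmul, map_one, one_mul]
        rfl
      haveI hpm : (p.map mk').IsPrime := Ideal.map_isPrime_of_surjective (fun z => ⟨g z, hg z⟩) hkp
      have hle : p.map mk' ≤ c.Q.asIdeal := Ideal.map_le_iff_le_comap.2 (hpq.trans c.comap_Q.ge)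
      have h := hs'.2 ⟨hpm, Ideal.span_le.2 fun y hy => ?_⟩ hle
      · have h2 := Ideal.comap_mono (f := mk') h
        rw [c.comap_Q, Ideal.comap_map_of_surjective _ (fun z => ⟨g z, hg z⟩), ← RingHom.ker_eq_comap_bot,
          sup_eq_left.2 hkp] at h2
        exact h2
      · rw [← hg y]
        exact Ideal.mem_map_of_mem _ (hp.2 (Submodule.mem_sup_right (Ideal.subset_span (Finset.mem_image_of_mem g hy))))
  obtain ⟨P, hPp, hPq, hP0, hfin, hloc⟩ := exists_finite_prime_quotient c.q.asIdeal
    (congrArg PrimeSpectrum.asIdeal hcomap) b hn s hsq hmin (by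
      rw [show c.q.asIdeal.height = a from haq]
      exact_mod_cast hab ▸ Nat.add_le_add_left hscard b)
  haveI := hPp
  haveI := hfin
  haveI := hloc
  refine ⟨B ⧸ P, inferInstance, inferInstance, inferInstance, inferInstance, inferInstance, ?_,
    Spec.map (CommRingCat.ofHom (Ideal.Quotient.mk P)) ≫ hW.fromSpec, ?_, ?_, ?_⟩
  · rw [RingHom.injective_iff_ker_eq_bot, ← hP0]
    ext z
    exact Ideal.Quotient.eq_zero_iff_mem
  · rw [Category.assoc, hw, ← Spec.map_comp]
    rfl
  · haveI : IsClosedImmersion (Spec.map (CommRingCat.ofHom (Ideal.Quotient.mk P))) :=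
      IsClosedImmersion.spec_of_surjective _ Ideal.Quotient.mk_surjective
    infer_instance
  · refine ⟨(closedPoint (B ⧸ P) : PrimeSpectrum (B ⧸ P)), ?_⟩
    rw [Scheme.Hom.comp_apply]
    refine (congrArg hW.fromSpec (PrimeSpectrum.ext ?_)).trans c.hq
    show (maximalIdeal (B ⧸ P)).comap (Ideal.Quotient.mk P) = c.q.asIdeal
    haveI : (c.q.asIdeal.map (Ideal.Quotient.mk P)).IsMaximal :=
      Ideal.IsMaximal.map_of_surjective_of_ker_le Ideal.Quotient.mk_surjective (Ideal.mk_ker.le.trans hPq)
    rw [← IsLocalRing.eq_maximalIdeal ‹(c.q.asIdeal.map (Ideal.Quotient.mk P)).IsMaximal›,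
      Ideal.comap_map_of_surjective _ Ideal.Quotient.mk_surjective, ← RingHom.ker_eq_comap_bot, Ideal.mk_ker,
      sup_eq_left.2 hPq]

end Groth.Agent.GenIrredLib
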